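/-
General lemmas on an element of order `p` acting on a `q`-group generated by its commutators.
-/
import Mathlib
import Cfsg.Agent.Lib.CoprimeAction.Abelian
import Cfsg.Agent.Lib.PGroups.Frattini

set_option autoImplicit false
set_option linter.style.haveILetI false

open scoped commutatorElement IsMulCommutative

namespace CfsgLib.OddLines

variable {G : Type*} [Group G]

/-- Conjugate of a subgroup. -/
def cj (g : G) (A : Subgroup G) : Subgroup G := A.map (MulAut.conj g).toMonoidHom

theorem mem_cj {g x : G} {A : Subgroup G} : x ∈ cj g A ↔ g⁻¹ * x * g ∈ A := by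
  constructor
  · rintro ⟨y, hy, rfl⟩; simpa [mul_assoc] using hy
  · intro h; exact ⟨_, h, by simp [mul_assoc]⟩

theorem conj_mem_cj {g x : G} {A : Subgroup G} (h : x ∈ A) : g * x * g⁻¹ ∈ cj g A :=
  ⟨x, h, rfl⟩

theorem cj_mul (g h : G) (A : Subgroup G) : cj (g * h) A = cj g (cj h A) := by
  ext x; simp [mem_cj, mul_assoc]

theorem cj_one (A : Subgroup G) : cj 1 A = A := by
  ext x; simp [mem_cj]

theorem cj_inv_cj (g : G) (A : Subgroup G) : cj g⁻¹ (cj g A) = A := by
  rw [← cj_mul, inv_mul_cancel, cj_one]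

theorem cj_cj_inv (g : G) (A : Subgroup G) : cj g (cj g⁻¹ A) = A := by
  rw [← cj_mul, mul_inv_cancel, cj_one]

theorem cj_mono {g : G} {A B : Subgroup G} (h : A ≤ B) : cj g A ≤ cj g B := Subgroup.map_mono h

theorem cj_sup (g : G) (A B : Subgroup G) : cj g (A ⊔ B) = cj g A ⊔ cj g B := Subgroup.map_sup _ _ _

theorem cj_injective (g : G) : Function.Injective (cj g : Subgroup G → Subgroup G) :=
  Function.LeftInverse.injective (cj_inv_cj g)

theorem card_cj (g : G) (A : Subgroup G) : Nat.card (cj g A) = Nat.card A :=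
  (Nat.card_congr (A.equivMapOfInjective _ (MulAut.conj g).injective).toEquiv).symm

theorem cj_eq_iff {g : G} {A : Subgroup G} :
    cj g A = A ↔ g ∈ Subgroup.normalizer (A : Set G) := by
  constructor
  · intro h
    rw [Subgroup.mem_normalizer_iff]
    intro x
    conv_rhs => rw [← h, mem_cj]
    simp [mul_assoc]
  · intro h
    ext x
    rw [mem_cj, ← Subgroup.mem_normalizer_iff''.1 h x]

theorem cj_le {g : G} {A H : Subgroup G} (hg : g ∈ Subgroup.normalizer (H : Set G)) (h : A ≤ H) :
    cj g A ≤ H := by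
  rw [← cj_eq_iff.2 hg]
  exact cj_mono h

theorem cj_eq_of_commute {g : G} {A : Subgroup G}
    (h : g ∈ Subgroup.centralizer (A : Set G)) : cj g A = A :=
  cj_eq_iff.2 (Subgroup.centralizer_le_normalizer _ h)

theorem cj_le_centralizer {g : G} {A : Subgroup G} {S : Set G}
    (hA : A ≤ Subgroup.centralizer S) (hg : ∀ s ∈ S, g⁻¹ * s * g ∈ S) :
    cj g A ≤ Subgroup.centralizer S := by
  intro x hx
  rw [mem_cj] at hx
  refine Subgroup.mem_centralizer_iff.2 fun s hs => ?_
  have := Subgroup.mem_centralizer_iff.1 (hA hx) _ (hg s hs)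
  calc s * x = g * (g⁻¹ * s * g * (g⁻¹ * x * g)) * g⁻¹ := by group
    _ = x * s := by rw [this]; group

/-- In a `q`-group `R`, a subgroup supplementing `⁅R,R⁆` is everything. -/
theorem le_of_le_sup_commutator [Finite G] {q : ℕ} [Fact q.Prime] {R K : Subgroup G}
    (hR : IsPGroup q R) (hK : K ≤ R) (h : R ≤ K ⊔ ⁅R, R⁆) : R ≤ K := by
  have h1 : K.subgroupOf R ⊔ commutator R = ⊤ := by
    refine Subgroup.map_injective R.subtype_injective ?_
    rw [Subgroup.map_sup, Subgroup.map_subgroupOf_eq_of_le hK, ← MonoidHom.range_eq_map,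
      R.range_subtype, Subgroup.map_subtype_commutator]
    exact le_antisymm (sup_le hK (Subgroup.commutator_le_self R)) h
  have h2 : K.subgroupOf R = ⊤ := frattini_nongenerating
    (top_le_iff.1 (h1.ge.trans (sup_le_sup_left (PGroups.commutator_le_frattini hR) _)))
  exact Subgroup.subgroupOf_eq_top.1 h2

/-- A normal subgroup of a nilpotent group which is its own commutator with the group is trivial. -/
theorem eq_bot_of_le_commutator {R V : Subgroup G} (hR : Group.IsNilpotent R) (hV : V ≤ R)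
    (h : V ≤ ⁅V, R⁆) : V = ⊥ := by
  obtain ⟨n, hn⟩ := (Subgroup.isNilpotent_iff_lowerCentralSeries R).1 hR
  have : ∀ k, V ≤ R.lowerCentralSeries k := by
    intro k
    induction k with
    | zero => rwa [Subgroup.lowerCentralSeries_zero]
    | succ k ih =>
      rw [Subgroup.lowerCentralSeries_succ]
      exact h.trans (Subgroup.commutator_mono ih le_rfl)
  exact eq_bot_iff.2 ((this n).trans hn.le)

/-- A `q`-group grows in the normalizer of a proper subgroup. -/
theorem exists_normalizer_not_mem [Finite G] {q : ℕ} [Fact q.Prime] {T U : Subgroup G}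
    (hT : IsPGroup q T) (hU : U < T) :
    ∃ w ∈ T, w ∉ U ∧ w ∈ Subgroup.normalizer (U : Set G) := by
  haveI := hT.isNilpotent
  have hlt : U.subgroupOf T < ⊤ :=
    lt_top_iff_ne_top.mpr fun h => hU.not_ge (Subgroup.subgroupOf_eq_top.mp h)
  obtain ⟨w, hw, hw'⟩ := SetLike.exists_of_lt (Group.normalizerCondition_of_isNilpotent _ hlt)
  refine ⟨w, w.2, hw', CoprimeAction.mem_normalizer_of_conj_mem fun x hx => ?_⟩
  exact (Subgroup.mem_normalizer_iff.mp hw ⟨x, hU.le hx⟩).mp hx

/-- An involutive map of a set of odd size has a fixed point. -/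
theorem exists_fixed_of_odd {α : Type*} [Finite α] (f : α → α) (hf : Function.Involutive f)
    (h : Odd (Nat.card α)) : ∃ x, f x = x := by
  classical
  haveI := Fintype.ofFinite α
  haveI : Fact (Nat.Prime 2) := ⟨Nat.prime_two⟩
  exact Equiv.Perm.exists_fixed_point_of_prime (p := 2) (n := 1) (σ := hf.toPerm)
    (by rw [← Nat.card_eq_fintype_card]; exact h.not_two_dvd_nat)
    (Equiv.ext fun x => by simp [pow_succ, hf x])

/-- If `R = [R,a]` is a group of order prime to `p` and `a` has order `p`, the fixed points of `a`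
lie in the derived subgroup of `R`. -/
theorem centralizer_inf_le_commutator [Finite G] {p : ℕ} {R : Subgroup G} {a : G}
    (hap : a ^ p = 1) (haR : a ∈ Subgroup.normalizer (R : Set G))
    (hcop : (Nat.card R).Coprime p) (hgen : R ≤ ⁅R, Subgroup.zpowers a⁆) :
    R ⊓ Subgroup.centralizer ({a} : Set G) ≤ ⁅R, R⁆ := by
  have hn : ∀ i : ℕ, a ^ i ∈ Subgroup.normalizer (R : Set G) := fun i => pow_mem haR i
  let c : ℕ → R →* R := fun i =>
    { toFun := fun v => ⟨a ^ i * v * (a ^ i)⁻¹, CoprimeAction.conj_mem (hn i) v.2⟩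
      map_one' := Subtype.ext (by simp)
      map_mul' := fun x y => Subtype.ext (by simp [mul_assoc]) }
  let f : R →* Abelianization R := ∏ i ∈ Finset.range p, Abelianization.of.comp (c i)
  have hf : ∀ v, f v = ∏ i ∈ Finset.range p, Abelianization.of (c i v) := fun v => by
    simp [f, MonoidHom.finsetProd_apply]
  have hinv : ∀ v, f (c 1 v) = f v := by
    intro v
    have hs : ∀ i, c i (c 1 v) = c (i + 1) v := fun i => Subtype.ext (by
      simp [c, pow_succ, mul_assoc])
    rw [hf, hf]
    simp only [hs]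
    have h1 := Finset.prod_range_succ (fun i => Abelianization.of (c i v)) p
    have h2 := Finset.prod_range_succ' (fun i => Abelianization.of (c i v)) p
    have hp0 : c p v = c 0 v := Subtype.ext (by simp [c, hap])
    rw [h1, hp0] at h2
    exact (mul_right_cancel h2).symm
  have hinvi : ∀ i v, f (c i v) = f v := by
    intro i
    induction i with
    | zero => intro v; congr 1; exact Subtype.ext (by simp [c])
    | succ i ih =>
      intro v
      rw [show c (i + 1) v = c i (c 1 v) from Subtype.ext (by simp [c, pow_succ, mul_assoc]),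
        ih, hinv]
  have hker : R ≤ f.ker.map R.subtype := by
    refine hgen.trans (Subgroup.commutator_le.2 fun r hr b hb => ?_)
    obtain ⟨i, -, rfl⟩ : ∃ i : ℕ, i ≤ i ∧ a ^ i = b := by
      obtain ⟨i, hi⟩ := (isOfFinOrder_of_finite a).mem_powers_iff_mem_zpowers.2 hb
      exact ⟨i, le_rfl, hi⟩
    refine ⟨⟨r, hr⟩ * c i (⟨r, hr⟩ : R)⁻¹, ?_, ?_⟩
    · show f _ = 1
      rw [map_mul, hinvi, map_inv, mul_inv_cancel]
    · simp [c, commutatorElement_def, mul_assoc]
  intro x hx
  obtain ⟨v, hv, hvx⟩ := hker hx.1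
  have hfix : ∀ i, c i v = v := fun i => Subtype.ext (by
    have hca : Commute (a ^ i) x :=
      (Commute.pow_left ((Subgroup.mem_centralizer_singleton_iff.1 hx.2).symm) i)
    simp only [c, MonoidHom.coe_mk, OneHom.coe_mk]
    rw [show (v : G) = x from hvx, hca.eq, mul_inv_cancel_right])
  have h1 : Abelianization.of v ^ p = 1 := by
    have := hv
    rw [SetLike.mem_coe, MonoidHom.mem_ker, hf] at this
    simpa [hfix, Finset.prod_const] using this
  have h2 : Abelianization.of v = 1 := by
    rw [← orderOf_eq_one_iff]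
    refine Nat.eq_one_of_dvd_coprimes hcop ?_ (orderOf_dvd_of_pow_eq_one h1)
    exact (orderOf_map_dvd _ v).trans (orderOf_dvd_natCard v)
  have h3 : v ∈ commutator R := by
    rw [← Abelianization.ker_of R]; exact h2
  rw [← hvx, ← Subgroup.map_subtype_commutator]
  exact Subgroup.mem_map_of_mem _ h3

/-- If every abelian `A`-invariant subgroup of `R = [R,A]` is centralized by `A`, then so is the
derived subgroup of `R`. -/
theorem derived_le_centralizer [Finite G] {q : ℕ} [Fact q.Prime] {R A : Subgroup G}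
    (hR : IsPGroup q R) (hA : A ≤ Subgroup.normalizer (R : Set G)) (hgen : ⁅R, A⁆ = R)
    (hab : ∀ V : Subgroup G, V ≤ R → ⁅V, V⁆ = ⊥ → A ≤ Subgroup.normalizer (V : Set G) →
      V ≤ Subgroup.centralizer (A : Set G)) :
    ⁅R, R⁆ ≤ Subgroup.centralizer (A : Set G) := by
  by_contra hcon
  let S : Set (Subgroup G) := {V | V ≤ ⁅R, R⁆ ∧ R ≤ Subgroup.normalizer (V : Set G) ∧
    A ≤ Subgroup.normalizer (V : Set G) ∧ ¬ V ≤ Subgroup.centralizer (A : Set G)}
  have hmem : ⁅R, R⁆ ∈ S := ⟨le_rfl,
    Subgroup.le_normalizer.trans (CoprimeAction.normalizer_le_normalizer_commutator R),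
    hA.trans (CoprimeAction.normalizer_le_normalizer_commutator R), hcon⟩
  obtain ⟨V, -, hV⟩ := (Set.toFinite S).exists_le_minimal hmem
  obtain ⟨hVR', hRV, hAV, hVA⟩ := hV.1
  have hVR : V ≤ R := hVR'.trans (Subgroup.commutator_le_self R)
  have hWV : ⁅V, R⁆ ≤ V := Subgroup.le_normalizer_iff_commutator_le_left.1 hRV
  have hnW : R ⊔ A ≤ Subgroup.normalizer ((⁅V, R⁆ : Subgroup G) : Set G) := by
    refine sup_le (le_sup_right.trans (CoprimeAction.sup_le_normalizer_commutator R V)) ?_
    intro x hx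
    refine CoprimeAction.mem_normalizer_of_conj_mem fun w hw => ?_
    have hle : (⁅V, R⁆).map (MulAut.conj x).toMonoidHom ≤ ⁅V, R⁆ := by
      rw [Subgroup.map_commutator]
      refine Subgroup.commutator_mono ?_ ?_
      · rintro _ ⟨v, hv, rfl⟩; exact CoprimeAction.conj_mem (hAV hx) hv
      · rintro _ ⟨v, hv, rfl⟩; exact CoprimeAction.conj_mem (hA hx) hv
    exact hle ⟨w, hw, rfl⟩
  have hWA : ⁅V, R⁆ ≤ Subgroup.centralizer (A : Set G) := by
    by_contra hn
    have hWS : ⁅V, R⁆ ∈ S :=
      ⟨hWV.trans hVR', le_sup_left.trans hnW, le_sup_right.trans hnW, hn⟩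
    have hle : V ≤ ⁅V, R⁆ := hV.2 hWS hWV
    exact hVA ((eq_bot_of_le_commutator hR.isNilpotent hVR hle).le.trans bot_le)
  -- a subgroup normalized by `R` and centralized by `A` is centralized by `[R,A] = R`
  have hWR : ⁅⁅V, R⁆, R⁆ = ⊥ := by
    rw [Subgroup.commutator_eq_bot_iff_le_centralizer]
    intro w hw
    have hle : ⁅R, A⁆ ≤ Subgroup.centralizer ({w} : Set G) := by
      refine Subgroup.commutator_le.2 fun r hr a ha => Subgroup.mem_centralizer_singleton_iff.2 ?_
      have e1 : a * w = w * a := Subgroup.mem_centralizer_iff.1 (hWA hw) a ha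
      have e2 : a * (r⁻¹ * w * r) = r⁻¹ * w * r * a :=
        Subgroup.mem_centralizer_iff.1
          (hWA (CoprimeAction.conj_mem' ((le_sup_left.trans hnW) hr) hw)) a ha
      have e3 : a⁻¹ * w * a = w := by rw [mul_assoc, ← e1, inv_mul_cancel_left]
      have e4 : a * (r⁻¹ * w * r) * a⁻¹ = r⁻¹ * w * r := by rw [e2, mul_inv_cancel_right]
      calc ⁅r, a⁆ * w = r * (a * (r⁻¹ * (a⁻¹ * w * a) * r) * a⁻¹) * r⁻¹ * ⁅r, a⁆ := by
            rw [commutatorElement_def]; group
        _ = r * (a * (r⁻¹ * w * r) * a⁻¹) * r⁻¹ * ⁅r, a⁆ := by rw [e3]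
        _ = w * ⁅r, a⁆ := by rw [e4]; group
    intro r hr
    exact Subgroup.mem_centralizer_singleton_iff.1 (hle (hgen.ge hr))
  have h3 : ⁅⁅R, R⁆, V⁆ = ⊥ :=
    Subgroup.commutator_commutator_eq_bot_of_rotate (by rw [Subgroup.commutator_comm R V]; exact hWR) hWR
  have hVV : ⁅V, V⁆ = ⊥ :=
    eq_bot_iff.2 ((Subgroup.commutator_mono hVR' le_rfl).trans h3.le)
  exact hVA (hab V hVR hVV hAV)

end CfsgLib.OddLines
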