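/-
A conjugation invariant set of subgroups of order `p` whose pairs generate `{q,p}`-groups with a
normal Sylow `q`-subgroup: structure of the solvable subgroups it generates, and quotients.
-/
import Cfsg.Agent.Lib.OddLines.Basic
import Cfsg.Agent.Lib.Cores.Fitting
import Cfsg.Agent.Lib.Cores.PCore

set_option autoImplicit false
set_option linter.style.haveILetI false

open scoped commutatorElement
open Cfsg

namespace CfsgLib.OddLines

variable {G : Type*} [Group G] {p q : ℕ} {D : Set (Subgroup G)}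

/-- The data: `D` is a set of subgroups of order `p`, any two generating a group with normal
`q`-subgroup of index `p`, generated by any two of its members. -/
structure Setting (p q : ℕ) (D : Set (Subgroup G)) : Prop where
  hp : p.Prime
  hq : q.Prime
  hpq : q ≠ p
  hp2 : p ≠ 2
  hq2 : q ≠ 2
  card : ∀ A ∈ D, Nat.card A = p
  conj : ∀ A ∈ D, ∀ g : G, cj g A ∈ D
  line : ∀ A ∈ D, ∀ B ∈ D, A ≠ B → ∃ Q : Subgroup G, IsPGroup q Q ∧
    A ⊔ B ≤ Subgroup.normalizer (Q : Set G) ∧ Q ⊔ A = A ⊔ B
  gen : ∀ A ∈ D, ∀ B ∈ D, A ≠ B → ∀ C ∈ D, ∀ E ∈ D, C ≤ A ⊔ B → E ≤ A ⊔ B → C ≠ E →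
    C ⊔ E = A ⊔ B

/-- All pairs generate groups with abelian `q`-subgroups. -/
def AbLines (q : ℕ) (D : Set (Subgroup G)) : Prop :=
  ∀ A ∈ D, ∀ B ∈ D, A ≠ B → ∀ Q : Subgroup G, Q ≤ A ⊔ B → IsPGroup q Q →
    ⁅Q, Q⁆ = ⊥

/-- Derived subgroups of `q`-groups `R = [R,A]` are centralized by `A`. -/
def Spec (q : ℕ) (D : Set (Subgroup G)) : Prop :=
  ∀ A ∈ D, ∀ R : Subgroup G, IsPGroup q R → A ≤ Subgroup.normalizer (R : Set G) →
    ⁅R, A⁆ = R → ⁅R, R⁆ ≤ Subgroup.centralizer (A : Set G)

/-- The subgroup generated by the members inside `K`. -/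
def span (D : Set (Subgroup G)) (K : Subgroup G) : Subgroup G := sSup {A | A ∈ D ∧ A ≤ K}

theorem span_le (D : Set (Subgroup G)) (K : Subgroup G) : span D K ≤ K :=
  sSup_le fun _ h => h.2

theorem le_span {A K : Subgroup G} (hA : A ∈ D) (h : A ≤ K) : A ≤ span D K := le_sSup ⟨hA, h⟩

theorem span_mono {K L : Subgroup G} (h : K ≤ L) : span D K ≤ span D L :=
  sSup_le fun _ hA => le_span hA.1 (hA.2.trans h)

theorem span_span (K : Subgroup G) : span D (span D K) = span D K :=
  le_antisymm (span_le _ _) (sSup_le fun _ hA => le_span hA.1 (le_span hA.1 hA.2))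

theorem span_of_sSup {s : Set (Subgroup G)} (hs : s ⊆ D) : span D (sSup s) = sSup s :=
  le_antisymm (span_le _ _) (sSup_le fun _ hA => le_span (hs hA) (le_sSup hA))

theorem span_sup {K L : Subgroup G} (hK : span D K = K) (hL : span D L = L) :
    span D (K ⊔ L) = K ⊔ L :=
  le_antisymm (span_le _ _) (sup_le (hK.ge.trans (span_mono le_sup_left))
    (hL.ge.trans (span_mono le_sup_right)))

theorem span_member {A : Subgroup G} (hA : A ∈ D) : span D A = A :=
  le_antisymm (span_le _ _) (le_span hA le_rfl)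

theorem span_line {A B : Subgroup G} (hA : A ∈ D) (hB : B ∈ D) : span D (A ⊔ B) = A ⊔ B :=
  span_sup (span_member hA) (span_member hB)

/-- `O_q` of a subgroup. -/
def qc (q : ℕ) (K : Subgroup G) : Subgroup G := (pCore q K).map K.subtype

theorem qc_le (q : ℕ) (K : Subgroup G) : qc q K ≤ K := Subgroup.map_subtype_le _

theorem isPGroup_qc (q : ℕ) (K : Subgroup G) : IsPGroup q (qc q K) :=
  (Cores.isPGroup_pCore q K).map _

theorem le_normalizer_qc [Finite G] (q : ℕ) (K : Subgroup G) :
    K ≤ Subgroup.normalizer ((qc q K : Subgroup G) : Set G) := fun k hk => by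
  refine CoprimeAction.mem_normalizer_of_conj_mem ?_
  rintro _ ⟨x, hx, rfl⟩
  exact ⟨⟨k, hk⟩ * x * ⟨k, hk⟩⁻¹, (inferInstance : (pCore q K).Normal).conj_mem x hx _, by simp⟩

theorem le_qc {q : ℕ} {K Q : Subgroup G} (hQK : Q ≤ K) (hQ : IsPGroup q Q)
    (hn : K ≤ Subgroup.normalizer (Q : Set G)) : Q ≤ qc q K := by
  haveI : (Q.subgroupOf K).Normal := (Subgroup.normal_subgroupOf_iff_le_normalizer hQK).2 hn
  have h := Cores.le_pCore (N := Q.subgroupOf K)
    (hQ.of_equiv (Subgroup.subgroupOfEquivOfLe hQK).symm)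
  exact fun x hx => ⟨⟨x, hQK hx⟩, h (Subgroup.mem_subgroupOf.2 hx), rfl⟩

/-- Elements of a `p`-power order normalizing a subgroup of order `p` centralize it. -/
theorem le_centralizer_of_isPGroup_sup [Finite G] (hp : p.Prime) {A P : Subgroup G}
    (hA : Nat.card A = p) (hP : IsPGroup p P) (hAP : A ≤ P)
    (hn : P ≤ Subgroup.normalizer (A : Set G)) : P ≤ Subgroup.centralizer (A : Set G) := by
  haveI : Fact p.Prime := ⟨hp⟩
  have hle : ⁅A, P⁆ ≤ A := Subgroup.le_normalizer_iff_commutator_le_left.1 hn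
  rw [← Subgroup.commutator_eq_bot_iff_le_centralizer, Subgroup.commutator_comm]
  by_contra hne
  have h1 : Nat.card ↥(⁅A, P⁆) = p := by
    rcases (Nat.dvd_prime hp).1 (hA ▸ Subgroup.card_dvd_of_le hle) with h | h
    · exact absurd (Subgroup.eq_bot_of_card_eq _ h) hne
    · exact h
  have h2 : ⁅A, P⁆ = A := Subgroup.eq_of_le_of_card_ge hle (by omega)
  have h3 := eq_bot_of_le_commutator hP.isNilpotent hAP h2.ge
  rw [h3, Subgroup.card_bot] at hA
  exact hp.ne_one hA.symm

namespace Setting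

theorem ne_bot (h : Setting p q D) {A : Subgroup G} (hA : A ∈ D) : A ≠ ⊥ := fun e =>
  h.hp.ne_one (by rw [← h.card A hA, e, Subgroup.card_bot])

theorem zpowers_eq (h : Setting p q D) {A : Subgroup G} (hA : A ∈ D) :
    ∃ a, a ^ p = 1 ∧ a ≠ 1 ∧ Subgroup.zpowers a = A := by
  haveI : Fact p.Prime := ⟨h.hp⟩
  obtain ⟨a, ha, ha1⟩ := (Subgroup.bot_or_exists_ne_one A).resolve_left (h.ne_bot hA)
  have hap : a ^ p = 1 := congrArg Subtype.val
    (show (⟨a, ha⟩ : A) ^ p = 1 by rw [← h.card A hA]; exact pow_card_eq_one')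
  refine ⟨a, hap, ha1, ?_⟩
  have hfin : Finite A := Nat.finite_of_card_ne_zero (by rw [h.card A hA]; exact h.hp.ne_zero)
  refine Subgroup.eq_of_le_of_card_ge (Subgroup.zpowers_le.2 ha) ?_
  rw [Nat.card_zpowers, orderOf_eq_prime hap ha1, h.card A hA]

theorem coprime [Finite G] (h : Setting p q D) {A Q : Subgroup G} (hA : A ∈ D)
    (hQ : IsPGroup q Q) : (Nat.card A).Coprime (Nat.card Q) := by
  haveI : Fact q.Prime := ⟨h.hq⟩
  obtain ⟨k, hk⟩ := hQ.exists_card_eq
  rw [hk, h.card A hA]
  exact ((Nat.coprime_primes h.hp h.hq).2 h.hpq.symm).pow_right k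

theorem inf_eq_bot [Finite G] (h : Setting p q D) {A Q : Subgroup G} (hA : A ∈ D)
    (hQ : IsPGroup q Q) : A ⊓ Q = ⊥ :=
  (Subgroup.disjoint_of_coprime_natCard (h.coprime hA hQ)).eq_bot

theorem eq_of_le [Finite G] (h : Setting p q D) {A B : Subgroup G} (hA : A ∈ D) (hB : B ∈ D)
    (hle : A ≤ B) : A = B :=
  Subgroup.eq_of_le_of_card_ge hle (by rw [h.card A hA, h.card B hB])

theorem isSolvable_member (h : Setting p q D) {A : Subgroup G} (hA : A ∈ D) :
    Group.IsSolvable A := by
  obtain ⟨a, -, -, rfl⟩ := h.zpowers_eq hA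
  exact CoprimeAction.isSolvable_zpowers a

/-- A `q`-subgroup of `R A` lies in `R`. -/
theorem qgroup_le [Finite G] (h : Setting p q D) {A R Q : Subgroup G} (hA : A ∈ D)
    (hR : IsPGroup q R) (hAR : A ≤ Subgroup.normalizer (R : Set G)) (hQ : IsPGroup q Q)
    (hQR : Q ≤ R ⊔ A) : Q ≤ R := by
  intro x hx
  have hx' := hQR hx
  rw [← SetLike.mem_coe, Subgroup.coe_mul_of_right_le_normalizer_left R A hAR] at hx'
  obtain ⟨r, hr, a, ha, rfl⟩ := hx'
  have hpow : ∀ n : ℕ, ∃ r' ∈ R, (r * a) ^ n = r' * a ^ n := by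
    intro n
    induction n with
    | zero => exact ⟨1, one_mem _, by simp⟩
    | succ n ih =>
      obtain ⟨r', hr', e⟩ := ih
      refine ⟨r' * (a ^ n * r * (a ^ n)⁻¹),
        R.mul_mem hr' (CoprimeAction.conj_mem (hAR (pow_mem ha n)) hr), ?_⟩
      rw [pow_succ, e, pow_succ]
      group
  obtain ⟨k, hk⟩ := hQ ⟨r * a, hx⟩
  obtain ⟨r', hr', e⟩ := hpow (q ^ k)
  rw [show (r * a) ^ q ^ k = 1 from congrArg Subtype.val hk] at e
  have h1 : a ^ q ^ k ∈ A ⊓ R := ⟨pow_mem ha _, by
    show a ^ q ^ k ∈ R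
    rw [eq_inv_of_mul_eq_one_right e.symm]; exact R.inv_mem hr'⟩
  rw [h.inf_eq_bot hA hR, Subgroup.mem_bot] at h1
  have h2 : a = 1 := by
    rw [← orderOf_eq_one_iff]
    refine Nat.eq_one_of_dvd_coprimes
      (((Nat.coprime_primes h.hp h.hq).2 h.hpq.symm).pow_right k) ?_
      (orderOf_dvd_of_pow_eq_one h1)
    rw [← h.card A hA, ← A.orderOf_mk a ha]
    exact orderOf_dvd_natCard _
  simpa [h2] using hr

/-- Members inside `R A` are conjugate to `A` under `R`. -/
theorem exists_conj [Finite G] (h : Setting p q D) {A B R : Subgroup G} (hA : A ∈ D)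
    (hB : B ∈ D) (hR : IsPGroup q R) (hAR : A ≤ Subgroup.normalizer (R : Set G))
    (hBR : B ≤ R ⊔ A) : ∃ r ∈ R, B = cj r A := by
  obtain ⟨r, hr, hle⟩ := CoprimeAction.exists_le_conj_of_coprime hAR hBR (h.coprime hB hR)
    (Or.inl (h.isSolvable_member hB))
  refine ⟨r, hr, h.eq_of_le hB (h.conj A hA r) fun x hx => ?_⟩
  rw [mem_cj]
  exact CoprimeAction.mem_conj_iff.1 (hle hx)

/-- Distinct members do not commute. -/
theorem not_le_centralizer [Finite G] (h : Setting p q D) {A B : Subgroup G} (hA : A ∈ D)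
    (hB : B ∈ D) (hne : A ≠ B) : ¬ B ≤ Subgroup.centralizer (A : Set G) := by
  intro hc
  obtain ⟨Q, hQ, hn, e⟩ := h.line A hA B hB hne
  have hAQ : A ≤ Subgroup.normalizer (Q : Set G) := le_sup_left.trans hn
  obtain ⟨r, hr, hBr⟩ := h.exists_conj hA hB hQ hAQ (e ▸ le_sup_right)
  have hAc : A ⊔ B ≤ Subgroup.centralizer (A : Set G) := sup_le (by
    obtain ⟨a, -, -, rfl⟩ := h.zpowers_eq hA
    intro x hx
    obtain ⟨i, rfl⟩ := Subgroup.mem_zpowers_iff.1 hx
    refine Subgroup.mem_centralizer_iff.2 fun y hy => ?_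
    obtain ⟨j, rfl⟩ := Subgroup.mem_zpowers_iff.1 hy
    exact zpow_mul_comm a j i) hc
  exact hne (by
    rw [hBr, cj_eq_of_commute (hAc (e ▸ Subgroup.mem_sup_left hr))])

/-- Images under a surjective homomorphism whose kernel contains no member. -/
theorem map {H : Type*} [Group H] [Finite G] [Finite H] (h : Setting p q D) {f : G →* H}
    (hf : Function.Surjective f) (hker : ∀ A ∈ D, ¬ A ≤ f.ker) :
    Setting p q (Subgroup.map f '' D) := by
  have hcard : ∀ A ∈ D, Nat.card (A.map f) = p := by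
    intro A hA
    rcases (Nat.dvd_prime h.hp).1 (h.card A hA ▸ Subgroup.card_map_dvd A f) with e | e
    · exact absurd ((Subgroup.map_eq_bot_iff A).1 (Subgroup.eq_bot_of_card_eq _ e)) (hker A hA)
    · exact e
  have hcj : ∀ (g : G) (A : Subgroup G), (cj g A).map f = cj (f g) (A.map f) := fun g A => by
    rw [cj, cj, Subgroup.map_map, Subgroup.map_map]
    congr 1
    ext x
    simp
  have hcop : ∀ C : Subgroup H, Nat.card C = p → ∀ Q : Subgroup H, IsPGroup q Q →
      (Nat.card C).Coprime (Nat.card Q) := fun C hC Q hQ => by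
    haveI : Fact q.Prime := ⟨h.hq⟩
    obtain ⟨k, hk⟩ := hQ.exists_card_eq
    rw [hk, hC]
    exact ((Nat.coprime_primes h.hp h.hq).2 h.hpq.symm).pow_right k
  -- a member of the image inside the image of a line is the image of a member of that line
  have hlift : ∀ A ∈ D, ∀ B ∈ D, A ≠ B → ∀ C ∈ D, C.map f ≤ A.map f ⊔ B.map f →
      ∃ C' ∈ D, C' ≤ A ⊔ B ∧ C'.map f = C.map f := by
    intro A hA B hB hne C hC hle
    obtain ⟨Q, hQ, hn, e⟩ := h.line A hA B hB hne
    have hn' : A.map f ≤ Subgroup.normalizer ((Q.map f : Subgroup H) : Set H) :=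
      (Subgroup.map_mono (le_sup_left.trans hn)).trans (Subgroup.le_normalizer_map f)
    rw [← Subgroup.map_sup, ← e, Subgroup.map_sup] at hle
    obtain ⟨n, ⟨r, hr, rfl⟩, hle'⟩ := CoprimeAction.exists_le_conj_of_coprime hn' hle
      (hcop _ (hcard C hC) _ (hQ.map f)) (Or.inl (by
        haveI := h.isSolvable_member hC
        exact Group.isSolvable_of_surjective (f.subgroupMap_surjective C)))
    refine ⟨cj r A, h.conj A hA r, ?_, (Subgroup.eq_of_le_of_card_ge ?_ ?_).symm⟩
    · exact cj_le (Subgroup.le_normalizer (e.le (Subgroup.mem_sup_left hr))) le_sup_left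
    · rw [hcj]
      intro x hx
      rw [mem_cj]
      exact CoprimeAction.mem_conj_iff.1 (hle' hx)
    · rw [hcard C hC, hcard _ (h.conj A hA r)]
  refine ⟨h.hp, h.hq, h.hpq, h.hp2, h.hq2, ?_, ?_, ?_, ?_⟩
  · rintro _ ⟨A, hA, rfl⟩; exact hcard A hA
  · rintro _ ⟨A, hA, rfl⟩ g
    obtain ⟨g, rfl⟩ := hf g
    exact ⟨_, h.conj A hA g, hcj g A⟩
  · rintro _ ⟨A, hA, rfl⟩ _ ⟨B, hB, rfl⟩ hne
    have hne' : A ≠ B := fun e => hne (by rw [e])
    obtain ⟨Q, hQ, hn, e⟩ := h.line A hA B hB hne'
    refine ⟨Q.map f, hQ.map f, ?_, by rw [← Subgroup.map_sup, ← Subgroup.map_sup, e]⟩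
    rw [← Subgroup.map_sup]
    exact (Subgroup.map_mono hn).trans (Subgroup.le_normalizer_map f)
  · rintro _ ⟨A, hA, rfl⟩ _ ⟨B, hB, rfl⟩ hne _ ⟨C, hC, rfl⟩ _ ⟨E, hE, rfl⟩ hCL hEL hCE
    have hne' : A ≠ B := fun e => hne (by rw [e])
    obtain ⟨C', hC', hC'L, eC⟩ := hlift A hA B hB hne' C hC hCL
    obtain ⟨E', hE', hE'L, eE⟩ := hlift A hA B hB hne' E hE hEL
    rw [← eC, ← eE, ← Subgroup.map_sup, ← Subgroup.map_sup,
      h.gen A hA B hB hne' C' hC' E' hE' hC'L hE'L fun e => hCE (by rw [← eC, ← eE, e])]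

/-- In a solvable group generated by members, `O_q` and a member generate. -/
theorem pCore_sup_eq_top [Finite G] [Group.IsSolvable G] (h : Setting p q D)
    (htop : sSup D = ⊤) {A : Subgroup G} (hA : A ∈ D) : pCore q G ⊔ A = ⊤ := by
  let π := QuotientGroup.mk' (pCore q G)
  have hπ : Function.Surjective π := QuotientGroup.mk'_surjective _
  have hker : ∀ B ∈ D, ¬ B ≤ π.ker := fun B hB hle => h.ne_bot hB (by
    rw [QuotientGroup.ker_mk'] at hle
    rw [← inf_eq_left.2 hle, h.inf_eq_bot hB (Cores.isPGroup_pCore q G)])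
  have h' := h.map hπ hker
  haveI : Fact q.Prime := ⟨h.hq⟩
  have htop' : sSup (Subgroup.map π '' D) = ⊤ := by
    rw [sSup_image, ← (Subgroup.gc_map_comap π).l_sSup, htop, Subgroup.map_top_of_surjective _ hπ]
  have hcen : ∀ l : ℕ, l.Prime → pCore l (G ⧸ pCore q G) ≤ Subgroup.center _ := by
    intro l hl
    haveI : Fact l.Prime := ⟨hl⟩
    by_cases hlq : l = q
    · rw [hlq, Cores.pCore_quotient_pCore]; exact bot_le
    intro n hn
    rw [Subgroup.mem_center_iff]
    intro x
    have hall : (⊤ : Subgroup (G ⧸ pCore q G)) ≤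
        Subgroup.centralizer ({n} : Set (G ⧸ pCore q G)) := by
      rw [← htop']
      refine sSup_le fun B hB => ?_
      have hfix : cj n B = B := by
        by_contra hne
        obtain ⟨Q, hQ, hn', e⟩ := h'.line B hB _ (h'.conj B hB n) (Ne.symm hne)
        have hle : Q ≤ B ⊔ pCore l (G ⧸ pCore q G) := le_sup_left.trans (e.le.trans
          (sup_le le_sup_left (fun x hx => by
            rw [mem_cj] at hx
            have := (B ⊔ pCore l (G ⧸ pCore q G)).mul_mem ((B ⊔ pCore l _).mul_mem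
              (Subgroup.mem_sup_right hn) (Subgroup.mem_sup_left hx))
              (inv_mem (Subgroup.mem_sup_right (S := B) hn))
            simpa [mul_assoc] using this)))
        have hd : Nat.card Q ∣ p * Nat.card (pCore l (G ⧸ pCore q G)) := by
          rw [← h'.card B hB]
          exact (Subgroup.card_dvd_of_le hle).trans (Cores.card_sup_dvd B _)
        obtain ⟨k, hk⟩ := hQ.exists_card_eq
        obtain ⟨j, hj⟩ := (Cores.isPGroup_pCore l (G ⧸ pCore q G)).exists_card_eq
        rw [hk, hj] at hd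
        have hk0 : k = 0 := by
          by_contra hk0
          have := (h.hq.coprime_iff_not_dvd).1 (Nat.Coprime.mul_right
            ((Nat.coprime_primes h.hq h.hp).2 h.hpq)
            (((Nat.coprime_primes h.hq hl).2 (Ne.symm hlq)).pow_right j))
          exact this ((dvd_pow_self q hk0).trans hd)
        rw [hk0, pow_zero] at hk
        rw [Subgroup.eq_bot_of_card_eq _ hk, bot_sup_eq] at e
        exact hne (h'.eq_of_le (h'.conj B hB n) hB (le_sup_right.trans e.ge))
      have hnB := cj_eq_iff.1 hfix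
      have hcomm : n ∈ Subgroup.centralizer (B : Set (G ⧸ pCore q G)) := by
        by_cases hlp : l = p
        · subst hlp
          by_cases hBP : B ≤ pCore l (G ⧸ pCore q G)
          · have := le_centralizer_of_isPGroup_sup hl (h'.card B hB)
              ((Cores.isPGroup_pCore l (G ⧸ pCore q G)).to_le
                (inf_le_left : pCore l _ ⊓ Subgroup.normalizer (B : Set _) ≤ _))
              (le_inf hBP Subgroup.le_normalizer) inf_le_right
            exact this ⟨hn, hnB⟩
          · refine Subgroup.mem_centralizer_iff.2 fun b hb => ?_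
            have hmem : ⁅n, b⁆ ∈ pCore l (G ⧸ pCore q G) ⊓ B := by
              refine ⟨?_, B.mul_mem (CoprimeAction.conj_mem hnB hb) (inv_mem hb)⟩
              rw [commutatorElement_def, mul_assoc n b, mul_assoc n]
              exact Subgroup.mul_mem _ hn
                ((inferInstance : (pCore l (G ⧸ pCore q G)).Normal).conj_mem _ (inv_mem hn) b)
            have hbot : pCore l (G ⧸ pCore q G) ⊓ B = ⊥ := by
              rcases (Nat.dvd_prime hl).1 (h'.card B hB ▸ Subgroup.card_dvd_of_le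
                (inf_le_right : pCore l (G ⧸ pCore q G) ⊓ B ≤ B)) with e | e
              · exact Subgroup.eq_bot_of_card_eq _ e
              · exact absurd (inf_eq_right.1 (Subgroup.eq_of_le_of_card_ge inf_le_right
                  (by rw [h'.card B hB, e]))) hBP
            rw [hbot, Subgroup.mem_bot, commutatorElement_eq_one_iff_mul_comm] at hmem
            exact hmem.symm
        · refine Subgroup.mem_centralizer_iff.2 fun b hb => ?_
          have hmem : ⁅n, b⁆ ∈ pCore l (G ⧸ pCore q G) ⊓ B := by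
            refine ⟨?_, B.mul_mem (CoprimeAction.conj_mem hnB hb) (inv_mem hb)⟩
            rw [commutatorElement_def, mul_assoc n b, mul_assoc n]
            exact Subgroup.mul_mem _ hn
              ((inferInstance : (pCore l (G ⧸ pCore q G)).Normal).conj_mem _ (inv_mem hn) b)
          haveI : Fact p.Prime := ⟨h.hp⟩
          have hbot : pCore l (G ⧸ pCore q G) ⊓ B = ⊥ :=
            disjoint_iff.1 (IsPGroup.disjoint_of_ne l p hlp _ _
              (Cores.isPGroup_pCore l _) (IsPGroup.of_card (n := 1) (by rw [pow_one, h'.card B hB])))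
          rw [hbot, Subgroup.mem_bot, commutatorElement_eq_one_iff_mul_comm] at hmem
          exact hmem.symm
      intro b hb
      exact Subgroup.mem_centralizer_singleton_iff.2 (Subgroup.mem_centralizer_iff.1 hcomm b hb)
    exact Subgroup.mem_centralizer_singleton_iff.1 (hall (Subgroup.mem_top x))
  have hF : fittingSubgroup (G ⧸ pCore q G) ≤ Subgroup.center _ := by
    rw [Cores.fittingSubgroup_eq_iSup_pCore]
    exact iSup_le fun l => hcen l (Nat.prime_of_mem_primeFactors l.2)
  have habel : ∀ x : G ⧸ pCore q G, x ∈ Subgroup.center _ := by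
    intro x
    refine hF (Cores.centralizer_fittingSubgroup_le (Subgroup.mem_centralizer_iff.2 fun y hy => ?_))
    exact (Subgroup.mem_center_iff.1 (hF hy) x).symm
  have heq : ∀ B ∈ D, B.map π = A.map π := by
    intro B hB
    by_contra hne
    refine h'.not_le_centralizer ⟨A, hA, rfl⟩ ⟨B, hB, rfl⟩ (Ne.symm hne) fun x _ => ?_
    exact Subgroup.mem_centralizer_iff.2 fun y _ => Subgroup.mem_center_iff.1 (habel x) y
  rw [eq_top_iff, ← htop]
  refine sSup_le fun B hB => ?_
  have := (Subgroup.le_comap_map π B).trans (Subgroup.comap_mono (heq B hB).le)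
  rwa [Subgroup.comap_map_eq, QuotientGroup.ker_mk', sup_comm] at this

/-- The setting restricted to a subgroup. -/
theorem comap (h : Setting p q D) (K : Subgroup G) :
    Setting p q {X : Subgroup K | X.map K.subtype ∈ D} := by
  have hinj := Subgroup.map_injective K.subtype_injective
  refine ⟨h.hp, h.hq, h.hpq, h.hp2, h.hq2, ?_, ?_, ?_, ?_⟩
  · intro A hA
    rw [← h.card _ hA, Subgroup.card_map_of_injective K.subtype_injective]
  · intro A hA g
    show (cj g A).map K.subtype ∈ D
    have : (cj g A).map K.subtype = cj (g : G) (A.map K.subtype) := by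
      rw [cj, cj, Subgroup.map_map, Subgroup.map_map]
      congr 1
    rw [this]
    exact h.conj _ hA g
  · intro A hA B hB hne
    obtain ⟨Q, hQ, hn, e⟩ := h.line _ hA _ hB fun e => hne (hinj e)
    have hQK : Q ≤ K := le_sup_left.trans (e.le.trans
      (sup_le (Subgroup.map_subtype_le A) (Subgroup.map_subtype_le B)))
    refine ⟨Q.subgroupOf K, hQ.of_equiv (Subgroup.subgroupOfEquivOfLe hQK).symm, ?_, ?_⟩
    · intro x hx
      have hx' : (x : G) ∈ Subgroup.normalizer (Q : Set G) := hn (by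
        rw [← Subgroup.map_sup]; exact Subgroup.mem_map_of_mem _ hx)
      rw [Subgroup.mem_normalizer_iff] at hx' ⊢
      intro y
      simp only [Subgroup.mem_subgroupOf, Subgroup.coe_mul, Subgroup.coe_inv]
      exact hx' y
    · refine hinj ?_
      rw [Subgroup.map_sup, Subgroup.map_subgroupOf_eq_of_le hQK, e, Subgroup.map_sup]
  · intro A hA B hB hne C hC E hE hCL hEL hCE
    refine hinj ?_
    rw [Subgroup.map_sup, Subgroup.map_sup]
    refine h.gen _ hA _ hB (fun e => hne (hinj e)) _ hC _ hE ?_ ?_ fun e => hCE (hinj e)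
    · rw [← Subgroup.map_sup]; exact Subgroup.map_mono hCL
    · rw [← Subgroup.map_sup]; exact Subgroup.map_mono hEL

theorem sSup_comap {K : Subgroup G} (hK : span D K = K) :
    sSup {X : Subgroup K | X.map K.subtype ∈ D} = ⊤ := by
  refine Subgroup.map_injective K.subtype_injective (le_antisymm ?_ ?_)
  · exact Subgroup.map_mono le_top
  · rw [← MonoidHom.range_eq_map, K.range_subtype]
    conv_lhs => rw [← hK]
    refine sSup_le fun A hA => ?_
    rw [← Subgroup.map_subgroupOf_eq_of_le hA.2]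
    exact Subgroup.map_mono (le_sSup (by
      show (A.subgroupOf K).map K.subtype ∈ D
      rw [Subgroup.map_subgroupOf_eq_of_le hA.2]
      exact hA.1))

/-- Structure of a solvable subgroup generated by members. -/
theorem struct [Finite G] (h : Setting p q D) {K : Subgroup G} (hK : span D K = K)
    (hs : Group.IsSolvable K) {A : Subgroup G} (hA : A ∈ D) (hAK : A ≤ K) :
    qc q K ⊔ A = K ∧ ⁅qc q K, A⁆ = qc q K := by
  have hsup : qc q K ⊔ A = K := by
    have := (h.comap K).pCore_sup_eq_top (sSup_comap hK) (A := A.subgroupOf K)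
      (by show _ ∈ D; rwa [Subgroup.map_subgroupOf_eq_of_le hAK])
    have := congrArg (Subgroup.map K.subtype) this
    rwa [Subgroup.map_sup, Subgroup.map_subgroupOf_eq_of_le hAK, ← MonoidHom.range_eq_map,
      K.range_subtype] at this
  refine ⟨hsup, ?_⟩
  have hAn : A ≤ Subgroup.normalizer ((qc q K : Subgroup G) : Set G) :=
    hAK.trans (le_normalizer_qc q K)
  set R := qc q K with hR
  set S := ⁅R, A⁆ with hS
  have hSR : S ≤ R := CoprimeAction.commutator_le_left hAn
  have hSn : R ⊔ A ≤ Subgroup.normalizer (S : Set G) := CoprimeAction.sup_le_normalizer_commutator A R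
  -- every conjugate of `A` under `K` lies in `S A`, so `K = S A`
  have hKS : K ≤ S ⊔ A := by
    conv_lhs => rw [← hK]
    refine sSup_le fun B hB => ?_
    obtain ⟨r, hr, rfl⟩ := h.exists_conj hA hB.1 (isPGroup_qc q K) hAn (hsup.ge.trans' hB.2)
    intro x hx
    rw [mem_cj] at hx
    have : x = ⁅r, r⁻¹ * x * r⁆ * (r⁻¹ * x * r) := by rw [commutatorElement_def]; group
    rw [this]
    exact Subgroup.mul_mem_sup (Subgroup.commutator_mem_commutator hr hx) hx
  exact le_antisymm hSR (h.qgroup_le hA ((isPGroup_qc q K).to_le hSR)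
    (le_sup_right.trans hSn) (isPGroup_qc q K) ((qc_le q K).trans hKS))

end Setting

end CfsgLib.OddLines
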