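/-
Maximal member-generated subgroups with nonabelian `q`-part in a minimal counterexample, and the
intersections of two of them.
-/
import Cfsg.Agent.Lib.OddLines.Setting
import Cfsg.Agent.Lib.TwoGroups.NormalAbelian

set_option autoImplicit false
set_option linter.style.haveILetI false

open scoped commutatorElement
open Cfsg

namespace CfsgLib.OddLines

variable {G : Type*} [Group G] {p q : ℕ} {D : Set (Subgroup G)}

/-- A minimal counterexample to solvability. -/
structure Ctx (p q : ℕ) (D : Set (Subgroup G)) : Prop extends Setting p q D where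
  top : sSup D = ⊤
  notsol : ¬ Group.IsSolvable G
  sol : ∀ K : Subgroup G, span D K = K → K ≠ ⊤ → Group.IsSolvable K
  center : Subgroup.center G = ⊥
  odd : oddCore G = ⊥

/-- The `q`-part of `K` is abelian. -/
def Ab (q : ℕ) (K : Subgroup G) : Prop := ⁅qc q K, qc q K⁆ = ⊥

/-- A maximal member-generated proper subgroup with nonabelian `q`-part. -/
def IsMax (q : ℕ) (D : Set (Subgroup G)) (M : Subgroup G) : Prop :=
  span D M = M ∧ M ≠ ⊤ ∧ ¬ Ab q M ∧ ∀ K, span D K = K → K ≠ ⊤ → M ≤ K → K = M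

theorem cj_qc [Finite G] (q : ℕ) (g : G) (K : Subgroup G) : cj g (qc q K) = qc q (cj g K) := by
  have key : ∀ (g : G) (K : Subgroup G), cj g (qc q K) ≤ qc q (cj g K) := by
    intro g K
    refine le_qc (cj_mono (qc_le q K)) ((isPGroup_qc q K).map _) ?_
    exact (Subgroup.map_mono (le_normalizer_qc q K)).trans (Subgroup.le_normalizer_map _)
  refine le_antisymm (key g K) fun x hx => ?_
  have h2 := key g⁻¹ (cj g K) (conj_mem_cj (g := g⁻¹) hx)
  rw [cj_inv_cj] at h2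
  rw [mem_cj]
  simpa using h2

theorem normalizer_le_normalizer_qc [Finite G] (q : ℕ) (K : Subgroup G) :
    Subgroup.normalizer (K : Set G) ≤ Subgroup.normalizer ((qc q K : Subgroup G) : Set G) := by
  intro g hg
  rw [← cj_eq_iff, cj_qc, cj_eq_iff.2 hg]

namespace Setting

theorem cj_span (h : Setting p q D) (g : G) (K : Subgroup G) :
    cj g (span D K) = span D (cj g K) := by
  have key : ∀ (g : G) (K : Subgroup G), cj g (span D K) ≤ span D (cj g K) := by
    intro g K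
    rw [cj, Subgroup.map_le_iff_le_comap]
    exact sSup_le fun A hA => Subgroup.map_le_iff_le_comap.1
      (le_span (h.conj A hA.1 g) (cj_mono hA.2))
  refine le_antisymm (key g K) ?_
  have := cj_mono (g := g) (key g⁻¹ (cj g K))
  rwa [cj_cj_inv, cj_inv_cj] at this

end Setting

namespace Ctx

variable [Finite G]

theorem struct' (h : Ctx p q D) {K : Subgroup G} (hK : span D K = K) (hne : K ≠ ⊤)
    {A : Subgroup G} (hA : A ∈ D) (hAK : A ≤ K) :
    qc q K ⊔ A = K ∧ ⁅qc q K, A⁆ = qc q K :=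
  h.toSetting.struct hK (h.sol K hK hne) hA hAK

omit [Finite G] in
theorem exists_member (_h : Ctx p q D) {K : Subgroup G} (hK : span D K = K) (hne : K ≠ ⊥) :
    ∃ A ∈ D, A ≤ K := by
  by_contra hcon
  push Not at hcon
  exact hne (hK ▸ eq_bot_iff.2 (sSup_le fun A hA => absurd hA.2 (hcon A hA.1)))

theorem le_qc' (h : Ctx p q D) {K Q : Subgroup G} (hK : span D K = K) (hne : K ≠ ⊤)
    (hQK : Q ≤ K) (hQ : IsPGroup q Q) : Q ≤ qc q K := by
  rcases eq_or_ne K ⊥ with rfl | hK0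
  · exact hQK.trans bot_le
  obtain ⟨A, hA, hAK⟩ := h.exists_member hK hK0
  exact h.qgroup_le hA (isPGroup_qc q K) (hAK.trans (le_normalizer_qc q K)) hQ
    (hQK.trans (h.struct' hK hne hA hAK).1.ge)

theorem qc_mono (h : Ctx p q D) {X K : Subgroup G} (hK : span D K = K) (hne : K ≠ ⊤)
    (hXK : X ≤ K) : qc q X ≤ qc q K :=
  h.le_qc' hK hne ((qc_le q X).trans hXK) (isPGroup_qc q X)

theorem derived_le (h : Ctx p q D) (hs : Spec q D) {K : Subgroup G} (hK : span D K = K)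
    (hne : K ≠ ⊤) : ⁅qc q K, qc q K⁆ ≤ Subgroup.centralizer (K : Set G) := by
  rw [Subgroup.le_centralizer_iff]
  conv_lhs => rw [← hK]
  refine sSup_le fun A hA => ?_
  rw [Subgroup.le_centralizer_iff]
  exact hs A hA.1 _ (isPGroup_qc q K) (hA.2.trans (le_normalizer_qc q K))
    (h.struct' hK hne hA.1 hA.2).2

theorem fixed_le_derived (h : Ctx p q D) {K A : Subgroup G} (hK : span D K = K) (hne : K ≠ ⊤)
    (hA : A ∈ D) (hAK : A ≤ K) :
    qc q K ⊓ Subgroup.centralizer (A : Set G) ≤ ⁅qc q K, qc q K⁆ := by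
  obtain ⟨a, hap, -, rfl⟩ := h.zpowers_eq hA
  haveI : Fact q.Prime := ⟨h.hq⟩
  obtain ⟨k, hk⟩ := (isPGroup_qc q K).exists_card_eq
  rw [Subgroup.zpowers_eq_closure, Subgroup.centralizer_closure]
  exact centralizer_inf_le_commutator hap
    (hAK.trans (le_normalizer_qc q K) (Subgroup.mem_zpowers a))
    (hk ▸ ((Nat.coprime_primes h.hq h.hp).2 h.hpq).pow_left k)
    (h.struct' hK hne hA hAK).2.ge

theorem normalizer_inter_qgroup (h : Ctx p q D) {R A : Subgroup G} (hA : A ∈ D) (hR : IsPGroup q R)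
    (hAR : A ≤ Subgroup.normalizer (R : Set G)) {r : G} (hr : r ∈ R) (hrA : cj r A = A) :
    r ∈ Subgroup.centralizer (A : Set G) := by
  refine Subgroup.mem_centralizer_iff.2 fun a ha => ?_
  have hmem : ⁅r, a⁆ ∈ A ⊓ R := by
    refine ⟨A.mul_mem (CoprimeAction.conj_mem (cj_eq_iff.1 hrA) ha) (inv_mem ha), ?_⟩
    rw [commutatorElement_def, mul_assoc r a, mul_assoc r]
    exact R.mul_mem hr (CoprimeAction.conj_mem (hAR ha) (inv_mem hr))
  rw [h.inf_eq_bot hA hR, Subgroup.mem_bot, commutatorElement_eq_one_iff_mul_comm] at hmem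
  exact hmem.symm

/-- An element centralizing one member and normalizing another centralizes the latter. -/
theorem centralizer_of_fix (h : Ctx p q D) {A B : Subgroup G} (hA : A ∈ D) (hB : B ∈ D) {g : G}
    (hgA : g ∈ Subgroup.centralizer (A : Set G)) (hgB : cj g B = B) :
    g ∈ Subgroup.centralizer (B : Set G) := by
  rcases eq_or_ne A B with rfl | hne
  · exact hgA
  set L := A ⊔ B with hL
  have hsL : span D L = L := span_line hA hB
  obtain ⟨Q, hQ, hn, e⟩ := h.line A hA B hB hne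
  obtain ⟨r, hr, hBr⟩ := h.exists_conj hA hB (isPGroup_qc q L) (le_sup_left.trans (le_normalizer_qc q L))
    (le_sup_right.trans (e.ge.trans (sup_le_sup_right (le_qc (le_sup_left.trans e.le) hQ hn) A)))
  have hgL : g ∈ Subgroup.normalizer (L : Set G) := by
    rw [← cj_eq_iff, hL, cj_sup, cj_eq_of_commute hgA, hgB]
  have hgR := normalizer_le_normalizer_qc q L hgL
  refine Subgroup.mem_centralizer_iff.2 fun b hb => ?_
  obtain ⟨a, ha, hab⟩ : ∃ a ∈ A, b = r * a * r⁻¹ := by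
    rw [hBr, SetLike.mem_coe, mem_cj] at hb
    exact ⟨_, hb, by group⟩
  have hga : a * g = g * a := Subgroup.mem_centralizer_iff.1 hgA a ha
  have haR : a ∈ Subgroup.normalizer ((qc q L : Subgroup G) : Set G) :=
    le_normalizer_qc q L (Subgroup.mem_sup_left ha)
  have hmem : ⁅g, b⁆ ∈ B ⊓ qc q L := by
    refine ⟨B.mul_mem (CoprimeAction.conj_mem (cj_eq_iff.1 hgB) hb) (inv_mem hb), ?_⟩
    have e1 : ⁅g, b⁆ = g * r * g⁻¹ * (g * a * g⁻¹) * (g * r⁻¹ * g⁻¹) * (r * a⁻¹ * r⁻¹) := by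
      rw [hab, commutatorElement_def]; group
    rw [show g * a * g⁻¹ = a by rw [← hga, mul_inv_cancel_right]] at e1
    rw [e1, show g * r * g⁻¹ * a * (g * r⁻¹ * g⁻¹) * (r * a⁻¹ * r⁻¹) =
      g * r * g⁻¹ * (a * (g * r⁻¹ * g⁻¹ * r) * a⁻¹) * r⁻¹ by group]
    exact Subgroup.mul_mem _ (Subgroup.mul_mem _ (CoprimeAction.conj_mem hgR hr)
      (CoprimeAction.conj_mem haR (Subgroup.mul_mem _
        (CoprimeAction.conj_mem hgR (inv_mem hr)) hr))) (inv_mem hr)
  rw [h.inf_eq_bot hB (isPGroup_qc q L), Subgroup.mem_bot,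
    commutatorElement_eq_one_iff_mul_comm] at hmem
  exact hmem.symm

omit [Finite G] in
theorem span_centralizer_ne_top (h : Ctx p q D) {c : G} (hc : c ≠ 1) :
    span D (Subgroup.centralizer ({c} : Set G)) ≠ ⊤ := fun e => hc (by
  have h1 : c ∈ Subgroup.center G := Subgroup.mem_center_iff.2 fun g =>
    Subgroup.mem_centralizer_singleton_iff.1 (span_le D _ (e.ge (Subgroup.mem_top g)))
  rwa [h.center, Subgroup.mem_bot] at h1)

theorem span_normalizer_ne_top (h : Ctx p q D) {Q : Subgroup G} (hQ : IsPGroup q Q) (hQ1 : Q ≠ ⊥) :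
    span D (Subgroup.normalizer (Q : Set G)) ≠ ⊤ := fun e => hQ1 (by
  haveI : Q.Normal := Subgroup.normalizer_eq_top_iff.1 (top_le_iff.1 (e.ge.trans (span_le D _)))
  haveI : Fact q.Prime := ⟨h.hq⟩
  obtain ⟨k, hk⟩ := hQ.exists_card_eq
  exact eq_bot_iff.2 ((Cores.le_oddCore (hk ▸ (h.hq.odd_of_ne_two h.hq2).pow)).trans h.odd.le))

/-- Every member centralized by a nontrivial central element of the `q`-part of a maximal `M`
lies in `M`. -/
theorem le_max_of_centralizer (h : Ctx p q D) (hs : Spec q D) {M : Subgroup G}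
    (hM : IsMax q D M) {c : G} (hc : c ∈ ⁅qc q M, qc q M⁆) (hc1 : c ≠ 1) {K : Subgroup G}
    (hK : span D K = K) (hKc : K ≤ Subgroup.centralizer ({c} : Set G)) : K ≤ M := by
  have hMc : M ≤ Subgroup.centralizer ({c} : Set G) := fun m hm =>
    Subgroup.mem_centralizer_singleton_iff.2
      (Subgroup.mem_centralizer_iff.1 (h.derived_le hs hM.1 hM.2.1 hc) m hm)
  have h1 := hM.2.2.2 (span D (Subgroup.centralizer ({c} : Set G))) (span_span _)
    (h.span_centralizer_ne_top hc1) (hM.1.ge.trans (span_mono hMc))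
  exact hK.ge.trans ((span_mono hKc).trans h1.le)

/-- A proper subgroup sharing a nonabelian subgroup with a maximal `M` lies in `M`. -/
theorem le_max_of_not_ab (h : Ctx p q D) (hs : Spec q D) {M K X : Subgroup G}
    (hM : IsMax q D M) (hK : span D K = K) (hKne : K ≠ ⊤) (hXM : X ≤ M) (hXK : X ≤ K)
    (hX : ¬ Ab q X) : K ≤ M := by
  obtain ⟨c, hc, hc1⟩ := (Subgroup.bot_or_exists_ne_one _).resolve_left hX
  have hXM' := h.qc_mono hM.1 hM.2.1 hXM
  have hXK' := h.qc_mono hK hKne hXK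
  refine h.le_max_of_centralizer hs hM (Subgroup.commutator_mono hXM' hXM' hc) hc1 hK fun k hk => ?_
  exact Subgroup.mem_centralizer_singleton_iff.2 (Subgroup.mem_centralizer_iff.1
    (h.derived_le hs hK hKne (Subgroup.commutator_mono hXK' hXK' hc)) k hk)

theorem exists_max (h : Ctx p q D) {K : Subgroup G} (hK : span D K = K) (hKne : K ≠ ⊤)
    (hab : ¬ Ab q K) : ∃ M, IsMax q D M ∧ K ≤ M := by
  obtain ⟨M, hKM, hM⟩ := (Set.toFinite {M : Subgroup G | span D M = M ∧ M ≠ ⊤}).exists_le_maximal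
    (a := K) ⟨hK, hKne⟩
  refine ⟨M, ⟨hM.1.1, hM.1.2, fun hA => hab ?_, fun L hL hLne hle =>
    le_antisymm (hM.2 ⟨hL, hLne⟩ hle) hle⟩, hKM⟩
  have h1 := h.qc_mono hM.1.1 hM.1.2 hKM
  exact eq_bot_iff.2 ((Subgroup.commutator_mono h1 h1).trans hA.le)

theorem isMax_cj (h : Ctx p q D) {M : Subgroup G} (hM : IsMax q D M) (g : G) :
    IsMax q D (cj g M) := by
  refine ⟨by rw [← h.cj_span, hM.1], fun e => hM.2.1 ?_, fun e => hM.2.2.1 ?_, fun K hK hKne hle => ?_⟩
  · rw [← cj_inv_cj g M, e]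
    exact Subgroup.map_top_of_surjective _ (MulAut.conj g⁻¹).surjective
  · have e' : cj g ⁅qc q M, qc q M⁆ = ⊥ := by
      rw [cj, Subgroup.map_commutator]
      change ⁅cj g (qc q M), cj g (qc q M)⁆ = ⊥
      rw [cj_qc]
      exact e
    exact cj_injective g (e'.trans (Subgroup.map_bot _).symm)
  · have h1 : cj g⁻¹ K = M := hM.2.2.2 _ (by rw [← h.cj_span, hK]) (fun e => hKne (by
      rw [← cj_cj_inv g K, e]
      exact Subgroup.map_top_of_surjective _ (MulAut.conj g).surjective))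
      (by simpa [cj_inv_cj] using cj_mono (g := g⁻¹) hle)
    rw [← h1, cj_cj_inv]

theorem eq_of_max_le (h : Ctx p q D) (hs : Spec q D) {M M' X : Subgroup G} (hM : IsMax q D M)
    (hM' : IsMax q D M') (hXM : X ≤ M) (hXM' : X ≤ M') (hX : ¬ Ab q X) : M = M' :=
  le_antisymm (h.le_max_of_not_ab hs hM' hM.1 hM.2.1 hXM' hXM hX)
    (h.le_max_of_not_ab hs hM hM'.1 hM'.2.1 hXM hXM' hX)

/-- An element commuting with a nontrivial central element of the `q`-part of a maximal `M`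
normalizes `M`. -/
theorem mem_normalizer_max (h : Ctx p q D) (hs : Spec q D) {M : Subgroup G} (hM : IsMax q D M)
    {c g : G} (hc : c ∈ ⁅qc q M, qc q M⁆) (hc1 : c ≠ 1) (hg : g * c = c * g) :
    g ∈ Subgroup.normalizer (M : Set G) := by
  rw [← cj_eq_iff]
  refine Subgroup.eq_of_le_of_card_ge (h.le_max_of_centralizer hs hM hc hc1 (h.isMax_cj hM g).1 ?_)
    (card_cj g M).ge
  refine cj_le_centralizer (fun m hm => Subgroup.mem_centralizer_singleton_iff.2
    (Subgroup.mem_centralizer_iff.1 (h.derived_le hs hM.1 hM.2.1 hc) m hm)) ?_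
  rintro s rfl
  show g⁻¹ * s * g = s
  rw [mul_assoc, ← hg, inv_mul_cancel_left]

theorem derived_le_normalizer (h : Ctx p q D) (hs : Spec q D) {M : Subgroup G}
    (hM : IsMax q D M) : ⁅qc q M, qc q M⁆ ≤ Subgroup.normalizer (M : Set G) :=
  (h.derived_le hs hM.1 hM.2.1).trans (Subgroup.centralizer_le_normalizer _)

theorem qc_abelian_inf (h : Ctx p q D) {I A : Subgroup G} (hI : span D I = I) (hne : I ≠ ⊤)
    (hA : A ∈ D) (hAI : A ≤ I) (hab : Ab q I) :
    qc q I ⊓ Subgroup.centralizer (A : Set G) = ⊥ :=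
  eq_bot_iff.2 ((h.fixed_le_derived hI hne hA hAI).trans hab.le)

theorem qc_ne_bot (h : Ctx p q D) {I A B : Subgroup G} (hI : span D I = I) (hne : I ≠ ⊤)
    (hA : A ∈ D) (hAI : A ≤ I) (hB : B ∈ D) (hBI : B ≤ I) (hAB : B ≠ A) : qc q I ≠ ⊥ := fun e =>
  hAB (h.eq_of_le hB hA (hBI.trans (by
    rw [← (h.struct' hI hne hA hAI).1, e, bot_sup_eq])))

/-- Abelian subgroups containing `I` normalize the `q`-part of `I`. -/
theorem le_normalizer_of_ab (h : Ctx p q D) {I X A : Subgroup G} (hX : span D X = X) (hne : X ≠ ⊤)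
    (hA : A ∈ D) (hAI : A ≤ I) (hIX : I ≤ X) (hab : Ab q X) :
    X ≤ Subgroup.normalizer ((qc q I : Subgroup G) : Set G) := by
  have hle := h.qc_mono hX hne hIX
  rw [← (h.struct' hX hne hA (hAI.trans hIX)).1]
  refine sup_le ?_ (hAI.trans (le_normalizer_qc q I))
  intro x hx
  refine CoprimeAction.mem_normalizer_of_conj_mem fun y hy => ?_
  have := Subgroup.mem_centralizer_iff.1
    ((Subgroup.commutator_eq_bot_iff_le_centralizer.1 hab) hx) y (hle hy)
  rwa [← this, mul_inv_cancel_right]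

theorem subset_of_le_member (h : Ctx p q D) {I A B : Subgroup G} (hI : span D I = I) (hne : I ≠ ⊤)
    (hA : A ∈ D) (hAI : A ≤ I) (hB : B ∈ D) (hBI : B ≤ I) : ∃ j ∈ qc q I, B = cj j A :=
  h.exists_conj hA hB (isPGroup_qc q I) (hAI.trans (le_normalizer_qc q I))
    (hBI.trans (h.struct' hI hne hA hAI).1.ge)

/-- First half of the core argument: a fixed point of `U` on `R_P / R_I R_P'`. -/
theorem core_f (h : Ctx p q D) (_hs : Spec q D) {P I U A : Subgroup G} (hP : span D P = P)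
    (hPne : P ≠ ⊤) (hA : A ∈ D) (hAI : A ≤ I) (hIP : I ≤ P) (_hIspan : span D I = I)
    (hne : ¬ P ≤ I) (hU : IsPGroup q U) (hUI : U ≤ Subgroup.centralizer ((qc q I : Subgroup G) : Set G))
    (hUP : U ≤ Subgroup.normalizer ((qc q P : Subgroup G) : Set G)) :
    ∃ f ∈ qc q P, f ∉ qc q I ⊔ ⁅qc q P, qc q P⁆ ∧
      ∀ w ∈ U, f * w * f⁻¹ * w⁻¹ ∈ qc q I ⊔ ⁅qc q P, qc q P⁆ := by
  haveI : Fact q.Prime := ⟨h.hq⟩
  set R := qc q P
  set N := qc q I ⊔ ⁅R, R⁆ with hN
  have hIne : I ≠ ⊤ := fun e => hne (e ▸ le_top)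
  have hIR : qc q I ≤ R := h.qc_mono hP hPne hIP
  have hNR : N ≤ R := sup_le hIR (Subgroup.commutator_le_self R)
  have hNlt : ¬ R ≤ N := fun hle => hne (by
    have h1 : R ≤ qc q I := le_of_le_sup_commutator (isPGroup_qc q P) hIR hle
    calc P = R ⊔ A := (h.struct' hP hPne hA (hAI.trans hIP)).1.symm
      _ ≤ I := sup_le (h1.trans (qc_le q I)) hAI)
  set T := R ⊔ U with hT
  have hTp : IsPGroup q T := (isPGroup_qc q P).to_sup_of_normal_left' hU hUP
  have hNn : T ≤ Subgroup.normalizer (N : Set G) := by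
    refine sup_le (fun r hr => CoprimeAction.mem_normalizer_of_conj_mem fun x hx => ?_) ?_
    · rw [show r * x * r⁻¹ = ⁅r, x⁆ * x by rw [commutatorElement_def]; group]
      exact N.mul_mem (Subgroup.mem_sup_right (Subgroup.commutator_mem_commutator hr (hNR hx))) hx
    · intro w hw
      rw [← cj_eq_iff, hN, cj_sup, cj_eq_of_commute (hUI hw),
        cj_eq_iff.2 (CoprimeAction.normalizer_le_normalizer_commutator R (hUP hw))]
  haveI : (N.subgroupOf T).Normal :=
    (Subgroup.normal_subgroupOf_iff_le_normalizer (hNR.trans le_sup_left)).2 hNn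
  haveI : (R.subgroupOf T).Normal :=
    (Subgroup.normal_subgroupOf_iff_le_normalizer le_sup_left).2 (sup_le Subgroup.le_normalizer hUP)
  set π := QuotientGroup.mk' (N.subgroupOf T)
  haveI : ((R.subgroupOf T).map π).Normal :=
    Subgroup.Normal.map inferInstance π (QuotientGroup.mk'_surjective _)
  have hne' : (R.subgroupOf T).map π ≠ ⊥ := fun e => hNlt (by
    rw [Subgroup.map_eq_bot_iff, QuotientGroup.ker_mk'] at e
    intro r hr
    have := e (show (⟨r, Subgroup.mem_sup_left hr⟩ : T) ∈ R.subgroupOf T from hr)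
    exact this)
  obtain ⟨z, ⟨f, hf, rfl⟩, hz1, hzc⟩ :=
    TwoGroups.exists_mem_center_of_normal (hTp.to_quotient (N.subgroupOf T)) hne'
  refine ⟨f, hf, fun hfN => hz1 ((QuotientGroup.eq_one_iff f).2 hfN), fun w hw => ?_⟩
  have h1 := (Subgroup.mem_center_iff.1 hzc (π ⟨w, Subgroup.mem_sup_right hw⟩)).symm
  rw [← commutatorElement_eq_one_iff_mul_comm, ← map_commutatorElement] at h1
  have h2 := (QuotientGroup.eq_one_iff _).1 h1
  simpa [Subgroup.mem_subgroupOf, commutatorElement_def] using h2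

/-- Second half: the member produced by a fixed point. -/
theorem core_member (h : Ctx p q D) (hs : Spec q D) {P I U A : Subgroup G} (hP : span D P = P)
    (hPne : P ≠ ⊤) (hA : A ∈ D) (hAI : A ≤ I) (hIP : I ≤ P) (hIspan : span D I = I)
    (hne : ¬ P ≤ I) (hUA : U ≤ Subgroup.centralizer (A : Set G)) {f : G} (hf : f ∈ qc q P)
    (hfN : f ∉ qc q I ⊔ ⁅qc q P, qc q P⁆)
    (hfU : ∀ w ∈ U, f * w * f⁻¹ * w⁻¹ ∈ qc q I ⊔ ⁅qc q P, qc q P⁆)
    (hj : ∀ j ∈ qc q I, ⁅f, j⁆ ∈ U) :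
    ∃ B ∈ D, B ≤ P ∧ ¬ B ≤ I ∧
      B ≤ Subgroup.normalizer ((qc q I ⊔ U : Subgroup G) : Set G) := by
  haveI : Fact q.Prime := ⟨h.hq⟩
  set R := qc q P
  set N := qc q I ⊔ ⁅R, R⁆ with hN
  set E := qc q I ⊔ U with hE
  have hIne : I ≠ ⊤ := fun e => hne (e ▸ le_top)
  have hAP := hAI.trans hIP
  have hAR : A ≤ Subgroup.normalizer (R : Set G) := hAP.trans (le_normalizer_qc q P)
  have hIR : qc q I ≤ R := h.qc_mono hP hPne hIP
  have hcen : ∀ ζ ∈ ⁅R, R⁆, ∀ x ∈ P, ζ * x = x * ζ := fun ζ hζ x hx =>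
    (Subgroup.mem_centralizer_iff.1 (h.derived_le hs hP hPne hζ) x hx).symm
  have hRP : ∀ x ∈ R, x ∈ P := qc_le q P
  have hAU : ∀ a ∈ A, ∀ w ∈ U, a * w * a⁻¹ = w := fun a ha w hw => by
    rw [Subgroup.mem_centralizer_iff.1 (hUA hw) a ha, mul_inv_cancel_right]
  have hAE : A ≤ Subgroup.normalizer (E : Set G) := fun a ha => by
    rw [← cj_eq_iff, hE, cj_sup, cj_eq_iff.2 ((hAI.trans (le_normalizer_qc q I)) ha)]
    congr 1
    exact cj_eq_of_commute (Subgroup.mem_centralizer_iff.2 fun w hw =>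
      (Subgroup.mem_centralizer_iff.1 (hUA hw) a ha).symm)
  obtain ⟨a, hap, -, haA⟩ := h.zpowers_eq hA
  have ha : a ∈ A := haA ▸ Subgroup.mem_zpowers a
  set f' := a * f * a⁻¹ with hf'
  have hf'R : f' ∈ R := CoprimeAction.conj_mem (hAR ha) hf
  set u := f' * f⁻¹ with hu
  have huR : u ∈ R := R.mul_mem hf'R (inv_mem hf)
  have hj' : ∀ j ∈ qc q I, ⁅f', j⁆ ∈ U := fun j hjI => by
    have hj0 := CoprimeAction.conj_mem' ((hAI.trans (le_normalizer_qc q I)) ha) hjI
    have : ⁅f', j⁆ = a * ⁅f, a⁻¹ * j * a⁆ * a⁻¹ := by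
      simp only [hf', commutatorElement_def]; group
    rw [this, hAU a ha _ (hj _ hj0)]
    exact hj _ hj0
  have hinvf : ∀ j ∈ qc q I, f⁻¹ * j * f = (⁅f, j⁆)⁻¹ * j := by
    intro j hjI
    have hc := hcen _ (Subgroup.commutator_mem_commutator hf (hIR hjI)) f⁻¹ (P.inv_mem (hRP f hf))
    have e : f⁻¹ * j * f = f⁻¹ * (⁅f, j⁆)⁻¹ * f * j := by rw [commutatorElement_def]; group
    rw [e]
    have e2 : f⁻¹ * (⁅f, j⁆)⁻¹ * f = (⁅f, j⁆)⁻¹ := by
      rw [mul_assoc, inv_mul_eq_iff_eq_mul]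
      have := hcen _ (inv_mem (Subgroup.commutator_mem_commutator hf (hIR hjI))) f (hRP f hf)
      exact this
    rw [e2]
  have hconjI : ∀ j ∈ qc q I, u * j * u⁻¹ ∈ E := by
    intro j hjI
    have e : u * j * u⁻¹ = f' * ((⁅f, j⁆)⁻¹ * j) * f'⁻¹ := by
      rw [← hinvf j hjI, hu]; group
    rw [e]
    have hc := hcen _ (inv_mem (Subgroup.commutator_mem_commutator hf (hIR hjI))) f' (hRP f' hf'R)
    rw [show f' * ((⁅f, j⁆)⁻¹ * j) * f'⁻¹ = f' * (⁅f, j⁆)⁻¹ * j * f'⁻¹ by group, ← hc,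
      show (⁅f, j⁆)⁻¹ * f' * j * f'⁻¹ = (⁅f, j⁆)⁻¹ * (⁅f', j⁆ * j) by
        rw [commutatorElement_def f' j]; group]
    exact E.mul_mem (Subgroup.mem_sup_right (inv_mem (hj j hjI)))
      (E.mul_mem (Subgroup.mem_sup_right (hj' j hjI)) (Subgroup.mem_sup_left hjI))
  have hconjU : ∀ w ∈ U, u * w * u⁻¹ ∈ E := by
    intro w hw
    have hm := hfU w hw
    rw [← SetLike.mem_coe, Subgroup.coe_mul_of_left_le_normalizer_right (qc q I) ⁅R, R⁆
      (((qc_le q I).trans hIP).trans (((Subgroup.le_centralizer_iff).1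
        (h.derived_le hs hP hPne)).trans (Subgroup.centralizer_le_normalizer _)))] at hm
    obtain ⟨i, hi, ζ, hζ, hn⟩ := hm
    change i * ζ = f * w * f⁻¹ * w⁻¹ at hn
    have hiP : i ∈ P := hRP _ (hIR hi)
    have hfw : f * w * f⁻¹ = i * ζ * w := by rw [hn]; group
    have hf'w : f' * w * f'⁻¹ = a * i * a⁻¹ * ζ * w := by
      have haw := hAU a ha w hw
      have hawi : a⁻¹ * w * a = w := by
        rw [mul_assoc, ← Subgroup.mem_centralizer_iff.1 (hUA hw) a ha, inv_mul_cancel_left]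
      have hζa : a * ζ * a⁻¹ = ζ := by rw [← hcen ζ hζ a (hAP ha), mul_inv_cancel_right]
      calc f' * w * f'⁻¹ = a * (f * (a⁻¹ * w * a) * f⁻¹) * a⁻¹ := by rw [hf']; group
        _ = a * (i * ζ * w) * a⁻¹ := by rw [hawi, hfw]
        _ = a * i * a⁻¹ * (a * ζ * a⁻¹) * (a * w * a⁻¹) := by group
        _ = _ := by rw [hζa, haw]
    have hi' : a * i * a⁻¹ ∈ qc q I :=
      CoprimeAction.conj_mem ((hAI.trans (le_normalizer_qc q I)) ha) hi
    have hυ : ⁅f, i⁆ ∈ ⁅R, R⁆ := Subgroup.commutator_mem_commutator hf (hIR hi)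
    set υ := ⁅f, i⁆ with hυd
    have h1 : f⁻¹ * w * f = ζ⁻¹ * i⁻¹ * υ * w := by
      have hζf : f⁻¹ * ζ⁻¹ * f = ζ⁻¹ := by
        rw [mul_assoc, hcen _ (inv_mem hζ) f (hRP f hf), inv_mul_cancel_left]
      have e : f⁻¹ * w * f = f⁻¹ * (i * ζ)⁻¹ * (i * ζ * w) * f := by group
      rw [e, ← hfw]
      calc f⁻¹ * (i * ζ)⁻¹ * (f * w * f⁻¹) * f
          = (f⁻¹ * ζ⁻¹ * f) * (f⁻¹ * i * f)⁻¹ * w := by group
        _ = ζ⁻¹ * i⁻¹ * υ * w := by rw [hζf, hinvf i hi, hυd]; group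
    have e : u * w * u⁻¹ = f' * (f⁻¹ * w * f) * f'⁻¹ := by rw [hu]; group
    have hζ' : ∀ x ∈ P, ζ⁻¹ * x = x * ζ⁻¹ := fun x hx => hcen _ (inv_mem hζ) x hx
    have hυf : f' * υ * f'⁻¹ = υ := by rw [← hcen υ hυ f' (hRP f' hf'R), mul_inv_cancel_right]
    set X := f' * i⁻¹ * f'⁻¹ with hX
    have hXP : X * υ * (a * i * a⁻¹) ∈ P :=
      P.mul_mem (P.mul_mem (P.mul_mem (P.mul_mem (hRP f' hf'R) (inv_mem hiP))
        (inv_mem (hRP f' hf'R))) (hRP _ (Subgroup.commutator_le_self R hυ))) (hRP _ (hIR hi'))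
    have e2 : u * w * u⁻¹ = X * υ * (a * i * a⁻¹) * w := by
      calc u * w * u⁻¹ = f' * ζ⁻¹ * f'⁻¹ * X * (f' * υ * f'⁻¹) * (f' * w * f'⁻¹) := by
            rw [e, h1, hX]; group
        _ = ζ⁻¹ * (X * υ * (a * i * a⁻¹)) * ζ * w := by
            rw [hυf, hf'w, ← hζ' f' (hRP f' hf'R)]; group
        _ = _ := by rw [hζ' _ hXP]; group
    rw [e2]
    have hXE : X ∈ E := by
      rw [hX, show f' * i⁻¹ * f'⁻¹ = ⁅f', i⁻¹⁆ * i⁻¹ by rw [commutatorElement_def]; group]
      exact E.mul_mem (Subgroup.mem_sup_right (hj' _ (inv_mem hi))) (Subgroup.mem_sup_left (inv_mem hi))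
    exact E.mul_mem (E.mul_mem (E.mul_mem hXE (Subgroup.mem_sup_right (hj i hi)))
      (Subgroup.mem_sup_left hi')) (Subgroup.mem_sup_right hw)
  have huE : u ∈ Subgroup.normalizer (E : Set G) := by
    rw [← cj_eq_iff]
    refine Subgroup.eq_of_le_of_card_ge ?_ (card_cj u E).ge
    rw [hE, cj_sup]
    exact sup_le (fun x hx => by
        obtain ⟨j, hjI, rfl⟩ := hx
        exact hconjI j hjI) (fun x hx => by
        obtain ⟨j, hjU, rfl⟩ := hx
        exact hconjU j hjU)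
  refine ⟨cj u A, h.conj A hA u, cj_le (Subgroup.le_normalizer (hRP u huR)) hAP, fun hle => ?_,
    cj_le (Subgroup.le_normalizer huE) hAE⟩
  obtain ⟨j, hjI, hju⟩ := h.subset_of_le_member hIspan hIne hA hAI (h.conj A hA u) hle
  have hfix : cj (j⁻¹ * u) A = A := by rw [cj_mul, hju, cj_inv_cj]
  have hmem := R.mul_mem (inv_mem (hIR hjI)) huR
  have hR' : j⁻¹ * u ∈ ⁅R, R⁆ :=
    h.fixed_le_derived hP hPne hA hAP ⟨hmem, h.normalizer_inter_qgroup hA (isPGroup_qc q P) hAR hmem hfix⟩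
  have huN : u ∈ N := by
    rw [show u = j * (j⁻¹ * u) by group]
    exact Subgroup.mul_mem_sup hjI hR'
  -- `a` fixes `f` modulo `N`, so `f ∈ N`
  have hfix' : a * f * a⁻¹ * f⁻¹ ∈ N := by rwa [hu, hf'] at huN
  have hzn : Subgroup.zpowers a ≤ Subgroup.normalizer (N : Set G) := by
    rw [haA]
    intro x hx
    rw [← cj_eq_iff, hN, cj_sup, cj_eq_iff.2 ((hAI.trans (le_normalizer_qc q I)) hx),
      cj_eq_iff.2 (CoprimeAction.normalizer_le_normalizer_commutator R (hAR hx))]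
  have hRN : R ≤ Subgroup.normalizer (N : Set G) := fun r hr =>
    CoprimeAction.mem_normalizer_of_conj_mem fun x hx => by
      rw [show r * x * r⁻¹ = ⁅r, x⁆ * x by rw [commutatorElement_def]; group]
      exact N.mul_mem (Subgroup.mem_sup_right (Subgroup.commutator_mem_commutator hr
        (sup_le hIR (Subgroup.commutator_le_self R) hx))) hx
  have hall : ∀ b ∈ Subgroup.zpowers a, b * f * b⁻¹ * f⁻¹ ∈ N := by
    intro b hb
    obtain ⟨n, rfl⟩ := (isOfFinOrder_of_finite a).mem_powers_iff_mem_zpowers.2 hb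
    show a ^ n * f * (a ^ n)⁻¹ * f⁻¹ ∈ N
    induction n with
    | zero => simp
    | succ n ih =>
      rw [pow_succ, show a ^ n * a * f * (a ^ n * a)⁻¹ * f⁻¹ =
        a ^ n * (a * f * a⁻¹ * f⁻¹) * (a ^ n)⁻¹ * (a ^ n * f * (a ^ n)⁻¹ * f⁻¹) by group]
      exact N.mul_mem (CoprimeAction.conj_mem (hzn (pow_mem (Subgroup.mem_zpowers a) n)) hfix')
        (ih (pow_mem (Subgroup.mem_zpowers a) n))
  obtain ⟨c, hc, hcN⟩ := CoprimeAction.exists_centralizer_mem_coset_of_commutator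
    (A := Subgroup.zpowers a) (K := R) (N := N) (haA ▸ h.coprime hA (isPGroup_qc q P))
    (Or.inl (CoprimeAction.isSolvable_zpowers a)) (sup_le hIR (Subgroup.commutator_le_self R))
    hRN hzn hf hall
  rw [haA] at hc
  have hcN' : c ∈ N := Subgroup.mem_sup_right (h.fixed_le_derived hP hPne hA hAP hc)
  exact hfN (by simpa using N.mul_mem hcN' (inv_mem hcN))

theorem core (h : Ctx p q D) (hs : Spec q D) {P I U A : Subgroup G} (hP : span D P = P)
    (hPne : P ≠ ⊤) (hA : A ∈ D) (hAI : A ≤ I) (hIP : I ≤ P) (hIspan : span D I = I)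
    (hne : ¬ P ≤ I) (hU : IsPGroup q U) (hUA : U ≤ Subgroup.centralizer (A : Set G))
    (hUI : U ≤ Subgroup.centralizer ((qc q I : Subgroup G) : Set G))
    (hUP : U ≤ Subgroup.normalizer ((qc q P : Subgroup G) : Set G))
    (hj : ∀ f ∈ qc q P, (∀ w ∈ U, f * w * f⁻¹ * w⁻¹ ∈ qc q I ⊔ ⁅qc q P, qc q P⁆) →
      ∀ j ∈ qc q I, ⁅f, j⁆ ∈ U) :
    ∃ B ∈ D, B ≤ P ∧ ¬ B ≤ I ∧
      B ≤ Subgroup.normalizer ((qc q I ⊔ U : Subgroup G) : Set G) := by
  obtain ⟨f, hf, hfN, hfU⟩ := h.core_f hs hP hPne hA hAI hIP hIspan hne hU hUI hUP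
  exact h.core_member hs hP hPne hA hAI hIP hIspan hne hUA hf hfN hfU (hj f hf hfU)

theorem normalizes_core (h : Ctx p q D) {I U A : Subgroup G} (hI : span D I = I) (hne : I ≠ ⊤)
    (hA : A ∈ D) (hAI : A ≤ I) (hUA : U ≤ Subgroup.centralizer (A : Set G))
    (_hUI : U ≤ Subgroup.centralizer ((qc q I : Subgroup G) : Set G)) :
    I ≤ Subgroup.normalizer ((qc q I ⊔ U : Subgroup G) : Set G) := by
  conv_lhs => rw [← (h.struct' hI hne hA hAI).1]
  refine sup_le (le_sup_left.trans Subgroup.le_normalizer) fun a ha => ?_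
  rw [← cj_eq_iff, cj_sup, cj_eq_iff.2 ((hAI.trans (le_normalizer_qc q I)) ha),
    cj_eq_of_commute (Subgroup.mem_centralizer_iff.2 fun w hw =>
      (Subgroup.mem_centralizer_iff.1 (hUA hw) a ha).symm)]

/-- Two members outside `I`, one in `M`, one in `K`, normalizing a common nontrivial `q`-group
normalized by `I`, are impossible when `I` is saturated. -/
theorem clash (h : Ctx p q D) (hs : Spec q D) {M K I E : Subgroup G} (hM : IsMax q D M)
    (hIM : I ≤ M) (hIspan : span D I = I) (hE : IsPGroup q E) (hE1 : E ≠ ⊥)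
    (hIE : I ≤ Subgroup.normalizer (E : Set G))
    (hab : ∀ X, span D X = X → Ab q X → I ≤ X → X ≤ M → X ≤ I)
    (hK : ∀ C ∈ D, C ≤ M → C ≤ K → C ≤ I) {B B' : Subgroup G} (hB : B ∈ D) (hBM : B ≤ M)
    (hBI : ¬ B ≤ I) (hBE : B ≤ Subgroup.normalizer (E : Set G)) (hB' : B' ∈ D) (hB'K : B' ≤ K)
    (hB'I : ¬ B' ≤ I) (hB'E : B' ≤ Subgroup.normalizer (E : Set G)) : False := by
  set Y := span D (Subgroup.normalizer (E : Set G))
  set X := span D (M ⊓ Y) with hXdef
  have hIX : I ≤ X := hIspan.ge.trans (span_mono (le_inf hIM (hIspan.ge.trans (span_mono hIE))))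
  have hXM : X ≤ M := (span_le D _).trans inf_le_left
  by_cases hX : Ab q X
  · exact hBI ((le_span hB (le_inf hBM (le_span hB hBE))).trans (hab X (span_span _) hX hIX hXM))
  · exact hB'I (hK B' hB' ((le_span hB' hB'E).trans (h.le_max_of_not_ab hs hM (span_span _)
      (h.span_normalizer_ne_top hE hE1) hXM ((span_le D _).trans inf_le_right) hX)) hB'K)

/-- Theorem P: the members normalizing the `q`-part of an abelian subgroup of a maximal `M` lie
in `M`. -/
theorem le_of_normalizer (h : Ctx p q D) (hs : Spec q D) {M I A B : Subgroup G}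
    (hM : IsMax q D M) (hIspan : span D I = I) (hA : A ∈ D) (hAI : A ≤ I) (hIM : I ≤ M)
    (hIab : Ab q I) (hI1 : qc q I ≠ ⊥) (hB : B ∈ D)
    (hBn : B ≤ Subgroup.normalizer ((qc q I : Subgroup G) : Set G)) : B ≤ M := by
  haveI : Fact q.Prime := ⟨h.hq⟩
  have hIne : I ≠ ⊤ := fun e => hM.2.1 (top_le_iff.1 (e ▸ hIM))
  set P := span D (Subgroup.normalizer ((qc q I : Subgroup G) : Set G)) with hPdef
  have hPne : P ≠ ⊤ := h.span_normalizer_ne_top (isPGroup_qc q I) hI1
  have hPspan : span D P = P := span_span _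
  by_contra hBM
  have hPM : ¬ P ≤ M := fun hle => hBM ((le_span hB hBn).trans hle)
  set I' := span D (M ⊓ P) with hI'
  have hI'M : I' ≤ M := (span_le D _).trans inf_le_left
  have hI'P : I' ≤ P := (span_le D _).trans inf_le_right
  have hI'span : span D I' = I' := span_span _
  have hI'ne : I' ≠ ⊤ := fun e => hM.2.1 (top_le_iff.1 (e ▸ hI'M))
  have hIP : I ≤ P := hIspan.ge.trans (span_mono (le_normalizer_qc q I))
  have hII' : I ≤ I' := hIspan.ge.trans (span_mono (le_inf hIM hIP))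
  have hAI' := hAI.trans hII'
  have hI'ab : Ab q I' := by
    by_contra hab
    exact hPM (h.le_max_of_not_ab hs hM hPspan hPne hI'M hI'P hab)
  have hI'1 : qc q I' ≠ ⊥ := fun e => hI1 (eq_bot_iff.2 ((h.qc_mono hI'span hI'ne hII').trans e.le))
  have hsat : ∀ X, span D X = X → Ab q X → I' ≤ X → X ≤ M → X ≤ I' := by
    intro X hX hXab hI'X hXM
    have hXne : X ≠ ⊤ := fun e => hM.2.1 (top_le_iff.1 (e ▸ hXM))
    have := hX.ge.trans (span_mono (h.le_normalizer_of_ab hX hXne hA hAI (hII'.trans hI'X) hXab))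
    exact hX.ge.trans (span_mono (le_inf hXM this))
  -- `R_I` is central in the `q`-part of `P`
  have hPI : qc q P ≤ Subgroup.centralizer ((qc q I : Subgroup G) : Set G) := by
    rw [← Subgroup.commutator_eq_bot_iff_le_centralizer, eq_bot_iff]
    refine le_trans (le_inf ?_ ?_) (h.qc_abelian_inf hIspan hIne hA hAI hIab).le
    · exact Subgroup.le_normalizer_iff_commutator_le_right.1 ((qc_le q P).trans (span_le D _))
    · exact (Subgroup.commutator_mono le_rfl (h.qc_mono hPspan hPne hIP)).trans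
        ((h.derived_le hs hPspan hPne).trans (CoprimeAction.centralizer_mono (hAI.trans hIP)))
  set Z := ⁅qc q M, qc q M⁆ with hZ
  set Z2 := ⁅qc q P, qc q P⁆ with hZ2
  have hZq : IsPGroup q Z := (isPGroup_qc q M).to_le (Subgroup.commutator_le_self _)
  have hZ2q : IsPGroup q Z2 := (isPGroup_qc q P).to_le (Subgroup.commutator_le_self _)
  have hZM := h.derived_le hs hM.1 hM.2.1
  have hZ2P := h.derived_le hs hPspan hPne
  have hZP : Z ≤ Subgroup.normalizer (P : Set G) := by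
    intro z hz
    rw [← cj_eq_iff, hPdef, h.cj_span]
    congr 1
    have hzI : z ∈ Subgroup.centralizer ((qc q I : Subgroup G) : Set G) :=
      CoprimeAction.centralizer_mono ((qc_le q I).trans hIM) (hZM hz)
    rw [cj_eq_iff]
    exact Subgroup.le_normalizer (Subgroup.centralizer_le_normalizer _ hzI)
  have hZZ2 : Z ≤ Subgroup.normalizer (Z2 : Set G) :=
    hZP.trans ((normalizer_le_normalizer_qc q P).trans
      (CoprimeAction.normalizer_le_normalizer_commutator _))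
  set U := Z ⊔ Z2 with hUdef
  have hUq : IsPGroup q U := hZq.to_sup_of_normal_right' hZ2q hZZ2
  have hUA : U ≤ Subgroup.centralizer (A : Set G) :=
    sup_le (hZM.trans (CoprimeAction.centralizer_mono (hAI.trans hIM)))
      (hZ2P.trans (CoprimeAction.centralizer_mono (hAI.trans hIP)))
  have hUI' : U ≤ Subgroup.centralizer (I' : Set G) :=
    sup_le (hZM.trans (CoprimeAction.centralizer_mono hI'M))
      (hZ2P.trans (CoprimeAction.centralizer_mono hI'P))
  have hUR := hUI'.trans (CoprimeAction.centralizer_mono (qc_le q I'))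
  have hMI' : ¬ M ≤ I' := fun hle => hM.2.2.1 (le_antisymm hI'M hle ▸ hI'ab)
  have hEq : ∀ V : Subgroup G, V ≤ U → IsPGroup q (qc q I' ⊔ V : Subgroup G) ∧
      qc q I' ⊔ V ≠ ⊥ := fun V hV =>
    ⟨(isPGroup_qc q I').to_sup_of_normal_left' (hUq.to_le hV)
      ((hV.trans hUR).trans (Subgroup.centralizer_le_normalizer _)),
      fun e => hI'1 (eq_bot_iff.2 (le_sup_left.trans e.le))⟩
  by_cases hUM : U ≤ Subgroup.normalizer (M : Set G)
  · obtain ⟨B1, hB1, hB1M, hB1I, hB1E⟩ := h.core hs hM.1 hM.2.1 hA hAI' hI'M hI'span hMI' hUq hUA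
      hUR (hUM.trans (normalizer_le_normalizer_qc q M)) fun f hf _ j hj =>
        Subgroup.mem_sup_left (Subgroup.commutator_mem_commutator hf
          (h.qc_mono hM.1 hM.2.1 hI'M hj))
    obtain ⟨B2, hB2, hB2P, hB2I, hB2E⟩ := h.core hs hPspan hPne hA hAI' hI'P hI'span
      (fun hle => hPM (hle.trans hI'M)) hUq hUA hUR
      ((sup_le hZP ((Subgroup.commutator_le_self _).trans ((qc_le q P).trans
        Subgroup.le_normalizer))).trans (normalizer_le_normalizer_qc q P))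
      fun f hf _ j hj => Subgroup.mem_sup_right (Subgroup.commutator_mem_commutator hf
          (h.qc_mono hPspan hPne hI'P hj))
    obtain ⟨hE, hE1⟩ := hEq U le_rfl
    exact h.clash hs hM hI'M hI'span hE hE1 (h.normalizes_core hI'span hI'ne hA hAI' hUA hUR) hsat
      (fun C hC hCM hCP => le_span hC (le_inf hCM hCP)) hB1 hB1M hB1I hB1E hB2 hB2P hB2I hB2E
  · set U0 := U ⊓ Subgroup.normalizer (M : Set G) with hU0
    obtain ⟨w, hwU, hw0, hwn⟩ := exists_normalizer_not_mem hUq (U := U0)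
      (lt_of_le_of_ne inf_le_left fun e => hUM (e.ge.trans inf_le_right))
    have hwM : cj w M ≠ M := fun e => hw0 ⟨hwU, cj_eq_iff.1 e⟩
    have hM' := h.isMax_cj hM w
    have hI'w : I' ≤ cj w M := by
      rw [← cj_eq_of_commute (hUI' hwU)]
      exact cj_mono hI'M
    have hU0A : U0 ≤ Subgroup.centralizer (A : Set G) := inf_le_left.trans hUA
    have hU0R : U0 ≤ Subgroup.centralizer ((qc q I' : Subgroup G) : Set G) := inf_le_left.trans hUR
    have hZU0 : Z ≤ U0 := le_inf le_sup_left (h.derived_le_normalizer hs hM)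
    have hU0M' : U0 ≤ Subgroup.normalizer ((cj w M : Subgroup G) : Set G) := by
      intro v hv
      have hv' := (CoprimeAction.conj_mem' hwn hv).2
      rw [← cj_eq_iff, ← cj_mul, show v * w = w * (w⁻¹ * v * w) by group, cj_mul,
        cj_eq_iff.2 hv']
    have hZ'U0 : ⁅qc q (cj w M), qc q (cj w M)⁆ ≤ U0 := by
      rw [← cj_qc, cj, ← Subgroup.map_commutator]
      exact cj_le hwn hZU0
    obtain ⟨B1, hB1, hB1M, hB1I, hB1E⟩ := h.core hs hM.1 hM.2.1 hA hAI' hI'M hI'span hMI'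
      (hUq.to_le inf_le_left) hU0A hU0R (inf_le_right.trans (normalizer_le_normalizer_qc q M))
      fun f hf _ j hj => hZU0 (Subgroup.commutator_mem_commutator hf
          (h.qc_mono hM.1 hM.2.1 hI'M hj))
    obtain ⟨B2, hB2, hB2P, hB2I, hB2E⟩ := h.core hs hM'.1 hM'.2.1 hA hAI' hI'w hI'span
      (fun hle => hM'.2.2.1 (le_antisymm hI'w hle ▸ hI'ab)) (hUq.to_le inf_le_left) hU0A hU0R
      (hU0M'.trans (normalizer_le_normalizer_qc q _))
      fun f hf _ j hj => hZ'U0 (Subgroup.commutator_mem_commutator hf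
          (h.qc_mono hM'.1 hM'.2.1 hI'w hj))
    obtain ⟨hE, hE1⟩ := hEq U0 inf_le_left
    refine h.clash hs hM hI'M hI'span hE hE1 (h.normalizes_core hI'span hI'ne hA hAI' hU0A hU0R)
      hsat (fun C hC hCM hCw => ?_) hB1 hB1M hB1I hB1E hB2 hB2P hB2I hB2E
    set X := span D (M ⊓ cj w M) with hX
    have hXab : Ab q X := by
      by_contra hXab
      exact hwM (h.eq_of_max_le hs hM hM' ((span_le D _).trans inf_le_left)
        ((span_le D _).trans inf_le_right) hXab).symm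
    exact (le_span hC (le_inf hCM hCw)).trans (hsat X (span_span _) hXab
      (hI'span.ge.trans (span_mono (le_inf hI'M hI'w))) ((span_le D _).trans inf_le_left))

theorem comm_mem_normalizer (h : Ctx p q D) (hs : Spec q D) {M M' I U : Subgroup G}
    (hM : IsMax q D M) (hM' : IsMax q D M') (hIM' : I ≤ M') (hIab : Ab q I) {z f j : G}
    (hz : z ∈ ⁅qc q M, qc q M⁆) (hz1 : z ≠ 1) (hzU : z ∈ U)
    (hzI : z ∈ Subgroup.centralizer ((qc q I : Subgroup G) : Set G)) (hf : f ∈ qc q M')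
    (hfU : ∀ w ∈ U, f * w * f⁻¹ * w⁻¹ ∈ qc q I ⊔ ⁅qc q M', qc q M'⁆) (hj : j ∈ qc q I) :
    ⁅f, j⁆ ∈ ⁅qc q M', qc q M'⁆ ⊓ Subgroup.normalizer (M : Set G) := by
  have hj' : j ∈ qc q M' := h.qc_mono hM'.1 hM'.2.1 hIM' hj
  set c := ⁅f, j⁆ with hc
  have hcmem : c ∈ ⁅qc q M', qc q M'⁆ := Subgroup.commutator_mem_commutator hf hj'
  refine ⟨hcmem, h.mem_normalizer_max hs hM hz hz1 ?_⟩
  set n := f * z * f⁻¹ * z⁻¹ with hn
  have hnmem := hfU z hzU
  have hle : qc q I ⊔ ⁅qc q M', qc q M'⁆ ≤ qc q M' :=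
    sup_le (h.qc_mono hM'.1 hM'.2.1 hIM') (Subgroup.commutator_le_self _)
  have hnj : n ∈ Subgroup.centralizer ({j} : Set G) := by
    refine (sup_le ?_ ?_ : qc q I ⊔ ⁅qc q M', qc q M'⁆ ≤ _) hnmem
    · intro x hx
      exact Subgroup.mem_centralizer_singleton_iff.2 (Subgroup.mem_centralizer_iff.1
        ((Subgroup.commutator_eq_bot_iff_le_centralizer.1 hIab) hx) j hj).symm
    · intro x hx
      exact Subgroup.mem_centralizer_singleton_iff.2 (Subgroup.mem_centralizer_iff.1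
        (h.derived_le hs hM'.1 hM'.2.1 hx) j (qc_le q _ hj')).symm
  have hn' : n⁻¹ ∈ Subgroup.centralizer ({j} : Set G) := inv_mem hnj
  rw [Subgroup.mem_centralizer_singleton_iff] at hn'
  have hnc : n⁻¹ * c = c * n⁻¹ :=
    Subgroup.mem_centralizer_iff.1 (h.derived_le hs hM'.1 hM'.2.1 hcmem) n⁻¹
      (M'.inv_mem (qc_le q _ (hle hnmem)))
  have hzj : j * z = z * j := Subgroup.mem_centralizer_iff.1 hzI j hj
  have e1 : z * f * z⁻¹ = n⁻¹ * f := by rw [hn]; group
  have e2 : z * j * z⁻¹ = j := by rw [← hzj, mul_inv_cancel_right]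
  have e3 : ⁅n⁻¹ * f, j⁆ = c := by
    calc ⁅n⁻¹ * f, j⁆ = n⁻¹ * c * (j * n * j⁻¹) := by
          rw [hc, commutatorElement_def, commutatorElement_def]; group
      _ = c := by
          have : j * n * j⁻¹ = n := by
            rw [← Subgroup.mem_centralizer_singleton_iff.1 hnj, mul_inv_cancel_right]
          rw [this, hnc, inv_mul_cancel_right]
  have e4 : z * c * z⁻¹ = c := by
    calc z * c * z⁻¹ = ⁅z * f * z⁻¹, z * j * z⁻¹⁆ := by
          rw [hc, commutatorElement_def, commutatorElement_def]; group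
      _ = c := by rw [e1, e2, e3]
  exact (mul_inv_eq_iff_eq_mul.1 e4).symm

/-- Theorem S: distinct maximal subgroups with two common members are not normalized by the
central elements of each other. -/
theorem eq_of_normalizer (h : Ctx p q D) (hs : Spec q D) {M M' A B : Subgroup G}
    (hM : IsMax q D M) (hM' : IsMax q D M') (hA : A ∈ D) (hAM : A ≤ M) (hAM' : A ≤ M')
    (hB : B ∈ D) (hBA : B ≠ A) (hBM : B ≤ M) (hBM' : B ≤ M') {z : G}
    (hz : z ∈ ⁅qc q M, qc q M⁆) (hz1 : z ≠ 1)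
    (hzM' : z ∈ Subgroup.normalizer (M' : Set G)) : M = M' := by
  haveI : Fact q.Prime := ⟨h.hq⟩
  by_contra hne
  set I := span D (M ⊓ M') with hI
  have hIM : I ≤ M := (span_le D _).trans inf_le_left
  have hIM' : I ≤ M' := (span_le D _).trans inf_le_right
  have hIspan : span D I = I := span_span _
  have hIne : I ≠ ⊤ := fun e => hM.2.1 (top_le_iff.1 (e ▸ hIM))
  have hAI : A ≤ I := le_span hA (le_inf hAM hAM')
  have hI1 : qc q I ≠ ⊥ := h.qc_ne_bot hIspan hIne hA hAI hB (le_span hB (le_inf hBM hBM')) hBA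
  have hIab : Ab q I := by
    by_contra hab
    exact hne (h.eq_of_max_le hs hM hM' hIM hIM' hab)
  have hsat : ∀ X, span D X = X → Ab q X → I ≤ X → X ≤ M → X ≤ I := by
    intro X hX hXab hIX hXM
    have hXne : X ≠ ⊤ := fun e => hM.2.1 (top_le_iff.1 (e ▸ hXM))
    conv_lhs => rw [← hX]
    refine sSup_le fun C hC => le_span hC.1 (le_inf (hC.2.trans hXM) ?_)
    exact h.le_of_normalizer hs hM' hIspan hA hAI hIM' hIab hI1 hC.1
      (hC.2.trans (h.le_normalizer_of_ab hX hXne hA hAI hIX hXab))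
  set W1 := ⁅qc q M, qc q M⁆ ⊓ Subgroup.normalizer (M' : Set G) with hW1
  set W2 := ⁅qc q M', qc q M'⁆ ⊓ Subgroup.normalizer (M : Set G) with hW2
  have hW1q : IsPGroup q W1 := (isPGroup_qc q M).to_le (inf_le_left.trans (Subgroup.commutator_le_self _))
  have hW2q : IsPGroup q W2 := (isPGroup_qc q M').to_le (inf_le_left.trans (Subgroup.commutator_le_self _))
  have hW1M : W1 ≤ Subgroup.normalizer (M : Set G) := inf_le_left.trans (h.derived_le_normalizer hs hM)
  have hW2M' : W2 ≤ Subgroup.normalizer (M' : Set G) := inf_le_left.trans (h.derived_le_normalizer hs hM')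
  have hW12 : W1 ≤ Subgroup.normalizer (W2 : Set G) := fun w hw =>
    CoprimeAction.mem_normalizer_of_conj_mem fun x hx =>
      ⟨CoprimeAction.conj_mem (CoprimeAction.normalizer_le_normalizer_commutator _
        (normalizer_le_normalizer_qc q M' hw.2)) hx.1,
      Subgroup.mul_mem _ (Subgroup.mul_mem _ (hW1M hw) hx.2) (Subgroup.inv_mem _ (hW1M hw))⟩
  set U := W1 ⊔ W2
  have hUq : IsPGroup q U := hW1q.to_sup_of_normal_right' hW2q hW12
  have hW1c : W1 ≤ Subgroup.centralizer (M : Set G) := inf_le_left.trans (h.derived_le hs hM.1 hM.2.1)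
  have hW2c : W2 ≤ Subgroup.centralizer (M' : Set G) := inf_le_left.trans (h.derived_le hs hM'.1 hM'.2.1)
  have hUA : U ≤ Subgroup.centralizer (A : Set G) :=
    sup_le (hW1c.trans (CoprimeAction.centralizer_mono hAM))
      (hW2c.trans (CoprimeAction.centralizer_mono hAM'))
  have hUR : U ≤ Subgroup.centralizer ((qc q I : Subgroup G) : Set G) :=
    sup_le (hW1c.trans (CoprimeAction.centralizer_mono ((qc_le q I).trans hIM)))
      (hW2c.trans (CoprimeAction.centralizer_mono ((qc_le q I).trans hIM')))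
  have hUM : U ≤ Subgroup.normalizer ((qc q M : Subgroup G) : Set G) :=
    (sup_le hW1M inf_le_right).trans (normalizer_le_normalizer_qc q M)
  have hUM' : U ≤ Subgroup.normalizer ((qc q M' : Subgroup G) : Set G) :=
    (sup_le inf_le_right hW2M').trans (normalizer_le_normalizer_qc q M')
  have hzU : z ∈ U := Subgroup.mem_sup_left ⟨hz, hzM'⟩
  have hM'I : ¬ M' ≤ I := fun hle => hM'.2.2.1 (le_antisymm hIM' hle ▸ hIab)
  obtain ⟨f, hf, hfN, hfU⟩ := h.core_f hs hM'.1 hM'.2.1 hA hAI hIM' hIspan hM'I hUq hUR hUM'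
  have hfW2 : ∀ j ∈ qc q I, ⁅f, j⁆ ∈ W2 := fun j hj =>
    h.comm_mem_normalizer hs hM hM' hIM' hIab hz hz1 hzU (hUR hzU) hf hfU hj
  obtain ⟨B', hB', hB'M', hB'I, hB'E⟩ := h.core_member hs hM'.1 hM'.2.1 hA hAI hIM' hIspan hM'I
    hUA hf hfN hfU fun j hj => Subgroup.mem_sup_right (hfW2 j hj)
  obtain ⟨c, hcW2, hc1⟩ : ∃ c ∈ W2, c ≠ 1 := by
    by_contra hcon
    push Not at hcon
    obtain ⟨B1, hB1, hB1M', hB1I, hB1E⟩ := h.core_member hs hM'.1 hM'.2.1 hA hAI hIM' hIspan hM'I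
      (U := ⊥) bot_le hf hfN (fun w hw => by rw [Subgroup.mem_bot.1 hw]; simp)
      (fun j hj => Subgroup.mem_bot.2 (hcon _ (hfW2 j hj)))
    rw [sup_bot_eq] at hB1E
    exact hB1I (le_span hB1 (le_inf
      (h.le_of_normalizer hs hM hIspan hA hAI hIM hIab hI1 hB1 hB1E) hB1M'))
  have hcU : c ∈ U := Subgroup.mem_sup_right hcW2
  obtain ⟨B, hB, hBM, hBI, hBE⟩ := h.core hs hM.1 hM.2.1 hA hAI hIM hIspan
    (fun hle => hM.2.2.1 (le_antisymm hIM hle ▸ hIab)) hUq hUA hUR hUM fun f hf hfU j hj =>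
      Subgroup.mem_sup_left (h.comm_mem_normalizer hs hM' hM hIM hIab hcW2.1 hc1 hcU (hUR hcU) hf
        hfU hj)
  exact h.clash hs hM hIM hIspan
    ((isPGroup_qc q I).to_sup_of_normal_left' hUq (hUR.trans (Subgroup.centralizer_le_normalizer _)))
    (fun e => hI1 (eq_bot_iff.2 (le_sup_left.trans e.le)))
    (h.normalizes_core hIspan hIne hA hAI hUA hUR) hsat (fun C hC hCM hCM' => le_span hC (le_inf hCM hCM'))
    hB hBM hBI hBE hB' hB'M' hB'I hB'E

/-- A `q`-group centralizing two members of a maximal `M` and containing a nontrivial central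
element of its `q`-part normalizes `M`. -/
theorem qgroup_le_normalizer (h : Ctx p q D) (hs : Spec q D) {M A B T : Subgroup G}
    (hM : IsMax q D M) (hA : A ∈ D) (hAM : A ≤ M) (hB : B ∈ D) (hBA : B ≠ A) (hBM : B ≤ M)
    (hT : IsPGroup q T) (hTA : T ≤ Subgroup.centralizer (A : Set G))
    (hTB : T ≤ Subgroup.centralizer (B : Set G)) {z : G} (hzT : z ∈ T)
    (hz : z ∈ ⁅qc q M, qc q M⁆) (hz1 : z ≠ 1) : T ≤ Subgroup.normalizer (M : Set G) := by
  haveI : Fact q.Prime := ⟨h.hq⟩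
  by_contra hTM
  set T0 := T ⊓ Subgroup.normalizer (M : Set G) with hT0
  obtain ⟨w, hwT, hw0, hwn⟩ := exists_normalizer_not_mem hT (U := T0)
    (lt_of_le_of_ne inf_le_left fun e => hTM (e.ge.trans inf_le_right))
  refine hw0 ⟨hwT, cj_eq_iff.1 (h.eq_of_normalizer hs hM (h.isMax_cj hM w) hA hAM ?_ hB hBA hBM ?_
    hz hz1 ?_).symm⟩
  · rw [← cj_eq_of_commute (hTA hwT)]; exact cj_mono hAM
  · rw [← cj_eq_of_commute (hTB hwT)]; exact cj_mono hBM
  · have hz0 := (CoprimeAction.conj_mem' hwn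
      (show z ∈ T0 from ⟨hzT, h.derived_le_normalizer hs hM hz⟩)).2
    rw [← cj_eq_iff, ← cj_mul, show z * w = w * (w⁻¹ * z * w) by group, cj_mul, cj_eq_iff.2 hz0]

end Ctx

end CfsgLib.OddLines
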