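/-
Involutions in a minimal counterexample: their fixed members, and the odd core of their
centralizers.
-/
import Cfsg.Agent.Lib.OddLines.Special
import Cfsg.Agent.Lib.Involutions.BrauerSuzuki
import Cfsg.Agent.Lib.Balance.SigFamily
import Cfsg.Agent.S0205

set_option autoImplicit false
set_option linter.style.haveILetI false

open scoped commutatorElement
open Cfsg

namespace CfsgLib.OddLines

variable {G : Type*} [Group G] {p q : ℕ} {D : Set (Subgroup G)}

/-- An involution centralizing some member. -/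
def CI (D : Set (Subgroup G)) (t : G) : Prop :=
  orderOf t = 2 ∧ ∃ A ∈ D, A ≤ Subgroup.centralizer ({t} : Set G)

/-- The subgroup generated by the members centralized by `t`. -/
def fixK (D : Set (Subgroup G)) (t : G) : Subgroup G :=
  span D (Subgroup.centralizer ({t} : Set G))

theorem le_centralizer_singleton_iff {A : Subgroup G} {t : G} :
    A ≤ Subgroup.centralizer ({t} : Set G) ↔ t ∈ Subgroup.centralizer (A : Set G) :=
  ⟨fun h => Subgroup.mem_centralizer_iff.2 fun _a ha =>
      Subgroup.mem_centralizer_singleton_iff.1 (h ha),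
    fun h _ ha => Subgroup.mem_centralizer_singleton_iff.2 (Subgroup.mem_centralizer_iff.1 h _ ha)⟩

theorem cj_fix_of_le_centralizer {A : Subgroup G} {t : G}
    (h : A ≤ Subgroup.centralizer ({t} : Set G)) : cj t A = A :=
  cj_eq_of_commute (le_centralizer_singleton_iff.1 h)

theorem cj_cj_involution {t : G} (ht : orderOf t = 2) (A : Subgroup G) : cj t (cj t A) = A := by
  rw [← cj_mul, Involutions.mul_self_eq_one ht, cj_one]

/-- Two commuting involutions acting on an odd set have a common fixed point. -/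
theorem exists_common_fixed {α : Type*} [Finite α] (f g : α → α) (hf : Function.Involutive f)
    (hg : Function.Involutive g) (hfg : ∀ x, f (g x) = g (f x)) (h : Odd (Nat.card α)) :
    ∃ x, f x = x ∧ g x = x := by
  classical
  have hsum : Nat.card {x // f x = x} + Nat.card {x // ¬ f x = x} = Nat.card α := by
    rw [← Nat.card_sum]
    exact Nat.card_congr (Equiv.sumCompl _)
  have heven : ¬ Odd (Nat.card {x // ¬ f x = x}) := by
    intro ho
    obtain ⟨⟨x, hx⟩, he⟩ := exists_fixed_of_odd
      (fun x : {x // ¬ f x = x} => (⟨f x.1, fun e => x.2 (hf.injective e)⟩ : {x // ¬ f x = x}))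
      (fun x => Subtype.ext (hf x.1)) ho
    exact hx (congrArg Subtype.val he)
  have hodd : Odd (Nat.card {x // f x = x}) := by
    rw [← hsum, Nat.odd_add] at h
    exact h.2 (Nat.not_odd_iff_even.1 heven)
  obtain ⟨⟨x, hx⟩, he⟩ := exists_fixed_of_odd
    (fun x : {x // f x = x} => (⟨g x.1, by rw [hfg, x.2]⟩ : {x // f x = x}))
    (fun x => Subtype.ext (hg x.1)) hodd
  exact ⟨x, hx, congrArg Subtype.val he⟩

/-- An involution is isolated in the weak sense or has a commuting conjugate different from it. -/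
theorem oddComm_or_exists [Finite G] {t : G} (ht : orderOf t = 2) :
    Involutions.OddComm t ∨ ∃ g : G, g * t * g⁻¹ ≠ t ∧ t * (g * t * g⁻¹) = g * t * g⁻¹ * t := by
  by_contra hcon
  push Not at hcon
  obtain ⟨h1, h2⟩ := hcon
  obtain ⟨g, hg⟩ := not_forall.1 h1
  rw [Nat.not_odd_iff_even] at hg
  set s := g * t * g⁻¹ with hs
  have htt := Involutions.mul_self_eq_one ht
  have hti := Involutions.inv_eq_self ht
  have hss : s * s = 1 := by
    rw [hs, show g * t * g⁻¹ * (g * t * g⁻¹) = g * (t * t) * g⁻¹ by group, htt]; group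
  set P := t * s with hP
  have hPP : t * g * t⁻¹ * g⁻¹ = P := by rw [hP, hs, hti]; group
  rw [hPP] at hg
  obtain ⟨n, hn⟩ := hg
  have hconjP : ∀ i : ℕ, t * P ^ i * t = (P ^ i)⁻¹ := by
    intro i
    induction i with
    | zero => simp [htt]
    | succ i ih =>
      have hPt : t * P * t = P⁻¹ := by
        rw [hP, mul_inv_rev, hti, inv_eq_of_mul_eq_one_left hss, ← mul_assoc, htt, one_mul]
      calc t * P ^ (i + 1) * t = t * P * t * (t * P ^ i * t) := by
            rw [pow_succ', show t * P * t * (t * P ^ i * t) = t * P * (t * t) * P ^ i * t by group,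
              htt, mul_one]
            group
        _ = _ := by rw [hPt, ih, ← mul_inv_rev, pow_succ]
  have hPn : P ^ n * P ^ n = 1 := by rw [← pow_add, ← hn, pow_orderOf_eq_one]
  have hPn1 : P ^ n ≠ 1 := fun e => by
    have := orderOf_dvd_of_pow_eq_one e
    have := orderOf_pos P
    have := Nat.le_of_dvd (by omega) ‹orderOf P ∣ n›
    omega
  have hinv : (P ^ n)⁻¹ = P ^ n := inv_eq_of_mul_eq_one_left hPn
  have hPnt : P ^ n * t = t * P ^ n := by
    calc P ^ n * t = t * (t * P ^ n * t) := by rw [← mul_assoc, ← mul_assoc, htt, one_mul]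
      _ = t * P ^ n := by rw [hconjP, hinv]
  have hshift : ∀ k : ℕ, (P ^ k)⁻¹ * t = t * P ^ k := fun k => by
    rw [← hconjP, mul_assoc, mul_assoc, htt, mul_one]
  obtain ⟨d, hd⟩ : ∃ d : G, d * t * d⁻¹ = t * P ^ n := by
    rcases Nat.even_or_odd' n with ⟨k, rfl | rfl⟩
    · exact ⟨(P ^ k)⁻¹, by rw [inv_inv, hshift, mul_assoc, ← pow_add, two_mul]⟩
    · refine ⟨(P ^ k)⁻¹ * g, ?_⟩
      rw [show (P ^ k)⁻¹ * g * t * ((P ^ k)⁻¹ * g)⁻¹ = (P ^ k)⁻¹ * (g * t * g⁻¹) * P ^ k by group,
        ← hs, show s = t * P by rw [hP, ← mul_assoc, htt, one_mul], ← mul_assoc, hshift, mul_assoc,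
        mul_assoc, ← pow_succ', ← pow_add]
      congr 2
      omega
  refine h2 d ?_ ?_
  · rw [hd]
    intro e
    exact hPn1 (mul_eq_left.1 e)
  · rw [hd, mul_assoc, hPnt]

theorem invert_or_centralize [Finite G] (h : Setting p q D) {u : G} (hu : orderOf u = 2)
    {C : Subgroup G} (hC : C ∈ D) (hfix : cj u C = C) :
    C ≤ Subgroup.centralizer ({u} : Set G) ∨ ∀ c ∈ C, u * c * u⁻¹ = c⁻¹ := by
  refine or_iff_not_imp_left.2 fun hne c hc => ?_
  have huu := Involutions.mul_self_eq_one hu
  have hmem : u * c * u⁻¹ ∈ C := hfix.le (conj_mem_cj hc)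
  obtain ⟨b, -, -, hbC⟩ := h.zpowers_eq hC
  have hcomm : c * (u * c * u⁻¹) = u * c * u⁻¹ * c := by
    rw [← hbC] at hc hmem
    obtain ⟨i, hi⟩ := Subgroup.mem_zpowers_iff.1 hc
    obtain ⟨j, hj⟩ := Subgroup.mem_zpowers_iff.1 hmem
    rw [← hj, ← hi]
    exact zpow_mul_comm b i j
  have hd : c * (u * c * u⁻¹) ∈ C ⊓ Subgroup.centralizer ({u} : Set G) := by
    refine ⟨C.mul_mem hc hmem, Subgroup.mem_centralizer_singleton_iff.2 ?_⟩
    have hui := Involutions.inv_eq_self hu
    calc c * (u * c * u⁻¹) * u = u * c * u⁻¹ * c * u := by rw [hcomm]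
      _ = u * (c * (u * c * u⁻¹)) := by rw [hui]; group
  have hbot : C ⊓ Subgroup.centralizer ({u} : Set G) = ⊥ := by
    rcases (Nat.dvd_prime h.hp).1 (h.card C hC ▸ Subgroup.card_dvd_of_le
      (inf_le_left : C ⊓ Subgroup.centralizer ({u} : Set G) ≤ C)) with e | e
    · exact Subgroup.eq_bot_of_card_eq _ e
    · exact absurd (inf_eq_left.1 (Subgroup.eq_of_le_of_card_ge inf_le_left
        (by rw [e, h.card C hC]))) hne
  rw [hbot, Subgroup.mem_bot] at hd
  exact eq_inv_of_mul_eq_one_right hd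

namespace Setting

theorem line_solvable [Finite G] (h : Setting p q D) {A B : Subgroup G} (hA : A ∈ D) (hB : B ∈ D) :
    Group.IsSolvable ↥(A ⊔ B) := by
  rcases eq_or_ne A B with rfl | hne
  · rw [sup_idem]; exact h.isSolvable_member hA
  obtain ⟨Q, hQ, hn, e⟩ := h.line A hA B hB hne
  rw [← e]
  haveI : Fact q.Prime := ⟨h.hq⟩
  haveI := hQ.isNilpotent
  haveI := h.isSolvable_member hA
  exact Balance.isSolvable_sup (le_sup_left.trans hn)

end Setting

namespace Ctx

variable [Finite G]

theorem line_ne_top (h : Ctx p q D) {A B : Subgroup G} (hA : A ∈ D) (hB : B ∈ D) : A ⊔ B ≠ ⊤ :=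
  fun e => h.notsol (by
    have := h.line_solvable hA hB
    rw [e] at this
    haveI := this
    exact Group.isSolvable_of_isSolvable_injective (f := (Subgroup.topEquiv (G := G)).symm.toMonoidHom)
      (Subgroup.topEquiv (G := G)).symm.injective)

theorem odd_card_span (h : Ctx p q D) {K : Subgroup G} (hK : span D K = K) (hne : K ≠ ⊤) :
    Odd (Nat.card K) := by
  rcases eq_or_ne K ⊥ with rfl | hK0
  · simp
  obtain ⟨A, hA, hAK⟩ := h.exists_member hK hK0
  haveI : Fact q.Prime := ⟨h.hq⟩
  obtain ⟨k, hk⟩ := (isPGroup_qc q K).exists_card_eq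
  haveI : ((qc q K).subgroupOf K).Normal :=
    (Subgroup.normal_subgroupOf_iff_le_normalizer (qc_le q K)).2 (le_normalizer_qc q K)
  have hd : Nat.card K ∣ q ^ k * p := by
    have h1 := Cores.card_sup_dvd (A.subgroupOf K) ((qc q K).subgroupOf K)
    rw [← Subgroup.subgroupOf_sup hAK (qc_le q K), sup_comm A, (h.struct' hK hne hA hAK).1,
      Subgroup.subgroupOf_self, Subgroup.card_top,
      Nat.card_congr (Subgroup.subgroupOfEquivOfLe hAK).toEquiv,
      Nat.card_congr (Subgroup.subgroupOfEquivOfLe (qc_le q K)).toEquiv, h.card A hA, hk,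
      mul_comm] at h1
    exact h1
  exact ((h.hq.odd_of_ne_two h.hq2).pow.mul (h.hp.odd_of_ne_two h.hp2)).of_dvd_nat hd

/-- The number of members in a proper subgroup is a power of `q`. -/
theorem card_members (h : Ctx p q D) {K A : Subgroup G} (hK : span D K = K) (hne : K ≠ ⊤)
    (hA : A ∈ D) (hAK : A ≤ K) : ∃ k, Nat.card {C : Subgroup G // C ∈ D ∧ C ≤ K} = q ^ k := by
  haveI : Fact q.Prime := ⟨h.hq⟩
  letI act : MulAction (qc q K) (Subgroup G) :=
    { smul := fun r X => cj (r : G) X
      one_smul := fun X => cj_one X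
      mul_smul := fun r s X => cj_mul (r : G) (s : G) X }
  have he : Nat.card {C : Subgroup G // C ∈ D ∧ C ≤ K} = Nat.card (MulAction.orbit (qc q K) A) := by
    refine Nat.card_congr (Equiv.subtypeEquivRight fun C => ?_)
    constructor
    · rintro ⟨hC, hCK⟩
      obtain ⟨r, hr, rfl⟩ := h.subset_of_le_member hK hne hA hAK hC hCK
      exact ⟨⟨r, hr⟩, rfl⟩
    · rintro ⟨⟨r, hr⟩, rfl⟩
      exact ⟨h.conj A hA r, cj_le (Subgroup.le_normalizer (qc_le q K hr)) hAK⟩
  obtain ⟨k, hk⟩ := (isPGroup_qc q K).exists_card_eq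
  have hd : Nat.card (MulAction.orbit (qc q K) A) ∣ q ^ k := by
    rw [← hk, Nat.card_congr (MulAction.orbitEquivQuotientStabilizer (qc q K) A)]
    exact Subgroup.card_quotient_dvd_card _
  obtain ⟨j, -, hj⟩ := (Nat.dvd_prime_pow h.hq).1 hd
  exact ⟨j, he.trans hj⟩

theorem odd_card_members (h : Ctx p q D) {K A : Subgroup G} (hK : span D K = K) (hne : K ≠ ⊤)
    (hA : A ∈ D) (hAK : A ≤ K) : Odd (Nat.card {C : Subgroup G // C ∈ D ∧ C ≤ K}) := by
  obtain ⟨k, hk⟩ := h.card_members hK hne hA hAK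
  exact hk ▸ (h.hq.odd_of_ne_two h.hq2).pow

theorem exists_fixed_in (h : Ctx p q D) {t : G} (ht : orderOf t = 2) {K A : Subgroup G}
    (hK : span D K = K) (hne : K ≠ ⊤) (hA : A ∈ D) (hAK : A ≤ K) (htK : cj t K = K) :
    ∃ C ∈ D, C ≤ K ∧ cj t C = C := by
  obtain ⟨⟨C, hC, hCK⟩, he⟩ := exists_fixed_of_odd
    (fun C : {C : Subgroup G // C ∈ D ∧ C ≤ K} =>
      (⟨cj t C.1, h.conj _ C.2.1 t, (cj_mono C.2.2).trans htK.le⟩ : {C : Subgroup G // C ∈ D ∧ C ≤ K}))
    (fun C => Subtype.ext (cj_cj_involution ht _)) (h.odd_card_members hK hne hA hAK)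
  exact ⟨C, hC, hCK, congrArg Subtype.val he⟩

omit [Finite G] in
theorem exists_member_top (h : Ctx p q D) : ∃ A, A ∈ D := by
  by_contra hcon
  push Not at hcon
  have hbot : (⊤ : Subgroup G) = ⊥ :=
    h.top ▸ eq_bot_iff.2 (sSup_le fun A hA => absurd hA (hcon A))
  haveI : Subsingleton G := ⟨fun x y => by
    exact (Subgroup.mem_bot.1 (hbot.le (Subgroup.mem_top x))).trans
      (Subgroup.mem_bot.1 (hbot.le (Subgroup.mem_top y))).symm⟩
  exact h.notsol (Group.isSolvable_of_comm fun x y => Subsingleton.elim _ _)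

theorem exists_fixed (h : Ctx p q D) {t : G} (ht : orderOf t = 2) :
    ∃ A ∈ D, cj t A = A := by
  obtain ⟨A, hA⟩ := h.exists_member_top
  have htA := h.conj A hA t
  obtain ⟨C, hC, -, hfix⟩ := h.exists_fixed_in ht (span_line hA htA) (h.line_ne_top hA htA) hA
    le_sup_left (by rw [cj_sup, cj_cj_involution ht, sup_comm])
  exact ⟨C, hC, hfix⟩

theorem centralizer_of_fixed (h : Ctx p q D) {t : G} (ht : CI D t) {B : Subgroup G} (hB : B ∈ D)
    (hfix : cj t B = B) : B ≤ Subgroup.centralizer ({t} : Set G) := by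
  obtain ⟨-, A, hA, hAt⟩ := ht
  exact le_centralizer_singleton_iff.2
    (h.centralizer_of_fix hA hB (le_centralizer_singleton_iff.1 hAt) hfix)

theorem le_fixK (h : Ctx p q D) {t : G} (ht : CI D t) {B : Subgroup G} (hB : B ∈ D)
    (hfix : cj t B = B) : B ≤ fixK D t :=
  le_span hB (h.centralizer_of_fixed ht hB hfix)

omit [Finite G] in
theorem fixK_ne_top (h : Ctx p q D) {t : G} (ht : CI D t) : fixK D t ≠ ⊤ :=
  h.span_centralizer_ne_top fun e => by
    have := ht.1
    rw [e, orderOf_one] at this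
    exact absurd this (by norm_num)

/-- An involution has a commuting conjugate different from it. -/
theorem exists_conj_commute (h : Ctx p q D) {t : G} (ht : orderOf t = 2) :
    ∃ g : G, g * t * g⁻¹ ≠ t ∧ t * (g * t * g⁻¹) = g * t * g⁻¹ * t := by
  refine (oddComm_or_exists ht).resolve_left fun hodd => ?_
  have hc : t ∈ Subgroup.center G := Subgroup.mem_center_iff.2 fun g => by
    have h1 := Involutions.zstar_theorem ht hodd g
    rw [h.odd, Subgroup.mem_bot, mul_inv_eq_one, mul_inv_eq_iff_eq_mul] at h1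
    exact h1.symm
  rw [h.center, Subgroup.mem_bot] at hc
  rw [hc, orderOf_one] at ht
  exact absurd ht (by norm_num)

theorem exists_CI (h : Ctx p q D) (heven : Even (Nat.card G)) : ∃ t : G, CI D t := by
  haveI : Fact (Nat.Prime 2) := ⟨Nat.prime_two⟩
  obtain ⟨t, ht⟩ := exists_prime_orderOf_dvd_card' (G := G) 2 (even_iff_two_dvd.1 heven)
  obtain ⟨g, hne, hcomm⟩ := h.exists_conj_commute ht
  set s := g * t * g⁻¹
  have hs : orderOf s = 2 := (Involutions.orderOf_conj g t).trans ht
  obtain ⟨A, hA, htA⟩ := h.exists_fixed ht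
  obtain ⟨C, hC, htC, hsC⟩ : ∃ C ∈ D, cj t C = C ∧ cj s C = C := by
    by_cases hsA : cj s A = A
    · exact ⟨A, hA, htA, hsA⟩
    have hB := h.conj A hA s
    have ht2 : cj t (cj s A) = cj s A := by rw [← cj_mul, hcomm, cj_mul, htA]
    have hsL : cj s (A ⊔ cj s A) = A ⊔ cj s A := by rw [cj_sup, cj_cj_involution hs, sup_comm]
    have htL : cj t (A ⊔ cj s A) = A ⊔ cj s A := by rw [cj_sup, htA, ht2]
    obtain ⟨⟨C, hC, hCL⟩, h1, h2⟩ := exists_common_fixed
      (fun C : {C : Subgroup G // C ∈ D ∧ C ≤ A ⊔ cj s A} =>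
        (⟨cj t C.1, h.conj _ C.2.1 t, (cj_mono C.2.2).trans htL.le⟩ :
          {C : Subgroup G // C ∈ D ∧ C ≤ A ⊔ cj s A}))
      (fun C => (⟨cj s C.1, h.conj _ C.2.1 s, (cj_mono C.2.2).trans hsL.le⟩ :
          {C : Subgroup G // C ∈ D ∧ C ≤ A ⊔ cj s A}))
      (fun C => Subtype.ext (cj_cj_involution ht _)) (fun C => Subtype.ext (cj_cj_involution hs _))
      (fun C => Subtype.ext (by show cj t (cj s _) = cj s (cj t _); rw [← cj_mul, hcomm, cj_mul]))
      (h.odd_card_members (span_line hA hB) (h.line_ne_top hA hB) hA le_sup_left)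
    exact ⟨C, hC, congrArg Subtype.val h1, congrArg Subtype.val h2⟩
  rcases invert_or_centralize h.toSetting ht hC htC with h1 | h1
  · exact ⟨t, ht, C, hC, h1⟩
  rcases invert_or_centralize h.toSetting hs hC hsC with h2 | h2
  · exact ⟨s, hs, C, hC, h2⟩
  refine ⟨t * s, orderOf_eq_prime ?_ ?_, C, hC, fun c hc => ?_⟩
  · rw [pow_two, show t * s * (t * s) = t * (s * t) * s by group, ← hcomm,
      show t * (t * s) * s = t * t * (s * s) by group, Involutions.mul_self_eq_one ht,
      Involutions.mul_self_eq_one hs, one_mul]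
  · intro e
    rw [mul_eq_one_iff_eq_inv, Involutions.inv_eq_self hs] at e
    exact hne e.symm
  · refine Subgroup.mem_centralizer_singleton_iff.2 ?_
    have : t * s * c * (t * s)⁻¹ = c := by
      rw [show t * s * c * (t * s)⁻¹ = t * (s * c * s⁻¹) * t⁻¹ by group, h2 c hc, h1 _ (inv_mem hc),
        inv_inv]
    exact (mul_inv_eq_iff_eq_mul.1 this).symm

/-- An involution centralizes more than one member. -/
theorem exists_two (h : Ctx p q D) {t : G} (ht : CI D t) {A : Subgroup G} (hA : A ∈ D) :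
    ∃ B ∈ D, B ≠ A ∧ B ≤ Subgroup.centralizer ({t} : Set G) := by
  haveI : Fact q.Prime := ⟨h.hq⟩
  by_contra hcon
  push Not at hcon
  have huniq : ∀ B ∈ D, cj t B = B → B = A := fun B hB hfix => by
    by_contra hne
    exact hcon B hB hne (h.centralizer_of_fixed ht hB hfix)
  have hfixA : cj t A = A := by
    obtain ⟨A0, hA0, hA0t⟩ := ht.2
    rw [← huniq A0 hA0 (cj_fix_of_le_centralizer hA0t)]
    exact cj_fix_of_le_centralizer hA0t
  obtain ⟨g, hne, hcomm⟩ := h.exists_conj_commute ht.1
  set s := g * t * g⁻¹ with hsdef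
  have hs : orderOf s = 2 := (Involutions.orderOf_conj g t).trans ht.1
  have hsfix : ∀ B ∈ D, cj s B = B → B = cj g A := by
    intro B hB hfix
    have h1 := huniq (cj g⁻¹ B) (h.conj B hB _) (by
      rw [← cj_mul, show t * g⁻¹ = g⁻¹ * s by rw [hsdef]; group, cj_mul, hfix])
    rw [← h1, cj_cj_inv]
  have hgA : cj g A = A := by
    refine huniq _ (h.conj A hA g) (hsfix _ (h.conj _ (h.conj A hA g) t) ?_)
    rw [← cj_mul, ← hcomm, cj_mul, ← cj_mul s g, show s * g = g * t by rw [hsdef]; group, cj_mul,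
      hfixA]
  rw [hgA] at hsfix
  have hAt : A ≤ Subgroup.centralizer ({t} : Set G) := h.centralizer_of_fixed ht hA hfixA
  have hAs : A ≤ Subgroup.centralizer ({s} : Set G) := by
    have hsg : s = g * t * g⁻¹ := hsdef
    rw [← hgA]
    intro x hx
    rw [mem_cj] at hx
    refine Subgroup.mem_centralizer_singleton_iff.2 ?_
    have e := Subgroup.mem_centralizer_singleton_iff.1 (hAt hx)
    calc x * s = g * (g⁻¹ * x * g * t) * g⁻¹ := by rw [hsg]; group
      _ = s * x := by rw [e, hsg]; group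
  -- `s * t` centralizes every member
  set w := s * t with hw
  have hw2 : w * w = 1 := by
    rw [hw, show s * t * (s * t) = s * (t * s) * t by group, hcomm,
      show s * (s * t) * t = s * s * (t * t) by group, Involutions.mul_self_eq_one hs,
      Involutions.mul_self_eq_one ht.1, one_mul]
  have hwA : A ≤ Subgroup.centralizer ({w} : Set G) := fun x hx =>
    Subgroup.mem_centralizer_singleton_iff.2
      ((show Commute x s from Subgroup.mem_centralizer_singleton_iff.1 (hAs hx)).mul_right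
        (show Commute x t from Subgroup.mem_centralizer_singleton_iff.1 (hAt hx))).eq
  have hall : ∀ B ∈ D, B ≤ Subgroup.centralizer ({w} : Set G) := by
    intro B hB
    rcases eq_or_ne B A with rfl | hBA
    · exact hwA
    have hL := span_line hA hB
    have hLne := h.line_ne_top hA hB
    set R := qc q (A ⊔ B) with hR
    have hAR : A ≤ Subgroup.normalizer (R : Set G) := le_sup_left.trans (le_normalizer_qc q _)
    -- both involutions invert `R` modulo its derived subgroup
    have key : ∀ u : G, orderOf u = 2 → A ≤ Subgroup.centralizer ({u} : Set G) →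
        (∀ C ∈ D, cj u C = C → C = A) →
        u ∈ Subgroup.normalizer (R : Set G) ∧ ∀ r ∈ R, r * (u * r * u⁻¹) ∈ ⁅R, R⁆ := by
      intro u hu hAu hun
      have hB' := h.conj B hB u
      have hne' : B ≠ cj u B := fun e => hBA (hun B hB e.symm)
      have hinv : cj u (B ⊔ cj u B) = B ⊔ cj u B := by rw [cj_sup, cj_cj_involution hu, sup_comm]
      obtain ⟨C, hC, hCL, hfix⟩ :=
        h.exists_fixed_in hu (span_line hB hB') (h.line_ne_top hB hB') hB le_sup_left hinv
      rw [hun C hC hfix] at hCL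
      have hLeq : A ⊔ B = B ⊔ cj u B :=
        h.gen B hB _ hB' hne' A hA B hB hCL le_sup_left (Ne.symm hBA)
      have huR : u ∈ Subgroup.normalizer (R : Set G) := normalizer_le_normalizer_qc q _
        (cj_eq_iff.1 (by rw [hLeq]; exact hinv))
      refine ⟨huR, fun r hr => ?_⟩
      have hui := Involutions.inv_eq_self hu
      set k := r * (u * r * u⁻¹) with hk
      have hkR : k ∈ R := R.mul_mem hr (CoprimeAction.conj_mem huR hr)
      have hkfix : u * k * u⁻¹ * k⁻¹ ∈ ⁅R, R⁆ := by
        have : u * k * u⁻¹ * k⁻¹ = ⁅u * r * u⁻¹, r⁆ := by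
          rw [hk, commutatorElement_def, hui,
            show u * (r * (u * r * u)) * u = u * r * u * (r * (u * u)) by group,
            Involutions.mul_self_eq_one hu]
          group
        rw [this]
        exact Subgroup.commutator_mem_commutator (CoprimeAction.conj_mem huR hr) hr
      have hun' : Subgroup.zpowers u ≤ Subgroup.normalizer ((⁅R, R⁆ : Subgroup G) : Set G) :=
        Subgroup.zpowers_le.2 (CoprimeAction.normalizer_le_normalizer_commutator R huR)
      have hcop : (Nat.card (Subgroup.zpowers u)).Coprime (Nat.card R) := by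
        obtain ⟨j, hj⟩ := (isPGroup_qc q (A ⊔ B)).exists_card_eq
        rw [Nat.card_zpowers, hu, hR, hj]
        exact ((Nat.coprime_primes Nat.prime_two h.hq).2 (Ne.symm h.hq2)).pow_right j
      obtain ⟨c, hc, hcN⟩ := CoprimeAction.exists_centralizer_mem_coset_of_commutator
        (K := R) (N := ⁅R, R⁆) hcop (Or.inl (CoprimeAction.isSolvable_zpowers u))
        (Subgroup.commutator_le_self R)
        (Subgroup.le_normalizer.trans (CoprimeAction.normalizer_le_normalizer_commutator R))
        hun' hkR (fun b hb => by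
          obtain ⟨i, rfl⟩ := (isOfFinOrder_of_finite u).mem_powers_iff_mem_zpowers.2 hb
          show u ^ i * k * (u ^ i)⁻¹ * k⁻¹ ∈ _
          have hu2 : u ^ 2 = 1 := by rw [← hu]; exact pow_orderOf_eq_one u
          rw [← Nat.mod_add_div i 2, pow_add, pow_mul, hu2, one_pow, mul_one]
          rcases Nat.mod_two_eq_zero_or_one i with e | e <;> rw [e]
          · simp
          · rwa [pow_one])
      have hcu : u * c = c * u := Subgroup.mem_centralizer_iff.1 hc.2 u (Subgroup.mem_zpowers u)
      have hfixc : cj c A = A := hun _ (h.conj A hA c) (by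
        rw [← cj_mul, hcu, cj_mul, cj_fix_of_le_centralizer hAu])
      have hcN' : c ∈ ⁅R, R⁆ := h.fixed_le_derived hL hLne hA le_sup_left
        ⟨hc.1, h.normalizer_inter_qgroup hA (isPGroup_qc q _) hAR hc.1 hfixc⟩
      simpa using Subgroup.mul_mem _ hcN' (inv_mem hcN)
    obtain ⟨hsR, hsinv⟩ := key s hs hAs hsfix
    obtain ⟨htR, htinv⟩ := key t ht.1 hAt huniq
    have hwR : w ∈ Subgroup.normalizer (R : Set G) := Subgroup.mul_mem _ hsR htR
    have hwR' := CoprimeAction.normalizer_le_normalizer_commutator R hwR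
    have hsR' := CoprimeAction.normalizer_le_normalizer_commutator R hsR
    have hRw : R ≤ R ⊓ Subgroup.centralizer ({w} : Set G) := by
      refine le_of_le_sup_commutator (isPGroup_qc q _) inf_le_left fun r hr => ?_
      have hw1 : r⁻¹ * (w * r * w⁻¹) ∈ ⁅R, R⁆ := by
        have e : r⁻¹ * (w * r * w⁻¹) =
            r⁻¹ * (s * r⁻¹ * s⁻¹) * (s * (r * (t * r * t⁻¹)) * s⁻¹) := by
          rw [hw]; group
        have h2 : r⁻¹ * (s * r⁻¹ * s⁻¹) ∈ ⁅R, R⁆ := hsinv r⁻¹ (R.inv_mem hr)
        rw [e]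
        exact Subgroup.mul_mem _ h2 (CoprimeAction.conj_mem hsR' (htinv r hr))
      have hcop : (Nat.card (Subgroup.zpowers w)).Coprime (Nat.card ↥(⁅R, R⁆)) := by
        obtain ⟨j, hj⟩ := ((isPGroup_qc q (A ⊔ B)).to_le (Subgroup.commutator_le_self R)).exists_card_eq
        rw [Nat.card_zpowers, hj]
        refine (((Nat.coprime_primes Nat.prime_two h.hq).2 (Ne.symm h.hq2)).pow_right j).coprime_dvd_left
          (orderOf_dvd_of_pow_eq_one (by rw [pow_two, hw2]))
      obtain ⟨c, hc, hcN⟩ := CoprimeAction.exists_centralizer_mem_coset_of_le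
        (A := Subgroup.zpowers w) (K := R) (N := ⁅R, R⁆) (Subgroup.zpowers_le.2 hwR')
        (Subgroup.commutator_le_self R) hcop (Or.inl (CoprimeAction.isSolvable_zpowers w)) hr
        (fun b hb => by
          obtain ⟨i, rfl⟩ := (isOfFinOrder_of_finite w).mem_powers_iff_mem_zpowers.2 hb
          show r⁻¹ * (w ^ i * r * (w ^ i)⁻¹) ∈ _
          rw [← Nat.mod_add_div i 2, pow_add, pow_mul, pow_two, hw2, one_pow, mul_one]
          rcases Nat.mod_two_eq_zero_or_one i with e | e <;> rw [e]
          · simp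
          · rwa [pow_one])
      rw [show r = c * (r⁻¹ * c)⁻¹ by group]
      exact Subgroup.mul_mem_sup ⟨hc.1, Subgroup.mem_centralizer_singleton_iff.2
        (Subgroup.mem_centralizer_iff.1 hc.2 w (Subgroup.mem_zpowers w)).symm⟩ (inv_mem hcN)
    exact le_sup_right.trans ((h.struct' hL hLne hA le_sup_left).1.ge.trans
      (sup_le (hRw.trans inf_le_right) hwA))
  have hwc : w ∈ Subgroup.center G := Subgroup.mem_center_iff.2 fun x => by
    have : (⊤ : Subgroup G) ≤ Subgroup.centralizer ({w} : Set G) := h.top ▸ sSup_le hall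
    exact Subgroup.mem_centralizer_singleton_iff.1 (this (Subgroup.mem_top x))
  rw [h.center, Subgroup.mem_bot] at hwc
  exact hne ((mul_eq_one_iff_eq_inv.1 hwc).trans (Involutions.inv_eq_self ht.1))

theorem qc_fixK_ne_bot (h : Ctx p q D) {t : G} (ht : CI D t) : qc q (fixK D t) ≠ ⊥ := by
  obtain ⟨A, hA, hAt⟩ := ht.2
  obtain ⟨B, hB, hBA, hBt⟩ := h.exists_two ht hA
  exact h.qc_ne_bot (span_span _) (h.fixK_ne_top ht) hA (le_span hA hAt) hB (le_span hB hBt) hBA

omit [Finite G] in
theorem cj_fixK (h : Ctx p q D) {t g : G} (hg : g * t = t * g) : cj g (fixK D t) = fixK D t := by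
  rw [fixK, h.cj_span]
  congr 1
  exact cj_eq_iff.2 (Subgroup.le_normalizer (Subgroup.mem_centralizer_singleton_iff.2 hg))

end Ctx

end CfsgLib.OddLines
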