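/-
For a well chosen involution `t`, the elements centralized by `t` in a `t`-invariant line lie in
the odd core of the centralizer of `t`.
-/
import Cfsg.Agent.Lib.OddLines.Involution

set_option autoImplicit false
set_option linter.style.haveILetI false

open scoped commutatorElement
open Cfsg

namespace CfsgLib.OddLines

variable {G : Type*} [Group G] {p q : ℕ} {D : Set (Subgroup G)}

/-- A characteristic subgroup of a subgroup is normalized by its normalizer. -/
theorem normalizer_le_normalizer_map [Finite G] (H : Subgroup G) (C : Subgroup H)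
    [hC : C.Characteristic] :
    Subgroup.normalizer (H : Set G) ≤ Subgroup.normalizer ((C.map H.subtype : Subgroup G) : Set G) := by
  intro b hb
  refine CoprimeAction.mem_normalizer_of_conj_mem ?_
  rintro _ ⟨x, hx, rfl⟩
  let φ : H ≃* H :=
    { toFun := fun y => ⟨b * y * b⁻¹, CoprimeAction.conj_mem hb y.2⟩
      invFun := fun y => ⟨b⁻¹ * y * b, CoprimeAction.conj_mem' hb y.2⟩
      left_inv := fun y => Subtype.ext (by simp [mul_assoc])
      right_inv := fun y => Subtype.ext (by simp [mul_assoc])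
      map_mul' := fun y z => Subtype.ext (by simp [mul_assoc]) }
  have : C.comap φ.toMonoidHom = C := Subgroup.characteristic_iff_comap_eq.1 hC φ
  exact ⟨φ x, this.symm.le hx, rfl⟩

/-- An element of a subgroup of odd order normalized by `C(t)` lies in the odd core of `C(t)`. -/
theorem mem_oddCore_of_normalized [Finite G] {t : G} {N : Subgroup G} (hN : Odd (Nat.card N))
    (hn : Subgroup.centralizer ({t} : Set G) ≤ Subgroup.normalizer (N : Set G))
    (x : Subgroup.centralizer ({t} : Set G)) (hx : (x : G) ∈ N) :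
    x ∈ oddCore (Subgroup.centralizer ({t} : Set G)) := by
  set C := Subgroup.centralizer ({t} : Set G)
  haveI : (N.subgroupOf C).Normal := ⟨fun y hy g => by
    rw [Subgroup.mem_subgroupOf] at hy ⊢
    simpa using CoprimeAction.conj_mem (hn g.2) hy⟩
  refine Cores.le_oddCore ?_ (Subgroup.mem_subgroupOf.2 hx)
  have h1 : Nat.card ((N.subgroupOf C).map C.subtype) = Nat.card (N.subgroupOf C) :=
    Subgroup.card_map_of_injective C.subtype_injective
  rw [← h1, Subgroup.subgroupOf_map_subtype]
  exact hN.of_dvd_nat (Subgroup.card_dvd_of_le inf_le_left)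

/-- An element of a `q`-group has a power of order `q`. -/
theorem exists_pow_orderOf_eq [Finite G] (hq : q.Prime) {Q : Subgroup G} (hQ : IsPGroup q Q)
    {z : G} (hz : z ∈ Q) (hz1 : z ≠ 1) : ∃ m : ℕ, orderOf (z ^ m) = q := by
  obtain ⟨k, hk⟩ := hQ ⟨z, hz⟩
  obtain ⟨j, -, hj⟩ := (Nat.dvd_prime_pow hq).1
    (orderOf_dvd_of_pow_eq_one (congrArg Subtype.val hk : z ^ q ^ k = 1))
  cases j with
  | zero => exact absurd (orderOf_eq_one_iff.1 (by simpa using hj)) hz1
  | succ j =>
    refine ⟨q ^ j, ?_⟩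
    rw [orderOf_pow' z (pow_ne_zero j hq.ne_zero), hj,
      Nat.gcd_eq_right (pow_dvd_pow q j.le_succ), pow_succ,
      Nat.mul_div_cancel_left _ (pow_pos hq.pos j)]

namespace Ctx

variable [Finite G]

/-- The choice of the involution. -/
def Good (_p q : ℕ) (D : Set (Subgroup G)) (t : G) : Prop :=
  CI D t ∧ (¬ Ab q (fixK D t) ∨
    ((∀ s, CI D s → Ab q (fixK D s)) ∧ ∀ s, CI D s →
      Nat.card (fixK D s) ≤ Nat.card (fixK D t)))

theorem exists_good (h : Ctx p q D) (heven : Even (Nat.card G)) : ∃ t, Good p q D t := by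
  classical
  by_cases hex : ∃ t, CI D t ∧ ¬ Ab q (fixK D t)
  · obtain ⟨t, ht, hab⟩ := hex
    exact ⟨t, ht, Or.inl hab⟩
  push Not at hex
  obtain ⟨t0, ht0⟩ := h.exists_CI heven
  haveI := Fintype.ofFinite G
  obtain ⟨t, ht, hmax⟩ := (Finset.univ.filter fun t : G => CI D t).exists_max_image
    (fun t => Nat.card (fixK D t)) ⟨t0, by simp [ht0]⟩
  simp only [Finset.mem_filter, Finset.mem_univ, true_and] at ht hmax
  exact ⟨t, ht, Or.inr ⟨hex, hmax⟩⟩

/-- The centralizer of a good involution normalizes an invariant maximal subgroup having a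
nontrivial central fixed point. -/
theorem centralizer_le_normalizer_max (h : Ctx p q D) (hs : Spec q D) {t : G} (ht : Good p q D t)
    {M L C : Subgroup G} (hM : IsMax q D M) (hMt : cj t M = M) (hC : C ∈ D) (hCM : C ≤ M)
    (hCt : C ≤ Subgroup.centralizer ({t} : Set G)) (hL : span D L = L) (hLM : L ≤ M)
    (_hCL : C ≤ L) (hLab : ¬ Ab q L) (hLt : cj t L = L) {z : G} (hz : z ∈ ⁅qc q M, qc q M⁆)
    (hz1 : z ≠ 1) (hzt : z * t = t * z) :
    Subgroup.centralizer ({t} : Set G) ≤ Subgroup.normalizer (M : Set G) := by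
  haveI : Fact q.Prime := ⟨h.hq⟩
  obtain ⟨hCI, hcase⟩ := ht
  set K := fixK D t with hKdef
  have hKspan : span D K = K := span_span _
  have hKne : K ≠ ⊤ := h.fixK_ne_top hCI
  have hCK : C ≤ K := le_span hC hCt
  have hzM : z ∈ Subgroup.centralizer (M : Set G) := h.derived_le hs hM.1 hM.2.1 hz
  have hzC : z ∈ Subgroup.centralizer (C : Set G) := CoprimeAction.centralizer_mono hCM hzM
  have hzK : cj z K = K := h.cj_fixK hzt
  -- `z` fixes a second member of `K`
  obtain ⟨B, hB, hBK, hBC, hBfix⟩ : ∃ B ∈ D, B ≤ K ∧ B ≠ C ∧ cj z B = B := by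
    classical
    obtain ⟨k, hk⟩ := h.card_members hKspan hKne hC hCK
    have hk0 : k ≠ 0 := by
      rintro rfl
      rw [pow_zero, Nat.card_eq_one_iff_unique] at hk
      obtain ⟨B, hB, hBC, hBt⟩ := h.exists_two hCI hC
      exact hBC (congrArg Subtype.val
        (hk.1.elim ⟨B, hB, le_span hB hBt⟩ (⟨C, hC, hCK⟩ : {C : Subgroup G // C ∈ D ∧ C ≤ K})))
    let α := {C : Subgroup G // C ∈ D ∧ C ≤ K}
    let f : α → α := fun X => ⟨cj z X.1, h.conj _ X.2.1 z, (cj_mono X.2.2).trans hzK.le⟩
    let σ : Equiv.Perm α := Equiv.ofBijective f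
      (Finite.injective_iff_bijective.1 fun X Y e =>
        Subtype.ext (cj_injective z (congrArg Subtype.val e)))
    haveI := Fintype.ofFinite α
    have hpow : ∀ (n : ℕ) (X : α), ((σ ^ n) X).1 = cj (z ^ n) X.1 := by
      intro n
      induction n with
      | zero => intro X; simp [cj_one]
      | succ n ih =>
        intro X
        rw [pow_succ, Equiv.Perm.mul_apply, ih, pow_succ, cj_mul]
        rfl
    obtain ⟨j, hj⟩ := (isPGroup_qc q M) ⟨z, Subgroup.commutator_le_self _ hz⟩
    have hzj : z ^ q ^ j = 1 := congrArg Subtype.val hj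
    have hσ : σ ^ q ^ j = 1 := Equiv.ext fun X => Subtype.ext (by
      rw [hpow, hzj, cj_one]; rfl)
    obtain ⟨⟨B, hB, hBK⟩, hfix, hne⟩ := Equiv.Perm.exists_fixed_point_of_prime'
      (a := (⟨C, hC, hCK⟩ : α)) (by rw [← Nat.card_eq_fintype_card, hk]; exact dvd_pow_self q hk0) hσ
      (Subtype.ext (cj_eq_of_commute hzC))
    exact ⟨B, hB, hBK, fun e => hne (Subtype.ext e), congrArg Subtype.val hfix⟩
  have hzB : z ∈ Subgroup.centralizer (B : Set G) := h.centralizer_of_fix hC hB hzC hBfix
  have hBM : B ≤ M := h.le_max_of_centralizer hs hM hz hz1 (span_member hB)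
    (le_centralizer_singleton_iff.2 hzB)
  by_cases hKab : Ab q K
  swap
  · obtain ⟨M', hM', hKM'⟩ := h.exists_max hKspan hKne hKab
    have hM'n : ∀ g : G, g * t = t * g → cj g M' = M' := fun g hg =>
      (h.eq_of_max_le hs hM' (h.isMax_cj hM' g) hKM'
        ((h.cj_fixK hg).ge.trans (cj_mono hKM')) hKab).symm
    have hMM' : M = M' := h.eq_of_normalizer hs hM hM' hC hCM (hCK.trans hKM') hB hBC hBM
      (hBK.trans hKM') hz hz1 (cj_eq_iff.1 (hM'n z hzt))
    intro g hg
    rw [← cj_eq_iff, hMM', hM'n g (Subgroup.mem_centralizer_singleton_iff.1 hg)]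
  obtain ⟨hallab, hmax⟩ := hcase.resolve_left (not_not.2 hKab)
  -- `K ≤ M`
  set I := span D (M ⊓ K) with hI
  have hIM : I ≤ M := (span_le D _).trans inf_le_left
  have hIne : I ≠ ⊤ := fun e => hM.2.1 (top_le_iff.1 (e ▸ hIM))
  have hCI' : C ≤ I := le_span hC (le_inf hCM hCK)
  have hIK : I ≤ K := (span_le D _).trans inf_le_right
  have hI1 : qc q I ≠ ⊥ := h.qc_ne_bot (span_span _) hIne hC hCI' hB (le_span hB (le_inf hBM hBK)) hBC
  have hIab : Ab q I :=
    eq_bot_iff.2 ((Subgroup.commutator_mono (h.qc_mono hKspan hKne hIK)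
      (h.qc_mono hKspan hKne hIK)).trans hKab.le)
  have hKM : K ≤ M := by
    conv_lhs => rw [← hKspan]
    exact sSup_le fun X hX => h.le_of_normalizer hs hM (span_span _) hC hCI' hIM hIab hI1 hX.1
      (hX.2.trans (h.le_normalizer_of_ab hKspan hKne hC hCI' hIK hKab))
  set R := qc q M
  set Rt := qc q K with hRt
  have hRtR : Rt ≤ R := h.qc_mono hM.1 hM.2.1 hKM
  have hRtn : ¬ R ≤ Rt ⊔ ⁅R, R⁆ := fun hle => hM.2.2.1 (by
    have h1 : R ≤ Rt := le_of_le_sup_commutator (isPGroup_qc q M) hRtR hle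
    exact eq_bot_iff.2 ((Subgroup.commutator_mono h1 h1).trans hKab.le))
  have hfixR : ∀ e : G, K ≤ Subgroup.centralizer ({e} : Set G) → fixK D e ≤ K →
      R ⊓ Subgroup.centralizer ({e} : Set G) ≤ Rt ⊔ ⁅R, R⁆ := by
    rintro e hKe heK f ⟨hf, hfe⟩
    have hfC : cj f C ≤ K := by
      refine (le_span (h.conj C hC f) ?_).trans heK
      refine cj_le_centralizer (hCK.trans hKe) fun s hse => ?_
      rw [Set.mem_singleton_iff] at hse ⊢
      subst hse
      rw [mul_assoc, ← Subgroup.mem_centralizer_singleton_iff.1 hfe, inv_mul_cancel_left]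
    obtain ⟨j, hj, hjf⟩ := h.subset_of_le_member hKspan hKne hC hCK (h.conj C hC f) hfC
    have hfix : cj (j⁻¹ * f) C = C := by rw [cj_mul, hjf, cj_inv_cj]
    have hmem := R.mul_mem (inv_mem (hRtR hj)) hf
    have h1 : j⁻¹ * f ∈ ⁅R, R⁆ := h.fixed_le_derived hM.1 hM.2.1 hC hCM
      ⟨hmem, h.normalizer_inter_qgroup hC (isPGroup_qc q M) (hCM.trans (le_normalizer_qc q M)) hmem hfix⟩
    rw [show f = j * (j⁻¹ * f) by group]
    exact Subgroup.mul_mem_sup hj h1
  have htR : t ∈ Subgroup.normalizer (R : Set G) := normalizer_le_normalizer_qc q M (cj_eq_iff.1 hMt)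
  have hKt : K ≤ Subgroup.centralizer ({t} : Set G) := span_le D _
  have hMn : ∀ g : G, g * t = t * g → C ≤ cj g M ∧ B ≤ cj g M := fun g hg =>
    ⟨(hCK.trans (h.cj_fixK hg).ge).trans (cj_mono hKM),
      (hBK.trans (h.cj_fixK hg).ge).trans (cj_mono hKM)⟩
  -- (A): `t` is the only involution of `C(t) ∩ C(K)`
  have hA : ∀ s : G, orderOf s = 2 → s * t = t * s → K ≤ Subgroup.centralizer ({s} : Set G) →
      s = t := by
    intro s hs2 hst hKs
    by_contra hne
    have hCIs : CI D s := ⟨hs2, C, hC, hCK.trans hKs⟩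
    have hKeq : ∀ e, CI D e → K ≤ Subgroup.centralizer ({e} : Set G) → fixK D e = K := fun e he hKe =>
      (Subgroup.eq_of_le_of_card_ge (hKspan.ge.trans (span_mono hKe)) (hmax e he)).symm
    have hKs' := hKeq s hCIs hKs
    have hLs : L ≤ cj s M := by
      conv_lhs => rw [← hL]
      refine sSup_le fun X hX => ?_
      obtain ⟨hXD, hXL⟩ := hX
      by_cases hXK : X ≤ K
      · rw [← cj_fix_of_le_centralizer (hXK.trans hKs)]
        exact cj_mono (hXL.trans hLM)
      · have hX' := h.conj X hXD s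
        obtain ⟨Y, hY, hYL, hYfix⟩ := h.exists_fixed_in hs2 (span_line hXD hX')
          (h.line_ne_top hXD hX') hXD le_sup_left (by rw [cj_sup, cj_cj_involution hs2, sup_comm])
        have hYK : Y ≤ K := hKs' ▸ h.le_fixK hCIs hY hYfix
        have hXX' : X ≠ cj s X := fun e => hXK (hKs' ▸ h.le_fixK hCIs hXD e.symm)
        have hXY : Y ≠ X := fun e => hXK (e ▸ hYK)
        have hle : cj s X ≤ M := le_sup_right.trans
          ((h.gen X hXD _ hX' hXX' Y hY X hXD hYL le_sup_left hXY).ge.trans
            (sup_le (hYK.trans hKM) (hXL.trans hLM)))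
        rw [← cj_cj_involution hs2 X]
        exact cj_mono hle
    have hsM : cj s M = M := (h.eq_of_max_le hs hM (h.isMax_cj hM s) hLM hLs hLab).symm
    have hsR := normalizer_le_normalizer_qc q M (cj_eq_iff.1 hsM)
    have hts2 : orderOf (t * s) = 2 := by
      refine orderOf_eq_prime ?_ fun e => hne ?_
      · rw [pow_two, show t * s * (t * s) = t * (s * t) * s by group, hst,
          show t * (t * s) * s = t * t * (s * s) by group, Involutions.mul_self_eq_one hCI.1,
          Involutions.mul_self_eq_one hs2, one_mul]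
      · rw [mul_eq_one_iff_eq_inv, Involutions.inv_eq_self hs2] at e
        exact e.symm
    have hKts : K ≤ Subgroup.centralizer ({t * s} : Set G) := fun x hx =>
      Subgroup.mem_centralizer_singleton_iff.2
        ((show Commute x t from Subgroup.mem_centralizer_singleton_iff.1 (hKt hx)).mul_right
          (show Commute x s from Subgroup.mem_centralizer_singleton_iff.1 (hKs hx))).eq
    have hclos : ∀ e ∈ Subgroup.closure ({t, s} : Set G), e = 1 ∨ e = t ∨ e = s ∨ e = t * s := by
      have htt := Involutions.mul_self_eq_one hCI.1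
      have hss := Involutions.mul_self_eq_one hs2
      have hti := Involutions.inv_eq_self hCI.1
      have hsi := Involutions.inv_eq_self hs2
      have e1 : ∀ x : G, t * (t * x) = x := fun x => by rw [← mul_assoc, htt, one_mul]
      have e3 : ∀ x : G, s * (t * x) = t * (s * x) := fun x => by rw [← mul_assoc, hst, mul_assoc]
      intro e he
      induction he using Subgroup.closure_induction with
      | mem x hx => rcases hx with rfl | rfl <;> simp
      | one => simp
      | mul x y _ _ hx hy =>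
        rcases hx with rfl | rfl | rfl | rfl <;> rcases hy with rfl | rfl | rfl | rfl <;>
          simp [mul_assoc, htt, hss, hst, e1, e3]
      | inv x _ hx => rcases hx with rfl | rfl | rfl | rfl <;> simp [hti, hsi, hst]
    obtain ⟨k, hk⟩ := (isPGroup_qc q M).exists_card_eq
    haveI := (isPGroup_qc q M).isNilpotent
    refine hRtn (CoprimeAction.le_of_centralizers_of_isSolvable Nat.prime_two (x := t) (y := s)
      (by rw [← hCI.1]; exact pow_orderOf_eq_one t) (by rw [← hs2]; exact pow_orderOf_eq_one s)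
      hst.symm (fun i => ?_) (fun e => ?_) htR hsR
      (hk ▸ ((Nat.coprime_primes h.hq Nat.prime_two).2 h.hq2).pow_left k) inferInstance
      fun e he he1 => ?_)
    · have hs2' : s ^ 2 = 1 := by rw [← hs2]; exact pow_orderOf_eq_one s
      rw [← Nat.mod_add_div i 2, pow_add, pow_mul, hs2', one_pow, mul_one]
      rcases Nat.mod_two_eq_zero_or_one i with e | e <;> rw [e]
      · rw [pow_zero, mul_one]
        intro e'
        have := hCI.1
        rw [e', orderOf_one] at this
        norm_num at this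
      · rw [pow_one]
        intro e'
        rw [e', orderOf_one] at hts2
        norm_num at hts2
    · rw [e, orderOf_one] at hs2
      norm_num at hs2
    · rcases hclos e he with rfl | rfl | rfl | rfl
      · exact absurd rfl he1
      · exact hfixR _ hKt le_rfl
      · exact hfixR _ hKs hKs'.le
      · exact hfixR _ hKts (hKeq _ ⟨hts2, C, hC, hCK.trans hKts⟩ hKts).le
  -- (B)
  set Kc := Subgroup.centralizer (K : Set G) with hKc
  have hKcn : Subgroup.centralizer ({t} : Set G) ≤ Subgroup.normalizer (Kc : Set G) := by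
    intro g hg
    have hgK : g ∈ Subgroup.normalizer (K : Set G) :=
      cj_eq_iff.1 (h.cj_fixK (Subgroup.mem_centralizer_singleton_iff.1 hg))
    refine CoprimeAction.mem_normalizer_of_conj_mem fun x hx =>
      Subgroup.mem_centralizer_iff.2 fun k hk => ?_
    have := Subgroup.mem_centralizer_iff.1 hx _ (CoprimeAction.conj_mem' hgK hk)
    calc k * (g * x * g⁻¹) = g * (g⁻¹ * k * g * x) * g⁻¹ := by group
      _ = g * (x * (g⁻¹ * k * g)) * g⁻¹ := by rw [this]
      _ = g * x * g⁻¹ * k := by group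
  have htKc : t ∈ Kc := le_centralizer_singleton_iff.1 hKt
  have hodd : Involutions.OddComm (⟨t, htKc⟩ : Kc) := by
    refine (oddComm_or_exists (by rw [Subgroup.orderOf_mk]; exact hCI.1)).resolve_right ?_
    rintro ⟨g, hgne, hgcomm⟩
    refine hgne (Subtype.ext ?_)
    refine hA _ ?_ (congrArg Subtype.val hgcomm).symm ?_
    · show orderOf ((g : G) * t * (g : G)⁻¹) = 2
      rw [Involutions.orderOf_conj]; exact hCI.1
    · exact le_centralizer_singleton_iff.2 (Subtype.prop _)
  set O := (oddCore Kc).map Kc.subtype with hOdef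
  have hOK : O ≤ Kc := Subgroup.map_subtype_le _
  have hKcO : Subgroup.normalizer (Kc : Set G) ≤ Subgroup.normalizer (O : Set G) :=
    normalizer_le_normalizer_map Kc (oddCore Kc)
  set Z := ⁅R, R⁆ with hZ
  have hZKc : Z ≤ Kc := (h.derived_le hs hM.1 hM.2.1).trans (CoprimeAction.centralizer_mono hKM)
  have htZ : t ∈ Subgroup.normalizer (Z : Set G) :=
    CoprimeAction.normalizer_le_normalizer_commutator R htR
  by_cases hZt : Z ≤ Subgroup.centralizer ({t} : Set G)
  · -- `R_t` is central in `R`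
    have hcentral : R ≤ Subgroup.centralizer (Rt : Set G) := by
      intro r hr
      refine Subgroup.mem_centralizer_iff.2 fun j hj => ?_
      have hjt : j * t = t * j := Subgroup.mem_centralizer_singleton_iff.1 (hKt (qc_le q K hj))
      have hcj : ∀ x ∈ R, ∀ i ∈ Rt, t * ⁅x, i⁆ * t⁻¹ = ⁅x, i⁆ := fun x hx i hi => by
        rw [← Subgroup.mem_centralizer_singleton_iff.1
          (hZt (Subgroup.commutator_mem_commutator hx (hRtR hi))), mul_inv_cancel_right]
      set W := R ⊓ Subgroup.centralizer (Rt : Set G) with hW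
      have hZW : Z ≤ W := le_inf (Subgroup.commutator_le_self R)
        ((h.derived_le hs hM.1 hM.2.1).trans (CoprimeAction.centralizer_mono ((qc_le q K).trans hKM)))
      have hRW : R ≤ Subgroup.normalizer (W : Set G) := fun x hx =>
        CoprimeAction.mem_normalizer_of_conj_mem fun y hy => by
          rw [show x * y * x⁻¹ = ⁅x, y⁆ * y by rw [commutatorElement_def]; group]
          exact W.mul_mem (hZW (Subgroup.commutator_mem_commutator hx hy.1)) hy
      have htW : t ∈ Subgroup.normalizer (W : Set G) :=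
        CoprimeAction.mem_normalizer_of_conj_mem fun y hy =>
          ⟨CoprimeAction.conj_mem htR hy.1, Subgroup.mem_centralizer_iff.2 fun i hi => by
            have hti : i * t = t * i := Subgroup.mem_centralizer_singleton_iff.1 (hKt (qc_le q K hi))
            have hyi : i * y = y * i := Subgroup.mem_centralizer_iff.1 hy.2 i hi
            exact ((show Commute i t from hti).mul_right (show Commute i y from hyi)).mul_right
              (show Commute i t⁻¹ from (show Commute i t from hti).inv_right) |>.eq⟩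
      have hfixW : ∀ b ∈ Subgroup.zpowers t, b * r * b⁻¹ * r⁻¹ ∈ W := by
        intro b hb
        obtain ⟨i, rfl⟩ := (isOfFinOrder_of_finite t).mem_powers_iff_mem_zpowers.2 hb
        show t ^ i * r * (t ^ i)⁻¹ * r⁻¹ ∈ W
        have ht2 : t ^ 2 = 1 := by rw [← hCI.1]; exact pow_orderOf_eq_one t
        rw [← Nat.mod_add_div i 2, pow_add, pow_mul, ht2, one_pow, mul_one]
        rcases Nat.mod_two_eq_zero_or_one i with e | e <;> rw [e]
        · simp
        rw [pow_one]
        refine ⟨R.mul_mem (CoprimeAction.conj_mem htR hr) (inv_mem hr),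
          Subgroup.mem_centralizer_iff.2 fun i hi => ?_⟩
        have hti : t * i * t⁻¹ = i := by
          rw [← Subgroup.mem_centralizer_singleton_iff.1 (hKt (qc_le q K hi)), mul_inv_cancel_right]
        have h1 : ⁅t * r * t⁻¹, i⁆ = ⁅r, i⁆ := by
          calc ⁅t * r * t⁻¹, i⁆ = ⁅t * r * t⁻¹, t * i * t⁻¹⁆ := by rw [hti]
            _ = t * ⁅r, i⁆ * t⁻¹ := by simp only [commutatorElement_def]; group
            _ = ⁅r, i⁆ := hcj r hr i hi
        set x := t * r * t⁻¹ * r⁻¹ with hx
        have hxR : x ∈ R := R.mul_mem (CoprimeAction.conj_mem htR hr) (inv_mem hr)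
        have hυ : ⁅r, i⁆ * x = x * ⁅r, i⁆ :=
          (Subgroup.mem_centralizer_iff.1 (h.derived_le hs hM.1 hM.2.1
            (Subgroup.commutator_mem_commutator hr (hRtR hi))) x (qc_le q M hxR)).symm
        have h2 : ⁅x, i⁆ = 1 := by
          have e : ⁅t * r * t⁻¹, i⁆ = x * ⁅r, i⁆ * x⁻¹ * ⁅x, i⁆ := by
            rw [hx, commutatorElement_def, commutatorElement_def, commutatorElement_def]; group
          rw [h1, ← hυ, mul_inv_cancel_right] at e
          exact mul_eq_left.1 e.symm
        exact (commutatorElement_eq_one_iff_mul_comm.1 h2).symm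
      obtain ⟨k, hk⟩ := (isPGroup_qc q M).exists_card_eq
      obtain ⟨c, hc, hcW⟩ := CoprimeAction.exists_centralizer_mem_coset_of_commutator
        (A := Subgroup.zpowers t) (K := R) (N := W)
        (by rw [Nat.card_zpowers, hCI.1, hk]
            exact ((Nat.coprime_primes Nat.prime_two h.hq).2 (Ne.symm h.hq2)).pow_right k)
        (Or.inl (CoprimeAction.isSolvable_zpowers t)) inf_le_left hRW
        (Subgroup.zpowers_le.2 htW) hr hfixW
      have hcN : c ∈ Rt ⊔ ⁅R, R⁆ := hfixR t hKt le_rfl ⟨hc.1, Subgroup.mem_centralizer_singleton_iff.2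
        (Subgroup.mem_centralizer_iff.1 hc.2 t (Subgroup.mem_zpowers t)).symm⟩
      have hRtW : Rt ≤ W := le_inf hRtR (Subgroup.commutator_eq_bot_iff_le_centralizer.1 hKab)
      have hcW' : c ∈ W := (sup_le hRtW hZW) hcN
      have hrW : r ∈ W := by
        rw [show r = c * (r⁻¹ * c)⁻¹ by group]
        exact W.mul_mem hcW' (inv_mem hcW)
      exact Subgroup.mem_centralizer_iff.1 hrW.2 j hj
    have hMP : M ≤ Subgroup.normalizer (Rt : Set G) := by
      rw [← (h.struct' hM.1 hM.2.1 hC hCM).1]
      exact sup_le (hcentral.trans (Subgroup.centralizer_le_normalizer _))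
        (hCK.trans (le_normalizer_qc q K))
    have hP := hM.2.2.2 _ (span_span _)
      (h.span_normalizer_ne_top (isPGroup_qc q K) (h.qc_fixK_ne_bot hCI))
      (hM.1.ge.trans (span_mono hMP))
    intro g hg
    rw [← cj_eq_iff, ← hP, h.cj_span]
    congr 1
    have hgK : g ∈ Subgroup.normalizer (Rt : Set G) := normalizer_le_normalizer_qc q K
      (cj_eq_iff.1 (h.cj_fixK (Subgroup.mem_centralizer_singleton_iff.1 hg)))
    exact cj_eq_iff.2 (Subgroup.le_normalizer hgK)
  -- `t` moves an element of `Z`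
  obtain ⟨ζ, hζ, hζt⟩ := SetLike.not_le_iff_exists.1 hZt
  set d := t * ζ * t⁻¹ * ζ⁻¹ with hd
  have hdZ : d ∈ Z := Z.mul_mem (CoprimeAction.conj_mem htZ hζ) (inv_mem hζ)
  have hd1 : d ≠ 1 := fun e => hζt (Subgroup.mem_centralizer_singleton_iff.2 (by
    rw [hd, mul_inv_eq_one, mul_inv_eq_iff_eq_mul] at e; exact e.symm))
  have hdO : d ∈ O := ⟨_, Involutions.zstar_theorem (by rw [Subgroup.orderOf_mk]; exact hCI.1) hodd
    ⟨ζ, hZKc hζ⟩, rfl⟩
  have hdinv : t * d * t⁻¹ = d⁻¹ := by
    rw [hd, Involutions.inv_eq_self hCI.1]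
    rw [show t * (t * ζ * t * ζ⁻¹) * t = t * t * ζ * t * ζ⁻¹ * t by group,
      Involutions.mul_self_eq_one hCI.1, mul_inv_rev, mul_inv_rev, mul_inv_rev, inv_inv,
      Involutions.inv_eq_self hCI.1]
    group
  have hZq : IsPGroup q Z := (isPGroup_qc q M).to_le (Subgroup.commutator_le_self _)
  obtain ⟨m, hm⟩ := exists_pow_orderOf_eq h.hq hZq hz hz1
  obtain ⟨n, hn⟩ := exists_pow_orderOf_eq h.hq hZq hdZ hd1
  have hOodd : Odd (Nat.card O) := by
    rw [hOdef, Subgroup.card_map_of_injective Kc.subtype_injective]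
    exact Cores.odd_card_oddCore
  set Oq := (pCore q O).map O.subtype with hOq
  set F := (pPrimeCore q O).map O.subtype with hF
  have hnO : ∀ x ∈ Kc, x ∈ Subgroup.normalizer (O : Set G) := fun x hx =>
    hKcO (Subgroup.le_normalizer hx)
  have hOqn : Subgroup.normalizer (O : Set G) ≤ Subgroup.normalizer (Oq : Set G) :=
    normalizer_le_normalizer_map O (pCore q O)
  have hFn : Subgroup.normalizer (O : Set G) ≤ Subgroup.normalizer (F : Set G) :=
    normalizer_le_normalizer_map O (pPrimeCore q O)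
  have hFM : F ≤ Subgroup.normalizer (M : Set G) := by
    have hFcard : (Nat.card F).Coprime q := by
      rw [hF, Subgroup.card_map_of_injective O.subtype_injective]
      exact Cores.card_pPrimeCore_coprime q
    have hFsol : Group.IsSolvable F := Cfsg.Agent.S0205.result
      (hOodd.of_dvd_nat (Subgroup.card_dvd_of_le (Subgroup.map_subtype_le _)))
    have hxy : z ^ m * d ^ n = d ^ n * z ^ m :=
      (Subgroup.mem_centralizer_iff.1 (h.derived_le hs hM.1 hM.2.1 hz) d
        (qc_le q M (Subgroup.commutator_le_self R hdZ))).symm |> fun e =>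
          (show Commute z d from e).pow_pow m n
    refine CoprimeAction.le_of_centralizers_of_isSolvable h.hq (x := z ^ m) (y := d ^ n)
      (by rw [← hm]; exact pow_orderOf_eq_one _) (by rw [← hn]; exact pow_orderOf_eq_one _) hxy
      (fun i e => ?_) (fun e => ?_) (hFn (hnO _ (pow_mem (hZKc hz) m)))
      (hFn (hnO _ (pow_mem (hZKc hdZ) n))) hFcard hFsol fun w hw hw1 x hx => ?_
    · -- `z ^ m` is fixed and `d ^ n` inverted by `t`
      have e1 : t * (z ^ m * (d ^ n) ^ i) * t⁻¹ = z ^ m * ((d ^ n) ^ i)⁻¹ := by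
        rw [← MulAut.conj_apply, map_mul, map_pow, map_pow, map_pow, MulAut.conj_apply,
          MulAut.conj_apply, hdinv, ← hzt, mul_inv_cancel_right, inv_pow, inv_pow]
      rw [e, mul_one, mul_inv_cancel] at e1
      have e2 : z ^ m = (d ^ n) ^ i := mul_inv_eq_one.1 e1.symm
      rw [← e2] at e
      have h2 : orderOf (z ^ m) ∣ 2 := orderOf_dvd_of_pow_eq_one (by rw [pow_two]; exact e)
      rw [hm] at h2
      exact h.hq2 ((Nat.prime_dvd_prime_iff_eq h.hq Nat.prime_two).1 h2)
    · rw [e, orderOf_one] at hn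
      exact h.hq.ne_one hn.symm
    · have hwZ : w ∈ Z := (Subgroup.closure_le Z).2
        (by rintro v (rfl | rfl) <;> [exact pow_mem hz m; exact pow_mem hdZ n]) hw
      exact h.mem_normalizer_max hs hM hwZ hw1 (Subgroup.mem_centralizer_singleton_iff.1 hx.2)
  have hOqM : Oq ≤ Subgroup.normalizer (M : Set G) := by
    have hdq : IsPGroup q (Subgroup.zpowers d) := hZq.to_le (Subgroup.zpowers_le.2 hdZ)
    have hT : IsPGroup q (Oq ⊔ Subgroup.zpowers d : Subgroup G) :=
      ((Cores.isPGroup_pCore q O).map _).to_sup_of_normal_left' hdq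
        (Subgroup.zpowers_le.2 (hOqn (hnO _ (hZKc hdZ))))
    have hTK : Oq ⊔ Subgroup.zpowers d ≤ Kc :=
      sup_le ((Subgroup.map_subtype_le _).trans hOK) (Subgroup.zpowers_le.2 (hZKc hdZ))
    exact le_sup_left.trans (h.qgroup_le_normalizer hs hM hC hCM hB hBC hBM hT
      (hTK.trans (CoprimeAction.centralizer_mono hCK))
      (hTK.trans (CoprimeAction.centralizer_mono hBK))
      (Subgroup.mem_sup_right (Subgroup.mem_zpowers d)) hdZ hd1)
  set P := Oq ⊔ F with hP
  have hPM : P ≤ Subgroup.normalizer (M : Set G) := sup_le hOqM hFM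
  have hPn : ∀ g : G, g ∈ Subgroup.normalizer (O : Set G) → cj g P = P := fun g hg => by
    rw [hP, cj_sup, cj_eq_iff.2 (hOqn hg), cj_eq_iff.2 (hFn hg)]
  haveI : Group.IsSolvable O := Cfsg.Agent.S0205.result hOodd
  have hfit : (fittingSubgroup O).map O.subtype ≤ P := by
    rw [Cores.fittingSubgroup_eq_iSup_pCore, Subgroup.map_iSup]
    refine iSup_le fun l => ?_
    by_cases hlq : (l : ℕ) = q
    · rw [hlq]; exact le_sup_left
    · haveI : Fact (l : ℕ).Prime := ⟨Nat.prime_of_mem_primeFactors l.2⟩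
      refine le_trans (Subgroup.map_mono (Cores.le_pPrimeCore ?_)) le_sup_right
      obtain ⟨j, hj⟩ := (Cores.isPGroup_pCore (l : ℕ) O).exists_card_eq
      rw [hj]
      exact ((Nat.coprime_primes Fact.out h.hq).2 hlq).pow_left j
  obtain ⟨c, hcP, hcZ, hc1⟩ : ∃ c ∈ P, c ∈ Z ∧ c ≠ 1 := by
    by_cases hdP : d ∈ P
    · exact ⟨d, hdP, hdZ, hd1⟩
    have hd2 : (⟨d, hdO⟩ : O) ∉ Subgroup.centralizer (fittingSubgroup O : Set O) := fun hc =>
      hdP (hfit ⟨_, Cores.centralizer_fittingSubgroup_le hc, rfl⟩)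
    rw [Subgroup.mem_centralizer_iff] at hd2
    push Not at hd2
    obtain ⟨x, hx, hxd⟩ := hd2
    have hxP : (x : G) ∈ P := hfit ⟨x, hx, rfl⟩
    refine ⟨⁅(x : G), d⁆, ?_, ?_, fun e =>
      hxd (Subtype.ext (commutatorElement_eq_one_iff_mul_comm.1 e))⟩
    · have hdn : d ∈ Subgroup.normalizer (P : Set G) := cj_eq_iff.1 (hPn d (hnO _ (hZKc hdZ)))
      rw [commutatorElement_def, mul_assoc (x : G) d, mul_assoc (x : G)]
      exact P.mul_mem hxP (CoprimeAction.conj_mem hdn (inv_mem hxP))
    · exact Z.mul_mem (CoprimeAction.conj_mem (CoprimeAction.normalizer_le_normalizer_commutator R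
        (normalizer_le_normalizer_qc q M (hPM hxP))) hdZ) (inv_mem hdZ)
  intro g hg
  have hgt := Subgroup.mem_centralizer_singleton_iff.1 hg
  have hgP : cj g P = P := hPn g (hKcO (hKcn hg))
  have hcn : c ∈ Subgroup.normalizer ((cj g M : Subgroup G) : Set G) := by
    have h1 : c ∈ cj g P := hgP.ge hcP
    rw [mem_cj] at h1
    rw [← cj_eq_iff, ← cj_mul, show c * g = g * (g⁻¹ * c * g) by group, cj_mul,
      cj_eq_iff.2 (hPM h1)]
  exact cj_eq_iff.1
    (h.eq_of_normalizer hs hM (h.isMax_cj hM g) hC hCM (hMn g hgt).1 hB hBC hBM (hMn g hgt).2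
      hcZ hc1 hcn).symm

/-- The elements centralized by a good involution in an invariant line lie in the odd core of
its centralizer. -/
theorem mem_oddCore_of_line (h : Ctx p q D) (hH : AbLines q D ∨ Spec q D) {t : G}
    (ht : Good p q D t) {A B : Subgroup G} (hA : A ∈ D) (hB : B ∈ D) (hAB : A ≠ B)
    (hLt : cj t (A ⊔ B) = A ⊔ B) (w : Subgroup.centralizer ({t} : Set G))
    (hw : (w : G) ∈ A ⊔ B) : w ∈ oddCore (Subgroup.centralizer ({t} : Set G)) := by
  haveI : Fact q.Prime := ⟨h.hq⟩
  have hCI := ht.1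
  set L := A ⊔ B with hL
  have hLspan : span D L = L := span_line hA hB
  have hLne : L ≠ ⊤ := h.line_ne_top hA hB
  obtain ⟨C, hC, hCL, hCfix⟩ := h.exists_fixed_in hCI.1 hLspan hLne hA le_sup_left hLt
  have hCt : C ≤ Subgroup.centralizer ({t} : Set G) := h.centralizer_of_fixed hCI hC hCfix
  set R := qc q L with hR
  have hCR : C ≤ Subgroup.normalizer (R : Set G) := hCL.trans (le_normalizer_qc q L)
  have hLeq := (h.struct' hLspan hLne hC hCL).1
  have hw' := hw
  rw [← hLeq, ← SetLike.mem_coe, Subgroup.coe_mul_of_right_le_normalizer_left R C hCR] at hw'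
  obtain ⟨r, hr, c, hc, hrc⟩ := hw'
  change r * c = (w : G) at hrc
  have hwt : (w : G) * t = t * w := Subgroup.mem_centralizer_singleton_iff.1 w.2
  have hct : c * t = t * c := Subgroup.mem_centralizer_singleton_iff.1 (hCt hc)
  have hrt : r * t = t * r := by
    have e : r = (w : G) * c⁻¹ := by rw [← hrc]; group
    rw [e]
    exact ((show Commute (w : G) t from hwt).mul_left (show Commute c t from hct).inv_left).eq
  have hKodd : Odd (Nat.card (fixK D t)) := h.odd_card_span (span_span _) (h.fixK_ne_top hCI)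
  have hKn : Subgroup.centralizer ({t} : Set G) ≤
      Subgroup.normalizer ((fixK D t : Subgroup G) : Set G) := fun g hg =>
    cj_eq_iff.1 (h.cj_fixK (Subgroup.mem_centralizer_singleton_iff.1 hg))
  by_cases hrC : cj r C = C
  swap
  · refine mem_oddCore_of_normalized hKodd hKn w ?_
    have hrC' := h.conj C hC r
    have hle : L ≤ fixK D t := by
      have hgen := h.gen A hA B hB hAB C hC _ hrC' hCL
        (cj_le (Subgroup.le_normalizer (qc_le q L hr)) hCL) (Ne.symm hrC)
      rw [hL, ← hgen]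
      refine sup_le (le_span hC hCt) (h.le_fixK hCI hrC' ?_)
      rw [← cj_mul, ← hrt, cj_mul, hCfix]
    exact hle hw
  have hr' : r ∈ ⁅R, R⁆ := h.fixed_le_derived hLspan hLne hC hCL
    ⟨hr, h.normalizer_inter_qgroup hC (isPGroup_qc q L) hCR hr hrC⟩
  set c' : Subgroup.centralizer ({t} : Set G) := ⟨c, hCt hc⟩
  set r' : Subgroup.centralizer ({t} : Set G) :=
    ⟨r, Subgroup.mem_centralizer_singleton_iff.2 hrt⟩
  have he : w = r' * c' := Subtype.ext hrc.symm
  rw [he]
  refine Subgroup.mul_mem _ ?_ (mem_oddCore_of_normalized hKodd hKn c' (le_span hC hCt hc))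
  rcases eq_or_ne r 1 with hr1 | hr1
  · have : r' = 1 := Subtype.ext hr1
    rw [this]; exact one_mem _
  rcases hH with hab | hs
  · exact absurd (Subgroup.mem_bot.1 ((hab A hA B hB hAB R (qc_le q L) (isPGroup_qc q L)).le hr')) hr1
  have hLab : ¬ Ab q L := fun e => hr1 (Subgroup.mem_bot.1 (e.le hr'))
  obtain ⟨M, hM, hLM⟩ := h.exists_max hLspan hLne hLab
  have hMt : cj t M = M :=
    (h.eq_of_max_le hs hM (h.isMax_cj hM t) hLM (hLt.ge.trans (cj_mono hLM)) hLab).symm
  have hRM := h.qc_mono hM.1 hM.2.1 hLM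
  have hrM : r ∈ ⁅qc q M, qc q M⁆ := Subgroup.commutator_mono hRM hRM hr'
  have hn := h.centralizer_le_normalizer_max hs ht hM hMt hC (hCL.trans hLM) hCt hLspan hLM hCL
    hLab hLt hrM hr1 hrt
  refine mem_oddCore_of_normalized (N := ⁅qc q M, qc q M⁆) ?_ ?_ r' hrM
  · exact (h.odd_card_span hM.1 hM.2.1).of_dvd_nat
      (Subgroup.card_dvd_of_le ((Subgroup.commutator_le_self _).trans (qc_le q M)))
  · exact hn.trans ((normalizer_le_normalizer_qc q M).trans
      (CoprimeAction.normalizer_le_normalizer_commutator _))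

end Ctx

end CfsgLib.OddLines
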