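/-
An automorphism of odd prime order of a `q`-group `R = [R,a]` such that `[x,a]` commutes with its
image is fixed-point-free.
-/
import Cfsg.Agent.Lib.OddLines.Basic

set_option autoImplicit false
set_option linter.style.haveILetI false

open scoped commutatorElement IsMulCommutative

namespace CfsgLib.OddLines

universe u

theorem fixed_eq_bot_of_commute_aux (p q : ℕ) (hp : p.Prime) (hp2 : p ≠ 2) (hq : q.Prime)
    (hpq : q ≠ p) : ∀ (n : ℕ) (G : Type u) [Group G] [Finite G], Nat.card G = n →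
    ∀ (R : Subgroup G) [R.Normal] (a : G), IsPGroup q R → a ^ p = 1 →
      R ⊔ Subgroup.zpowers a = ⊤ → ⁅R, Subgroup.zpowers a⁆ = R →
      (∀ u ∈ R, Commute ⁅a, u⁆ (a * ⁅a, u⁆ * a⁻¹)) →
      R ⊓ Subgroup.centralizer ({a} : Set G) = ⊥ := by
  haveI : Fact q.Prime := ⟨hq⟩
  intro n
  induction n using Nat.strong_induction_on with
  | _ n ih =>
  intro G _ _ hn R _ a hR hap htop hgen hcomm
  set C := R ⊓ Subgroup.centralizer ({a} : Set G) with hC
  have haR : a ∈ Subgroup.normalizer (R : Set G) := Subgroup.normalizer_eq_top (H := R) ▸ Subgroup.mem_top a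
  have hcop : ∀ V : Subgroup G, V ≤ R → (Nat.card (Subgroup.zpowers a)).Coprime (Nat.card V) := by
    intro V hV
    obtain ⟨k, hk⟩ := hR.exists_card_eq
    rw [Nat.card_zpowers]
    refine ((Nat.coprime_primes hp hq).2 hpq.symm).coprime_dvd_left (orderOf_dvd_of_pow_eq_one hap)
      |>.pow_right k |>.coprime_dvd_right (hk ▸ Subgroup.card_dvd_of_le hV)
  have hcq : ∀ c ∈ R, c ^ p = 1 → c = 1 := by
    intro c hc hcp
    obtain ⟨k, hk⟩ := hR ⟨c, hc⟩
    have hk' : c ^ q ^ k = 1 := congrArg Subtype.val hk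
    have hd : orderOf c ∣ 1 := by
      have := Nat.dvd_gcd (orderOf_dvd_of_pow_eq_one hk') (orderOf_dvd_of_pow_eq_one hcp)
      rwa [((Nat.coprime_primes hq hp).2 hpq).pow_left k] at this
    exact orderOf_eq_one_iff.1 (Nat.dvd_one.1 hd)
  rcases eq_or_ne R ⊥ with hR0 | hR0
  · exact eq_bot_iff.2 (inf_le_left.trans hR0.le)
  -- induction: `C` lies in every nontrivial normal subgroup contained in `R`
  have hmin : ∀ N : Subgroup G, N.Normal → N ≤ R → N ≠ ⊥ → C ≤ N := by
    intro N hN hNR hN1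
    haveI := hN
    have hlt : Nat.card (G ⧸ N) < n := by
      rw [← hn, N.card_eq_card_quotient_mul_card_subgroup]
      exact lt_mul_of_one_lt_right Nat.card_pos (Subgroup.one_lt_card_iff_ne_bot N |>.2 hN1)
    let π := QuotientGroup.mk' N
    haveI : (R.map π).Normal := Subgroup.Normal.map inferInstance π (QuotientGroup.mk'_surjective N)
    have h := ih _ hlt (G ⧸ N) rfl (R.map π) (π a) (hR.map π) (by rw [← map_pow, hap, map_one])
      (by rw [← MonoidHom.map_zpowers, ← Subgroup.map_sup, htop,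
        Subgroup.map_top_of_surjective _ (QuotientGroup.mk'_surjective N)])
      (by rw [← MonoidHom.map_zpowers, ← Subgroup.map_commutator, hgen])
      (by
        rintro _ ⟨u, hu, rfl⟩
        have := (hcomm u hu).map π
        simpa [map_commutatorElement] using this)
    intro c hc
    have : π c ∈ R.map π ⊓ Subgroup.centralizer ({π a} : Set (G ⧸ N)) :=
      ⟨Subgroup.mem_map_of_mem _ hc.1, Subgroup.mem_centralizer_singleton_iff.2 (by
        rw [← map_mul, ← map_mul, Subgroup.mem_centralizer_singleton_iff.1 hc.2])⟩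
    rw [h, Subgroup.mem_bot] at this
    exact (QuotientGroup.eq_one_iff c).1 this
  set Z := R ⊓ Subgroup.centralizer (R : Set G) with hZ
  haveI hZn : Z.Normal := by
    infer_instance
  haveI : IsMulCommutative Z := ⟨⟨fun x y => Subtype.ext
    ((Subgroup.mem_centralizer_iff.1 x.2.2 y y.2.1).symm)⟩⟩
  have hZ1 : Z ≠ ⊥ := by
    haveI : Nontrivial R := (Subgroup.nontrivial_iff_ne_bot R).2 hR0
    haveI := hR.center_nontrivial
    obtain ⟨⟨z, hz⟩, hz1⟩ := exists_ne (1 : Subgroup.center R)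
    intro h
    have hzZ : (z : G) ∈ Z := ⟨z.2, Subgroup.mem_centralizer_iff.2 fun r hr =>
      congrArg Subtype.val (Subgroup.mem_center_iff.1 hz ⟨r, hr⟩)⟩
    rw [h, Subgroup.mem_bot] at hzZ
    exact hz1 (Subtype.ext (Subtype.ext hzZ))
  have hCZ : C ≤ Z := hmin Z hZn inf_le_left hZ1
  have hAZ : Subgroup.zpowers a ≤ Subgroup.normalizer (Z : Set G) := by
    rw [Subgroup.normalizer_eq_top]; exact le_top
  have hinf := CoprimeAction.inf_commutator_eq_bot (A := Subgroup.zpowers a) (V := Z) hAZ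
    (hcop Z inf_le_left)
  have hcz : Subgroup.centralizer ((Subgroup.zpowers a : Subgroup G) : Set G) =
      Subgroup.centralizer ({a} : Set G) := by
    rw [Subgroup.zpowers_eq_closure, Subgroup.centralizer_closure]
  rw [hcz] at hinf
  by_cases hN1 : ⁅Z, Subgroup.zpowers a⁆ = ⊥
  swap
  · have hnorm : (⁅Z, Subgroup.zpowers a⁆).Normal := by
      refine Subgroup.normalizer_eq_top_iff.1 (top_le_iff.1 (htop.ge.trans (sup_le ?_
        (le_sup_right.trans (CoprimeAction.sup_le_normalizer_commutator _ _)))))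
      intro r hr
      refine CoprimeAction.mem_normalizer_of_conj_mem fun x hx => ?_
      have hxZ : x ∈ Z := CoprimeAction.commutator_le_left hAZ hx
      rwa [show r * x * r⁻¹ = x by
        rw [Subgroup.mem_centralizer_iff.1 hxZ.2 r hr, mul_inv_cancel_right]]
    have hle := hmin _ hnorm ((CoprimeAction.commutator_le_left hAZ).trans inf_le_left) hN1
    exact eq_bot_iff.2 (le_trans (le_inf (le_inf hCZ inf_le_right) hle) hinf.le)
  have hZC : Z ≤ C := le_inf inf_le_left (by
    rw [← hcz]; exact Subgroup.commutator_eq_bot_iff_le_centralizer.1 hN1)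
  by_cases hRab : R ≤ Subgroup.centralizer (R : Set G)
  · have hZR : Z = R := inf_eq_left.2 hRab
    refine eq_bot_iff.2 (le_trans (le_inf (le_inf hCZ inf_le_right) ?_) hinf.le)
    calc C ≤ R := inf_le_left
      _ = ⁅R, Subgroup.zpowers a⁆ := hgen.symm
      _ = _ := by rw [hZR]
  exfalso
  have hcC : ∀ c ∈ C, a * c * a⁻¹ = c := fun c hc => by
    rw [← Subgroup.mem_centralizer_singleton_iff.1 hc.2, mul_inv_cancel_right]
  have hcent : ∀ c ∈ C, ∀ r ∈ R, c * r = r * c := fun c hc r hr =>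
    (Subgroup.mem_centralizer_iff.1 (hCZ hc).2 r hr).symm
  have hmem : ∀ u ∈ R, ⁅a, u⁆ ∈ R := fun u hu =>
    R.mul_mem (CoprimeAction.conj_mem haR hu) (inv_mem hu)
  -- every element of `R` is a commutator with `a` modulo `C`
  have hfixmod : ∀ w ∈ R, a * w * a⁻¹ * w⁻¹ ∈ C → w ∈ C := by
    intro w hw hc
    set c := a * w * a⁻¹ * w⁻¹ with hc0
    have h1 : ∀ i : ℕ, a ^ i * w * (a ^ i)⁻¹ = c ^ i * w := by
      intro i
      induction i with
      | zero => simp
      | succ i ih =>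
        rw [pow_succ', pow_succ]
        calc a * a ^ i * w * (a * a ^ i)⁻¹ = a * (a ^ i * w * (a ^ i)⁻¹) * a⁻¹ := by group
          _ = a * (c ^ i * w) * a⁻¹ := by rw [ih]
          _ = a * c ^ i * a⁻¹ * (a * w * a⁻¹) := by group
          _ = c ^ i * (c * w) := by
            rw [hcC _ (pow_mem hc i), show c * w = a * w * a⁻¹ from inv_mul_cancel_right _ _]
          _ = _ := (mul_assoc _ _ _).symm
    have h2 := h1 p
    rw [hap] at h2
    have h3 : c = 1 := hcq c hc.1 (by simpa using h2.symm)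
    exact ⟨hw, Subgroup.mem_centralizer_singleton_iff.2 (by
      rw [hc0, mul_inv_eq_one, mul_inv_eq_iff_eq_mul] at h3; exact h3.symm)⟩
  have hCn : (C.subgroupOf R).Normal := ⟨fun c hc r => by
    rw [Subgroup.mem_subgroupOf] at hc ⊢
    simp only [Subgroup.coe_mul, Subgroup.coe_inv]
    rw [← hcent _ hc _ r.2, mul_inv_cancel_right]; exact hc⟩
  have hlift : ∀ x ∈ R, ∃ u ∈ R, ∃ c ∈ C, x = c * ⁅a, u⁆ := by
    let ψ : R ⧸ C.subgroupOf R → R ⧸ C.subgroupOf R :=
      Quotient.lift (fun u : R => ((⟨⁅a, (u : G)⁆, hmem u u.2⟩ : R) : R ⧸ C.subgroupOf R))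
        fun u v h => by
          have h' : u⁻¹ * v ∈ C.subgroupOf R := QuotientGroup.leftRel_apply.1 h
          rw [Subgroup.mem_subgroupOf] at h'
          simp only [Subgroup.coe_mul, Subgroup.coe_inv] at h'
          congr 1
          refine Subtype.ext ?_
          show ⁅a, (u : G)⁆ = ⁅a, (v : G)⁆
          obtain ⟨c, hc, hv⟩ : ∃ c ∈ C, (v : G) = u * c := ⟨_, h', by group⟩
          have e1 : ⁅a, (u : G) * c⁆ = a * u * a⁻¹ * (a * c * a⁻¹) * c⁻¹ * (u : G)⁻¹ := by
            rw [commutatorElement_def]; group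
          rw [hv, e1, hcC c hc, commutatorElement_def, mul_inv_cancel_right]
    have hinj : Function.Injective ψ := by
      rintro ⟨u⟩ ⟨v⟩ h
      refine QuotientGroup.eq.2 ?_
      rw [Subgroup.mem_subgroupOf]
      simp only [Subgroup.coe_mul, Subgroup.coe_inv]
      have h' : (⁅a, (u : G)⁆)⁻¹ * ⁅a, (v : G)⁆ ∈ C := by
        have := QuotientGroup.eq.1 h
        rwa [Subgroup.mem_subgroupOf] at this
      refine hfixmod _ (R.mul_mem (inv_mem u.2) v.2) ?_
      have e : a * ((u : G)⁻¹ * v) * a⁻¹ * ((u : G)⁻¹ * v)⁻¹ =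
          (u : G)⁻¹ * ((⁅a, (u : G)⁆)⁻¹ * ⁅a, (v : G)⁆) * u := by
        rw [commutatorElement_def, commutatorElement_def]; group
      rw [e, mul_assoc, hcent _ h' _ u.2, inv_mul_cancel_left]
      exact h'
    intro x hx
    obtain ⟨u0, hu0⟩ := (Finite.injective_iff_surjective.1 hinj) (QuotientGroup.mk ⟨x, hx⟩)
    obtain ⟨u, rfl⟩ := QuotientGroup.mk_surjective u0
    have h := QuotientGroup.eq.1 hu0
    rw [Subgroup.mem_subgroupOf] at h
    refine ⟨u, u.2, _, h, ?_⟩
    rw [hcent _ h _ (hmem _ u.2)]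
    exact (mul_inv_cancel_left _ _).symm
  have hself : ∀ x ∈ R, Commute x (a * x * a⁻¹) := by
    intro x hx
    obtain ⟨u, hu, c, hc, rfl⟩ := hlift x hx
    have e : a * (c * ⁅a, u⁆) * a⁻¹ = c * (a * ⁅a, u⁆ * a⁻¹) := by
      conv_rhs => rw [← hcC c hc]
      group
    rw [e]
    have h1 : ∀ r ∈ R, Commute c r := fun r hr => hcent c hc r hr
    exact Commute.mul_left ((Commute.refl c).mul_right (h1 _ (CoprimeAction.conj_mem haR (hmem u hu))))
      ((h1 _ (hmem u hu)).symm.mul_right (hcomm u hu))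
  -- the second centre
  obtain ⟨r, hr, hr2, hrC⟩ : ∃ r ∈ R, (∀ s ∈ R, ⁅r, s⁆ ∈ C) ∧ r ∉ C := by
    haveI : Nontrivial (R ⧸ C.subgroupOf R) := by
      refine QuotientGroup.nontrivial_iff.2 fun h => hRab ?_
      exact (Subgroup.subgroupOf_eq_top.1 h).trans (hCZ.trans inf_le_right)
    haveI := (hR.to_quotient (C.subgroupOf R)).center_nontrivial
    obtain ⟨⟨z, hz⟩, hz1⟩ := exists_ne (1 : Subgroup.center (R ⧸ C.subgroupOf R))
    obtain ⟨r, rfl⟩ := QuotientGroup.mk_surjective z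
    refine ⟨r, r.2, fun s hs => ?_, fun h => hz1 (Subtype.ext ?_)⟩
    · have h := (Subgroup.mem_center_iff.1 hz (QuotientGroup.mk (⟨s, hs⟩ : R))).symm
      rw [← commutatorElement_eq_one_iff_mul_comm] at h
      change ⁅QuotientGroup.mk' (C.subgroupOf R) r, QuotientGroup.mk' (C.subgroupOf R) ⟨s, hs⟩⁆ = 1 at h
      rw [← map_commutatorElement] at h
      have h2 := (QuotientGroup.eq_one_iff _).1 h
      rw [Subgroup.mem_subgroupOf] at h2
      simpa [commutatorElement_def] using h2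
    · exact (QuotientGroup.eq_one_iff r).2 (Subgroup.mem_subgroupOf.2 h)
  let σ : G → G := fun x => a * x * a⁻¹
  have hσR : ∀ x ∈ R, σ x ∈ R := fun x hx => CoprimeAction.conj_mem haR hx
  have hσc : ∀ x y, σ ⁅x, y⁆ = ⁅σ x, σ y⁆ := fun x y => by
    simp only [σ, commutatorElement_def]; group
  have hσ2 : ∀ x ∈ R, (∀ s ∈ R, ⁅x, s⁆ ∈ C) → ∀ s ∈ R, ⁅σ x, s⁆ ∈ C := by
    intro x _ h s hs
    obtain ⟨s', hs', rfl⟩ : ∃ s' ∈ R, σ s' = s :=
      ⟨a⁻¹ * s * a, CoprimeAction.conj_mem' haR hs, by simp only [σ]; group⟩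
    rw [← hσc]
    simpa [σ, hcC _ (h s' hs')] using h s' hs'
  have hpol : ∀ x ∈ R, (∀ s ∈ R, ⁅x, s⁆ ∈ C) → ∀ s ∈ R, ⁅s, σ x⁆ = ⁅σ s, x⁆ := by
    intro x hx h s hs
    set e := ⁅s, σ x⁆ with he
    set f := ⁅σ s, x⁆ with hf
    have hec : e ∈ C := by rw [he, ← commutatorElement_inv]; exact inv_mem (hσ2 x hx h s hs)
    have hfc : f ∈ C := by rw [hf, ← commutatorElement_inv]; exact inv_mem (h _ (hσR s hs))
    have e1 : s * σ x = e * (σ x * s) := by rw [he, commutatorElement_def]; group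
    have e2 : σ s * x = f * (x * σ s) := by rw [hf, commutatorElement_def]; group
    have c1 := (hself x hx).eq
    have c2 := (hself s hs).eq
    have c3 := (hself (x * s) (R.mul_mem hx hs)).eq
    rw [show a * (x * s) * a⁻¹ = σ x * σ s by simp only [σ]; group] at c3
    have k1 : x * s * (σ x * σ s) = e * (x * σ x * (s * σ s)) := by
      calc x * s * (σ x * σ s) = x * (s * σ x) * σ s := by group
        _ = x * e * σ x * s * σ s := by rw [e1]; group
        _ = _ := by rw [← hcent e hec x hx]; group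
    have k2 : σ x * σ s * (x * s) = f * (σ x * x * (σ s * s)) := by
      calc σ x * σ s * (x * s) = σ x * (σ s * x) * s := by group
        _ = σ x * f * x * σ s * s := by rw [e2]; group
        _ = _ := by rw [← hcent f hfc _ (hσR x hx)]; group
    rw [k1, k2] at c3
    change x * σ x = σ x * x at c1
    change s * σ s = σ s * s at c2
    rw [c1, c2] at c3
    exact mul_right_cancel c3
  -- hence `a ^ 2` fixes `r` modulo the centre
  have hrr : ∀ s ∈ R, ⁅s, σ (σ r)⁆ = ⁅s, r⁆ := by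
    intro s hs
    rw [hpol _ (hσR r hr) (hσ2 r hr hr2) s hs, ← hσc]
    have := inv_mem (hr2 s hs)
    rw [commutatorElement_inv] at this
    exact hcC _ this
  have hzz : r⁻¹ * σ (σ r) ∈ C := hZC ⟨R.mul_mem (inv_mem hr) (hσR _ (hσR _ hr)),
    Subgroup.mem_centralizer_iff.2 fun s hs => by
      have h1 := hrr s hs
      rw [commutatorElement_def, commutatorElement_def] at h1
      have h2 : σ (σ r) * s⁻¹ * (σ (σ r))⁻¹ = r * s⁻¹ * r⁻¹ := by
        refine mul_left_cancel (a := s) ?_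
        simpa only [mul_assoc] using h1
      have h3 := congrArg (fun y => r⁻¹ * y⁻¹ * r) h2
      simp only [mul_inv_rev, inv_inv] at h3
      calc s * (r⁻¹ * σ (σ r)) = r⁻¹ * (σ (σ r) * s * (σ (σ r))⁻¹) * r * (r⁻¹ * σ (σ r)) := by
            rw [show r⁻¹ * (σ (σ r) * s * (σ (σ r))⁻¹) * r = s by
              simpa [mul_assoc] using h3]
        _ = _ := by group⟩
  have hodd : Odd p := hp.odd_of_ne_two hp2
  -- `a` is a power of `a ^ 2`
  obtain ⟨m, hm⟩ := hodd
  have hc1 : σ (σ r) = r * (r⁻¹ * σ (σ r)) := by group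
  set c := r⁻¹ * σ (σ r) with hcdef
  have hit : ∀ i : ℕ, a ^ (2 * i) * r * (a ^ (2 * i))⁻¹ = r * c ^ i := by
    intro i
    induction i with
    | zero => simp
    | succ i ih =>
      rw [show 2 * (i + 1) = 2 + 2 * i by omega, pow_add, pow_succ' c]
      calc a ^ 2 * a ^ (2 * i) * r * (a ^ 2 * a ^ (2 * i))⁻¹
          = a ^ 2 * (a ^ (2 * i) * r * (a ^ (2 * i))⁻¹) * (a ^ 2)⁻¹ := by group
        _ = σ (σ (r * c ^ i)) := by rw [ih]; simp only [σ, pow_two]; group
        _ = σ (σ r) * σ (σ (c ^ i)) := by simp only [σ]; group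
        _ = r * c * c ^ i := by
          conv_lhs => rw [hc1]
          simp only [σ, hcC _ (pow_mem hzz i)]
        _ = _ := by rw [mul_assoc]
  have hstep := hit (m + 1)
  rw [show 2 * (m + 1) = 1 + p by omega, pow_add, hap, mul_one, pow_one] at hstep
  refine hrC (hfixmod r hr ?_)
  rw [hstep, ← hcent _ (pow_mem hzz _) r hr, mul_inv_cancel_right]
  exact pow_mem hzz _

theorem fixed_eq_bot_of_commute {G : Type u} [Group G] [Finite G] {p q : ℕ} (hp : p.Prime)
    (hp2 : p ≠ 2) (hq : q.Prime) (hpq : q ≠ p) (R : Subgroup G) [R.Normal] (a : G)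
    (hR : IsPGroup q R) (hap : a ^ p = 1) (htop : R ⊔ Subgroup.zpowers a = ⊤)
    (hgen : ⁅R, Subgroup.zpowers a⁆ = R)
    (hcomm : ∀ u ∈ R, Commute ⁅a, u⁆ (a * ⁅a, u⁆ * a⁻¹)) :
    R ⊓ Subgroup.centralizer ({a} : Set G) = ⊥ :=
  fixed_eq_bot_of_commute_aux p q hp hp2 hq hpq _ G rfl R a hR hap htop hgen hcomm

end CfsgLib.OddLines
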