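/-
There is no minimal counterexample: the principal `2`-block would have a vanishing column sum.
-/
import Cfsg.Agent.Lib.OddLines.Centralizer
import Cfsg.Agent.Lib.BlockLocal.PrincipalColumns
import Cfsg.Agent.Lib.BlockLocal.WeakOrth
import Cfsg.Agent.Lib.CharDegreesTheory.BlockDegrees
import Cfsg.Agent.Lib.CharTheory.Degree
import Cfsg.Agent.Lib.Correspondences.PrincipalBlock

set_option autoImplicit false
set_option linter.style.haveILetI false

open scoped commutatorElement
open Cfsg CfsgLib.CharTheory CfsgLib.Blocks Module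

namespace CfsgLib.OddLines

universe u

variable {G : Type u} [Group G] {p q : ℕ} {D : Set (Subgroup G)}

/-- Members of a line moved by an involution: `t x` is conjugate to `t w` with `w` in the line
fixed by `t`. -/
theorem exists_conj_eq [Finite G] {t x : G} (ht : orderOf t = 2) {L : Subgroup G}
    (hodd : Odd (Nat.card L)) (htL : cj t L = L) (hx : x ∈ L) :
    ∃ m w : G, w ∈ L ∧ w * t = t * w ∧ m * (t * x) * m⁻¹ = t * w := by
  have htn : t ∈ Subgroup.normalizer (L : Set G) := cj_eq_iff.1 htL
  have hti := Involutions.inv_eq_self ht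
  have htt := Involutions.mul_self_eq_one ht
  set y := t * x with hy
  have hy2 : y * y ∈ L := by
    rw [hy, show t * x * (t * x) = (t * x * t) * x by group]
    exact L.mul_mem (by simpa [hti] using CoprimeAction.conj_mem htn hx) hx
  have hoddord : ∀ g ∈ L, Odd (orderOf g) := fun g hg => hodd.of_dvd_nat (by
    rw [← L.orderOf_mk g hg]; exact orderOf_dvd_natCard _)
  obtain ⟨k, hk⟩ := hoddord _ hy2
  set T := y ^ (2 * k + 1) with hT
  have hTT : T * T = 1 := by
    rw [hT, ← pow_add, show 2 * k + 1 + (2 * k + 1) = 2 * (2 * k + 1) by ring, pow_mul, pow_two, ← hk,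
      pow_orderOf_eq_one]
  set l := x * (y * y) ^ k with hl
  have hlL : l ∈ L := L.mul_mem hx (pow_mem hy2 k)
  have hTl : T = t * l := by
    rw [hT, hl, pow_succ', pow_mul, pow_two, hy, mul_assoc]
  have hlinv : t * l * t = l⁻¹ := by
    refine eq_inv_of_mul_eq_one_left ?_
    rw [mul_assoc (t * l) t l, ← hTl, hTT]
  obtain ⟨j, hj⟩ := hoddord _ hlL
  set m := l ^ (j + 1) with hm
  have hmm : m * m = l := by
    rw [hm, ← pow_add, show j + 1 + (j + 1) = 2 * j + 1 + 1 by ring, pow_succ, ← hj,
      pow_orderOf_eq_one, one_mul]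
  have hmL : m ∈ L := pow_mem hlL _
  have htm : t * m * t = m⁻¹ := by
    rw [hm, ← inv_pow, ← hlinv]
    conv_rhs => rw [show t * l * t = t * l * t⁻¹ by rw [hti], conj_pow, hti]
  have hTm : m * T * m⁻¹ = t := by
    rw [hTl, ← hmm]
    calc m * (t * (m * m)) * m⁻¹ = m * (t * m) := by group
      _ = m * (m⁻¹ * t) := by
        congr 1
        rw [← htm, mul_assoc, htt, mul_one]
      _ = t := mul_inv_cancel_left m t
  have hcomm : Commute T y := (Commute.pow_self y _)
  set v := m * y * m⁻¹ with hv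
  have hvt : v * t = t * v := by
    have h1 : Commute (m * T * m⁻¹) (m * y * m⁻¹) := (Commute.conj_iff m).2 hcomm
    rw [hTm] at h1
    exact h1.eq.symm
  refine ⟨m, t * v, ?_, ?_, ?_⟩
  · rw [hv, hy, show t * (m * (t * x) * m⁻¹) = t * m * t * x * m⁻¹ by group, htm]
    exact L.mul_mem (L.mul_mem (inv_mem hmL) hx) (inv_mem hmL)
  · rw [mul_assoc, hvt]
  · rw [← mul_assoc t t, htt, one_mul]

namespace Ctx

variable [Finite G]

theorem contradiction_of_even (h : Ctx p q D) (hH : AbLines q D ∨ Spec q D)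
    (heven : Even (Nat.card G)) : False := by
  classical
  haveI := Fintype.ofFinite G
  haveI := Fintype.ofFinite (IrrCharacter G)
  haveI : Fact (Nat.Prime 2) := ⟨Nat.prime_two⟩
  obtain ⟨t, hgood⟩ := h.exists_good heven
  have hCI := hgood.1
  have ht := hCI.1
  set C := Subgroup.centralizer ({t} : Set G) with hC
  haveI := Fintype.ofFinite C
  haveI := Fintype.ofFinite (IrrCharacter C)
  obtain ⟨M, hM⟩ := CfsgLib.CharDegreesTheory.exists_isPModular Nat.prime_two
  haveI := isPrime_of_isPModular hM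
  have hz : ∃ k : ℕ, orderOf t = 2 ^ k := ⟨1, by rw [ht]; norm_num⟩
  have h2O : ¬ 2 ∣ Nat.card (oddCore C) := Cores.odd_card_oddCore.not_two_dvd_nat
  -- the principal block is constant on `t O(C(t))`
  have hsec : ∀ χ ∈ principalBlock M G, ∀ w : C, w ∈ oddCore C →
      (χ : G → ℂ) (t * w) = (χ : G → ℂ) t := by
    intro χ hχ w hw
    have hwodd : ¬ 2 ∣ orderOf w := fun hd => h2O (hd.trans (by
      rw [← (oddCore C).orderOf_mk w hw]; exact orderOf_dvd_natCard _))
    have h1odd : ¬ 2 ∣ orderOf (1 : C) := by rw [orderOf_one]; norm_num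
    have e1 := BlockLocal.apply_mul_eq_sectionPart hM hz hχ hwodd
    have e2 := BlockLocal.apply_mul_eq_sectionPart hM hz hχ h1odd
    rw [OneMemClass.coe_one, mul_one] at e2
    rw [e1, e2, BlockLocal.sectionPart, BlockLocal.sectionPart]
    refine Finset.sum_congr rfl fun ξ _ => ?_
    by_cases hξ : ξ ∈ principalBlock M C
    · rw [if_pos hξ, if_pos hξ,
        CfsgLib.Correspondences.apply_eq_of_mem_principalBlock hM hξ (oddCore C) h2O hw]
    · rw [if_neg hξ, if_neg hξ]
  have hfix : ∀ x : G, ∀ A ∈ D, x ∈ A → ∀ χ ∈ principalBlock M G,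
      (χ : G → ℂ) (t * x) = (χ : G → ℂ) t := by
    intro x A hA hx χ hχ
    by_cases hAt : cj t A = A
    · have hxt : x ∈ C := h.centralizer_of_fixed hCI hA hAt hx
      refine hsec χ hχ ⟨x, hxt⟩ (mem_oddCore_of_normalized
        (h.odd_card_span (span_span _) (h.fixK_ne_top hCI)) ?_ ⟨x, hxt⟩ (h.le_fixK hCI hA hAt hx))
      intro g hg
      exact cj_eq_iff.1 (h.cj_fixK (Subgroup.mem_centralizer_singleton_iff.1 hg))
    · have hB := h.conj A hA t
      have hLt : cj t (A ⊔ cj t A) = A ⊔ cj t A := by rw [cj_sup, cj_cj_involution ht, sup_comm]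
      obtain ⟨m, w, hwL, hwt, he⟩ := exists_conj_eq ht
        (h.odd_card_span (span_line hA hB) (h.line_ne_top hA hB)) hLt (Subgroup.mem_sup_left hx)
      have hwC : w ∈ C := Subgroup.mem_centralizer_singleton_iff.2 hwt
      rw [← hsec χ hχ ⟨w, hwC⟩ (h.mem_oddCore_of_line hH hgood hA hB (Ne.symm hAt) hLt ⟨w, hwC⟩ hwL)]
      show _ = (χ : G → ℂ) (t * w)
      rw [← he, IsIrrCharacter.isClassFunction χ.2]
  -- a nontrivial member of the block vanishes at `t`
  have hzero : ∀ χ ∈ principalBlock M G, χ ≠ trivIrr G → (χ : G → ℂ) t = 0 := by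
    intro χ hχ hne
    by_contra hχt
    obtain ⟨d, ρ, hρ, hρχ⟩ := χ.2
    haveI := hρ
    have hker : ∀ A ∈ D, A ≤ ρ.ker := by
      intro A hA a ha
      obtain ⟨c, -, hc, hcval⟩ := exists_classSum_eq_smul ρ a
      have hd : (finrank ℂ (Fin d → ℂ) : ℂ) ≠ 0 := by
        exact_mod_cast (finrank_pos_of_isIrreducible ρ).ne'
      have hS := congrArg (fun T => LinearMap.trace ℂ (Fin d → ℂ) (ρ t * T)) hc
      simp only [Finset.mul_sum, map_sum] at hS
      have h2 : ∀ x : G, IsConj a x →
          LinearMap.trace ℂ (Fin d → ℂ) (ρ t * ρ x) = (χ : G → ℂ) t := by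
        intro x hx
        obtain ⟨g, rfl⟩ := isConj_iff.1 hx
        rw [← map_mul, ← hfix _ _ (h.conj A hA g) (conj_mem_cj ha) χ hχ, ← hρχ]
        rfl
      rw [show ρ t * (c • (LinearMap.id : (Fin d → ℂ) →ₗ[ℂ] (Fin d → ℂ))) = c • ρ t by
          rw [mul_smul_comm]; rfl, map_smul, smul_eq_mul,
        Finset.sum_congr rfl (g := fun _ => (χ : G → ℂ) t)] at hS
      swap
      · intro x hx
        exact h2 x (by simpa using hx)
      rw [Finset.sum_const, nsmul_eq_mul] at hS
      have h1 : ((Subgroup.centralizer ({a} : Set G)).index : ℂ) * (χ : G → ℂ) t =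
          c * LinearMap.trace ℂ (Fin d → ℂ) (ρ t) := by
        rw [← hS]
        simp [← card_isConj a, Nat.card_eq_fintype_card, Fintype.card_subtype]
      have hχt' : LinearMap.trace ℂ (Fin d → ℂ) (ρ t) = (χ : G → ℂ) t := by rw [← hρχ]; rfl
      rw [hχt'] at h1
      have hcn : c = ((Subgroup.centralizer ({a} : Set G)).index : ℂ) :=
        (mul_right_cancel₀ hχt h1).symm
      rw [← hcn] at hcval
      have hc0 : c ≠ 0 := by
        rw [hcn]
        exact_mod_cast (Subgroup.index_ne_zero_of_finite (H := Subgroup.centralizer ({a} : Set G)))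
      refine MonoidHom.mem_ker.2 (CfsgLib.Correspondences.rep_eq_one_of_apply_eq ρ ?_)
      rw [ρ.char_one]
      exact (mul_left_cancel₀ hc0 hcval).symm
    have hall : ∀ g : G, ρ g = 1 := fun g =>
      MonoidHom.mem_ker.1 ((h.top ▸ sSup_le hker : (⊤ : Subgroup G) ≤ ρ.ker) (Subgroup.mem_top g))
    have hconst : ρ.character = fun _ => (finrank ℂ (Fin d → ℂ) : ℂ) := funext fun g => by
      rw [Representation.character, hall g, LinearMap.trace_one]
    refine hne (Subtype.ext ?_)
    by_contra hne'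
    have h0 := classInner_eq_zero_of_ne (isIrrCharacter_character ρ) (trivIrr G).2
      (fun e => hne' (hρχ ▸ e))
    rw [hconst] at h0
    simp [classInner, trivIrr] at h0
    have := finrank_pos_of_isIrreducible ρ
    simp at this
    omega
  have htriv : trivIrr G ∈ principalBlock M G := BlockLocal.trivIrr_mem_principalBlock G
  have hsum := BlockLocal.weakOrth_mul hM (principalBlock M G)
    (BlockLocal.principalBlock_isPBlock M G) 1 t (by rw [orderOf_one]; norm_num) (by rw [ht])
  rw [finsum_mem_eq_finite_toFinset_sum _ (Set.toFinite (principalBlock M G)),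
    Finset.sum_eq_single_of_mem (trivIrr G) ((Set.Finite.mem_toFinset _).2 htriv)
      (fun χ hχ hne => by rw [hzero χ ((Set.Finite.mem_toFinset _).1 hχ) hne, mul_zero])] at hsum
  simp [trivIrr_apply] at hsum

theorem contradiction (h : Ctx p q D) (hH : AbLines q D ∨ Spec q D) : False := by
  rcases Nat.even_or_odd (Nat.card G) with he | ho
  · exact h.contradiction_of_even hH he
  · exact h.notsol (Cfsg.Agent.S0205.result ho)

end Ctx

end CfsgLib.OddLines
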