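/-
Groups generated by members are solvable.
-/
import Cfsg.Agent.Lib.OddLines.Identity

set_option autoImplicit false
set_option linter.style.haveILetI false

open scoped commutatorElement
open Cfsg

namespace CfsgLib.OddLines

universe u

variable {G : Type*} [Group G] [Finite G] {p q : ℕ} {D : Set (Subgroup G)}

omit [Finite G] in
theorem AbLines.comap (h : AbLines q D) (K : Subgroup G) :
    AbLines q {X : Subgroup K | X.map K.subtype ∈ D} := by
  intro A hA B hB hne Q hQ hQq
  have hinj := Subgroup.map_injective K.subtype_injective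
  refine hinj ?_
  rw [Subgroup.map_commutator, Subgroup.map_bot]
  exact h _ hA _ hB (fun e => hne (hinj e)) _
    (by rw [← Subgroup.map_sup]; exact Subgroup.map_mono hQ) (hQq.map K.subtype)

omit [Finite G] in
theorem Spec.comap (h : Spec q D) (K : Subgroup G) :
    Spec q {X : Subgroup K | X.map K.subtype ∈ D} := by
  intro A hA R hR hAR hgen
  have h1 := h _ hA (R.map K.subtype) (hR.map _)
    ((Subgroup.map_mono hAR).trans (Subgroup.le_normalizer_map _))
    (by rw [← Subgroup.map_commutator, hgen])
  rw [← Subgroup.map_commutator] at h1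
  intro x hx
  refine Subgroup.mem_centralizer_iff.2 fun a ha => Subtype.ext ?_
  exact Subgroup.mem_centralizer_iff.1 (h1 (Subgroup.mem_map_of_mem _ hx)) a
    (Subgroup.mem_map_of_mem _ ha)

theorem AbLines.map {H : Type*} [Group H] [Finite H] (hS : Setting p q D) (h : AbLines q D)
    {f : G →* H} (hf : Function.Surjective f) (hker : ∀ A ∈ D, ¬ A ≤ f.ker) :
    AbLines q (Subgroup.map f '' D) := by
  rintro _ ⟨A, hA, rfl⟩ _ ⟨B, hB, rfl⟩ hne Q hQ hQq
  have hne' : A ≠ B := fun e => hne (by rw [e])
  obtain ⟨Q0, hQ0, hn, e⟩ := hS.line A hA B hB hne'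
  have hle : Q ≤ Q0.map f := (hS.map hf hker).qgroup_le ⟨A, hA, rfl⟩ (hQ0.map f)
    ((Subgroup.map_mono (le_sup_left.trans hn)).trans (Subgroup.le_normalizer_map f)) hQq
    (by rw [← Subgroup.map_sup, e, Subgroup.map_sup]; exact hQ)
  refine eq_bot_iff.2 ((Subgroup.commutator_mono hle hle).trans ?_)
  rw [← Subgroup.map_commutator, h A hA B hB hne' Q0 (le_sup_left.trans e.le) hQ0, Subgroup.map_bot]

theorem Spec.map {H : Type*} [Group H] [Finite H] (hS : Setting p q D) (h : Spec q D)
    {f : G →* H} (hf : Function.Surjective f) (hN : IsPGroup q f.ker ∨ f.ker ≤ Subgroup.center G) :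
    Spec q (Subgroup.map f '' D) := by
  haveI : Fact q.Prime := ⟨hS.hq⟩
  rintro _ ⟨A, hA, rfl⟩ R hR hAR hgen
  set W := R.comap f with hW
  have hAW : A ≤ Subgroup.normalizer (W : Set G) := fun a ha => by
    refine CoprimeAction.mem_normalizer_of_conj_mem fun x hx => ?_
    rw [hW, Subgroup.mem_comap] at hx ⊢
    rw [map_mul, map_mul, map_inv]
    exact CoprimeAction.conj_mem (hAR (Subgroup.mem_map_of_mem f ha)) hx
  set W0 := qc q W
  have hAW0 : A ≤ Subgroup.normalizer (W0 : Set G) := hAW.trans (normalizer_le_normalizer_qc q W)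
  have hmap : W0.map f = R := by
    have hWR : W.map f = R := Subgroup.map_comap_eq_self_of_surjective hf R
    refine le_antisymm ((Subgroup.map_mono (qc_le q W)).trans hWR.le) ?_
    rcases hN with hN | hN
    · have hWq : IsPGroup q W := hR.comap_of_ker_isPGroup f hN
      exact hWR.ge.trans (Subgroup.map_mono (le_qc le_rfl hWq Subgroup.le_normalizer))
    · let φ : W →* R := (f.comp W.subtype).codRestrict R fun x => x.2
      have hφ : Function.Surjective φ := fun r => by
        obtain ⟨x, hx⟩ := hf r
        exact ⟨⟨x, by rw [hW, Subgroup.mem_comap, hx]; exact r.2⟩, Subtype.ext hx⟩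
      obtain ⟨P⟩ := (Sylow.nonempty : Nonempty (Sylow q W))
      have h1 : (P : Subgroup W).map φ = ⊤ := by
        rw [← Subgroup.index_eq_one]
        obtain ⟨k, hk⟩ := hR.exists_card_eq
        have hd : ((P : Subgroup W).map φ).index ∣ q ^ k := hk ▸ Subgroup.index_dvd_card _
        obtain ⟨j, -, hj⟩ := (Nat.dvd_prime_pow hS.hq).1 hd
        cases j with
        | zero => rw [hj, pow_zero]
        | succ j =>
          exact absurd (((hj ▸ dvd_pow_self q j.succ_ne_zero :
            q ∣ ((P : Subgroup W).map φ).index)).trans (Subgroup.index_map_dvd _ hφ))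
            P.not_dvd_index
      have hcen : φ.ker ≤ Subgroup.center W := by
        intro x hx
        have hxk : (x : G) ∈ f.ker := by
          rw [MonoidHom.mem_ker] at hx ⊢
          exact congrArg Subtype.val hx
        exact Subgroup.mem_center_iff.2 fun y =>
          Subtype.ext (Subgroup.mem_center_iff.1 (hN hxk) y)
      haveI : (P : Subgroup W).Normal := by
        refine Subgroup.normalizer_eq_top_iff.1 (top_le_iff.1 ?_)
        calc (⊤ : Subgroup W) = ((P : Subgroup W).map φ).comap φ := by rw [h1, Subgroup.comap_top]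
          _ = (P : Subgroup W) ⊔ φ.ker := Subgroup.comap_map_eq _ _
          _ ≤ _ := sup_le Subgroup.le_normalizer
              (hcen.trans (Subgroup.center_le_normalizer _))
      intro r hr
      obtain ⟨x, hx, hxr⟩ := h1.ge (Subgroup.mem_top (⟨r, hr⟩ : R))
      exact ⟨x, ⟨x, Cores.le_pCore P.2 hx, rfl⟩, congrArg Subtype.val hxr⟩
  set S := ⁅W0, A⁆
  have hSle : S ≤ W0 := CoprimeAction.commutator_le_left hAW0
  have hSmap : S.map f = R := by rw [Subgroup.map_commutator, hmap, hgen]
  have h1 := h A hA S ((isPGroup_qc q W).to_le hSle)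
    (le_sup_right.trans (CoprimeAction.sup_le_normalizer_commutator A W0))
    (CoprimeAction.commutator_commutator_eq hAW0 (hS.coprime hA (isPGroup_qc q W))
      (Or.inl (hS.isSolvable_member hA)))
  rw [← hSmap, ← Subgroup.map_commutator]
  rintro _ ⟨x, hx, rfl⟩
  refine Subgroup.mem_centralizer_iff.2 ?_
  rintro _ ⟨a, ha, rfl⟩
  rw [← map_mul, ← map_mul, Subgroup.mem_centralizer_iff.1 (h1 hx) a ha]

namespace Setting

omit [Finite G] in
theorem isSolvable_of_unique (h : Setting p q D) (htop : sSup D = ⊤) {A : Subgroup G} (hA : A ∈ D)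
    (huniq : ∀ B ∈ D, B = A) : Group.IsSolvable G := by
  have hAtop : A = ⊤ := top_le_iff.1 (htop ▸ sSup_le fun B hB => (huniq B hB).le)
  haveI := h.isSolvable_member hA
  exact Group.isSolvable_of_surjective (f := A.subtype) fun x => ⟨⟨x, hAtop ▸ Subgroup.mem_top x⟩, rfl⟩

omit [Finite G] in
theorem isSolvable_of_quotient (N : Subgroup G) [N.Normal] [Group.IsSolvable N]
    [Group.IsSolvable (G ⧸ N)] : Group.IsSolvable G :=
  Group.isSolvable_of_ker_le_range N.subtype (QuotientGroup.mk' N)
    (by rw [QuotientGroup.ker_mk', N.range_subtype])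

/-- A nontrivial normal solvable subgroup of odd order yields a nontrivial `O_q` or centre. -/
theorem pCore_or_center_ne_bot (h : Setting p q D) (htop : sSup D = ⊤)
    (hns : ¬ Group.IsSolvable G) (hcen : Subgroup.center G = ⊥) (hO : oddCore G ≠ ⊥) :
    pCore q G ≠ ⊥ := by
  intro hq0
  haveI : Fact q.Prime := ⟨h.hq⟩
  set O := oddCore G with hOdef
  haveI hOs : Group.IsSolvable O := Cfsg.Agent.S0205.result Cores.odd_card_oddCore
  -- a `q`-subgroup normalized by `O` inside `O` is trivial
  have hnoq : ∀ V : Subgroup G, V ≤ O → O ≤ Subgroup.normalizer (V : Set G) → IsPGroup q V →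
      V = ⊥ := by
    intro V hVO hV hVq
    haveI : (V.subgroupOf O).Normal := (Subgroup.normal_subgroupOf_iff_le_normalizer hVO).2 hV
    have h1 := Cores.le_pCore (N := V.subgroupOf O)
      (hVq.of_equiv (Subgroup.subgroupOfEquivOfLe hVO).symm)
    haveI : ((pCore q O).map O.subtype).Normal := by
      refine Subgroup.normalizer_eq_top_iff.1 (top_le_iff.1 fun g _ => ?_)
      refine CoprimeAction.mem_normalizer_of_conj_mem ?_
      rintro _ ⟨x, hx, rfl⟩
      let φ : O ≃* O :=
        { toFun := fun y => ⟨g * y * g⁻¹, (inferInstance : O.Normal).conj_mem _ y.2 g⟩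
          invFun := fun y => ⟨g⁻¹ * y * g, by
            simpa using (inferInstance : O.Normal).conj_mem _ y.2 g⁻¹⟩
          left_inv := fun y => Subtype.ext (by simp [mul_assoc])
          right_inv := fun y => Subtype.ext (by simp [mul_assoc])
          map_mul' := fun y z => Subtype.ext (by simp [mul_assoc]) }
      have hφ : (pCore q O).map φ.toMonoidHom = pCore q O := Cores.map_pCore_equiv φ
      exact ⟨φ x, hφ.le ⟨x, hx, rfl⟩, rfl⟩
    have h2 : (pCore q O).map O.subtype ≤ pCore q G :=
      Cores.le_pCore ((Cores.isPGroup_pCore q O).map _)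
    rw [eq_bot_iff, ← hq0, ← Subgroup.map_subgroupOf_eq_of_le hVO]
    exact (Subgroup.map_mono h1).trans h2
  have hnomem : ∀ B ∈ D, ¬ B ≤ O := by
    intro B hB hBO
    set K := span D O with hK
    haveI : Group.IsSolvable K := CoprimeAction.isSolvable_of_le (span_le D O)
    have hBK : B ≤ K := le_span hB hBO
    have hOn : O ≤ Subgroup.normalizer (K : Set G) := fun g hg => by
      rw [← cj_eq_iff, hK]
      have key : ∀ g : G, cj g (span D O) ≤ span D O := fun g => by
        rw [cj, Subgroup.map_le_iff_le_comap]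
        refine sSup_le fun C hC => Subgroup.map_le_iff_le_comap.1 (le_span (h.conj C hC.1 g) ?_)
        exact cj_le (by rw [Subgroup.normalizer_eq_top]; trivial) hC.2
      exact le_antisymm (key g) (by
        have := cj_mono (g := g) (key g⁻¹)
        rwa [cj_cj_inv] at this)
    have hqc : qc q K = ⊥ := hnoq _ ((qc_le q K).trans (span_le D O))
      (hOn.trans (by
        intro g hg
        rw [← cj_eq_iff]
        have e : cj g K = K := cj_eq_iff.2 hg
        refine Subgroup.eq_of_le_of_card_ge ?_ (card_cj g _).ge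
        refine le_qc ((cj_mono (qc_le q K)).trans e.le) ((isPGroup_qc q K).map _) ?_
        conv_lhs => rw [← e]
        exact (Subgroup.map_mono (le_normalizer_qc q K)).trans (Subgroup.le_normalizer_map _)))
      (isPGroup_qc q K)
    have hKB : K = B := by
      rw [← (h.struct (K := K) (span_span O) inferInstance hB hBK).1, hqc, bot_sup_eq]
    refine hns (h.isSolvable_of_unique htop hB fun C hC => ?_)
    by_contra hne
    obtain ⟨Q, hQ, hn, e⟩ := h.line B hB C hC (Ne.symm hne)
    obtain ⟨r, hr, hCr⟩ := h.exists_conj hB hC hQ (le_sup_left.trans hn) (e ▸ le_sup_right)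
    refine hne (hCr.trans ?_)
    have hrB : cj r B ≤ K := le_span (h.conj B hB r)
      (cj_le (by rw [Subgroup.normalizer_eq_top]; trivial) hBO)
    rw [hKB] at hrB
    exact h.eq_of_le (h.conj B hB r) hB hrB
  have hall : ∀ A ∈ D, A ≤ Subgroup.centralizer (O : Set G) := by
    intro A hA
    set K := span D (O ⊔ A) with hK
    haveI : Group.IsSolvable K := by
      haveI := h.isSolvable_member hA
      haveI : Group.IsSolvable ↥(O ⊔ A) :=
        Balance.isSolvable_sup (by rw [Subgroup.normalizer_eq_top]; exact le_top)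
      exact CoprimeAction.isSolvable_of_le (span_le D _)
    have hAK : A ≤ K := le_span hA le_sup_right
    obtain ⟨hsup, -⟩ := h.struct (K := K) (span_span _) inferInstance hA hAK
    have hAR : A ≤ Subgroup.normalizer ((qc q K : Subgroup G) : Set G) :=
      hAK.trans (le_normalizer_qc q K)
    have hOK : O ≤ Subgroup.normalizer (K : Set G) := fun g hg => by
      rw [← cj_eq_iff]
      refine Subgroup.eq_of_le_of_card_ge ?_ (card_cj g K).ge
      rw [hK, cj, Subgroup.map_le_iff_le_comap]
      refine sSup_le fun C hC => Subgroup.map_le_iff_le_comap.1 (le_span (h.conj C hC.1 g) ?_)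
      exact cj_le (Subgroup.le_normalizer (Subgroup.mem_sup_left hg)) hC.2
    have hRO : qc q K ⊓ O = ⊥ := hnoq _ inf_le_right (fun g hg => by
      refine CoprimeAction.mem_normalizer_of_conj_mem fun x hx => ⟨?_, (inferInstance : O.Normal).conj_mem _ hx.2 g⟩
      have hg' : g ∈ Subgroup.normalizer ((qc q K : Subgroup G) : Set G) := by
        rw [← cj_eq_iff]
        have e : cj g K = K := cj_eq_iff.2 (hOK hg)
        refine Subgroup.eq_of_le_of_card_ge ?_ (card_cj g _).ge
        refine le_qc ((cj_mono (qc_le q K)).trans e.le) ((isPGroup_qc q K).map _) ?_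
        conv_lhs => rw [← e]
        exact (Subgroup.map_mono (le_normalizer_qc q K)).trans (Subgroup.le_normalizer_map _)
      exact CoprimeAction.conj_mem hg' hx.1) ((isPGroup_qc q K).to_le inf_le_left)
    have hXbot : ∀ x ∈ K, x ∈ O → x = 1 := by
      intro x hxK hxO
      have hx' := hxK
      rw [← hsup, ← SetLike.mem_coe, Subgroup.coe_mul_of_right_le_normalizer_left _ A hAR] at hx'
      obtain ⟨r, hr, a, ha, rfl⟩ := hx'
      have hpow : ∀ n : ℕ, ∃ r' ∈ qc q K, (r * a) ^ n = r' * a ^ n := by
        intro n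
        induction n with
        | zero => exact ⟨1, one_mem _, by simp⟩
        | succ n ih =>
          obtain ⟨r', hr', e⟩ := ih
          refine ⟨r' * (a ^ n * r * (a ^ n)⁻¹),
            Subgroup.mul_mem _ hr' (CoprimeAction.conj_mem (hAR (pow_mem ha n)) hr), ?_⟩
          rw [pow_succ, e, pow_succ]
          group
      obtain ⟨r', hr', e⟩ := hpow p
      have hap : a ^ p = 1 := congrArg Subtype.val
        (show (⟨a, ha⟩ : A) ^ p = 1 by rw [← h.card A hA]; exact pow_card_eq_one')
      rw [hap, mul_one] at e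
      have hxp : (r * a) ^ p = 1 := by
        have : (r * a) ^ p ∈ qc q K ⊓ O := ⟨e ▸ hr', pow_mem hxO p⟩
        rwa [hRO, Subgroup.mem_bot] at this
      by_contra hx1
      haveI : Fact p.Prime := ⟨h.hp⟩
      have hord : Nat.card (Subgroup.zpowers (r * a)) = p := by
        rw [Nat.card_zpowers]; exact orderOf_eq_prime hxp hx1
      obtain ⟨k, hk⟩ := (isPGroup_qc q K).exists_card_eq
      obtain ⟨n, hn, hle⟩ := CoprimeAction.exists_le_conj_of_coprime hAR
        (B := Subgroup.zpowers (r * a)) (Subgroup.zpowers_le.2 (hsup.ge hxK))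
        (by rw [hord, hk]; exact ((Nat.coprime_primes h.hp h.hq).2 h.hpq.symm).pow_right k)
        (Or.inl (CoprimeAction.isSolvable_zpowers _))
      refine hnomem _ (h.conj A hA n) ?_
      have heq : Subgroup.zpowers (r * a) = cj n A :=
        Subgroup.eq_of_le_of_card_ge (fun y hy => by
          rw [mem_cj]; exact CoprimeAction.mem_conj_iff.1 (hle hy))
          (by rw [card_cj, h.card A hA, hord])
      rw [← heq]
      exact Subgroup.zpowers_le.2 hxO
    intro a ha
    refine Subgroup.mem_centralizer_iff.2 fun n hn => ?_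
    have hA' : cj n A ≤ K := le_span (h.conj A hA n)
      (cj_le (Subgroup.le_normalizer (Subgroup.mem_sup_left hn)) le_sup_right)
    have hc : ⁅n, a⁆ = 1 := hXbot _ (K.mul_mem (hA' (conj_mem_cj ha)) (inv_mem (hAK ha))) (by
      rw [commutatorElement_def, mul_assoc n a, mul_assoc n]
      exact O.mul_mem hn ((inferInstance : O.Normal).conj_mem _ (inv_mem hn) a))
    exact commutatorElement_eq_one_iff_mul_comm.1 hc
  refine hO (eq_bot_iff.2 (le_trans ?_ hcen.le))
  intro x hx
  refine Subgroup.mem_center_iff.2 fun g => ?_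
  have : (⊤ : Subgroup G) ≤ Subgroup.centralizer ({x} : Set G) := htop ▸ sSup_le fun A hA a ha =>
    Subgroup.mem_centralizer_singleton_iff.2 (Subgroup.mem_centralizer_iff.1 (hall A hA ha) x hx).symm
  exact Subgroup.mem_centralizer_singleton_iff.1 (this (Subgroup.mem_top g))

end Setting

theorem isSolvable_aux : ∀ (n : ℕ) (G : Type u) [Group G] [Finite G], Nat.card G = n →
    ∀ (p q : ℕ) (D : Set (Subgroup G)), Setting p q D → (AbLines q D ∨ Spec q D) → sSup D = ⊤ →
      Group.IsSolvable G := by
  intro n
  induction n using Nat.strong_induction_on with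
  | _ n ih =>
  intro G _ _ hn p q D h hH htop
  by_contra hns
  haveI : Fact q.Prime := ⟨h.hq⟩
  have hquot : ∀ (N : Subgroup G) [N.Normal], N ≠ ⊥ → Group.IsSolvable N →
      (IsPGroup q N ∨ N ≤ Subgroup.center G) → False := by
    intro N _ hN1 hNs hN
    have hker : ∀ A ∈ D, ¬ A ≤ (QuotientGroup.mk' N).ker := by
      intro A hA hle
      rw [QuotientGroup.ker_mk'] at hle
      rcases hN with hN | hN
      · exact h.ne_bot hA (by rw [← inf_eq_left.2 hle, h.inf_eq_bot hA hN])
      · refine hns (h.isSolvable_of_unique htop hA fun B hB => ?_)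
        by_contra hne
        refine h.not_le_centralizer hA hB (Ne.symm hne) fun b _ =>
          Subgroup.mem_centralizer_iff.2 fun a ha => ?_
        exact (Subgroup.mem_center_iff.1 (hN (hle ha)) b).symm
    have hsurj := QuotientGroup.mk'_surjective N
    haveI := ih _ (by
      rw [← hn, N.card_eq_card_quotient_mul_card_subgroup]
      exact lt_mul_of_one_lt_right Nat.card_pos (Subgroup.one_lt_card_iff_ne_bot N |>.2 hN1))
      (G ⧸ N) rfl p q (Subgroup.map (QuotientGroup.mk' N) '' D) (h.map hsurj hker)
      (hH.imp (fun ha => ha.map h hsurj hker)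
        (fun hs => hs.map h hsurj (by rwa [QuotientGroup.ker_mk'])))
      (by rw [sSup_image, ← (Subgroup.gc_map_comap _).l_sSup, htop,
        Subgroup.map_top_of_surjective _ hsurj])
    exact hns (Setting.isSolvable_of_quotient N)
  have hcen : Subgroup.center G = ⊥ := by
    by_contra hne
    exact hquot _ hne (Group.isSolvable_of_comm fun x y =>
      Subtype.ext (Subgroup.mem_center_iff.1 y.2 x)) (Or.inr le_rfl)
  have hodd : oddCore G = ⊥ := by
    by_contra hne
    haveI := (Cores.isPGroup_pCore q G).isNilpotent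
    exact hquot (pCore q G) (h.pCore_or_center_ne_bot htop hns hcen hne) inferInstance
      (Or.inl (Cores.isPGroup_pCore q G))
  refine Ctx.contradiction (D := D) ⟨h, htop, hns, fun K hK hKne => ?_, hcen, hodd⟩ hH
  exact ih _ (by
    rw [← hn]
    exact lt_of_le_of_ne (Subgroup.card_le_card_group K)
      fun e => hKne (Subgroup.eq_top_of_card_eq K e))
    K rfl p q _ (h.comap K) (hH.imp (fun ha => ha.comap K) (fun hs => hs.comap K))
    (Setting.sSup_comap hK)

/-- Groups generated by members are solvable. -/
theorem Setting.isSolvable {G : Type u} [Group G] [Finite G] {p q : ℕ} {D : Set (Subgroup G)}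
    (h : Setting p q D) (hH : AbLines q D ∨ Spec q D) (htop : sSup D = ⊤) : Group.IsSolvable G :=
  isSolvable_aux _ G rfl p q D h hH htop

end CfsgLib.OddLines
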