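/-
Subgroups of order `p` whose pairs generate one fixed group of odd order: the setting, and the
Frobenius structure of the group they generate.
-/
import Cfsg.Agent.Lib.OddLines.Main
import Cfsg.Agent.Lib.OddLines.Fpf

set_option autoImplicit false
set_option linter.style.haveILetI false

open scoped commutatorElement Pointwise
open Cfsg

namespace CfsgLib.OddLines

universe u

variable {G : Type*} [Group G] [Finite G] {p q : ℕ} {D : Set (Subgroup G)}

omit [Finite G] in
theorem le_centralizer_self_of_card_prime (hp : p.Prime) {A : Subgroup G} (hA : Nat.card A = p) :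
    A ≤ Subgroup.centralizer (A : Set G) := by
  haveI : Fact p.Prime := ⟨hp⟩
  haveI := isCyclic_of_prime_card hA
  intro a ha
  refine Subgroup.mem_centralizer_iff.2 fun b hb => ?_
  let := IsCyclic.commGroup (α := A)
  exact congrArg Subtype.val (mul_comm (⟨b, hb⟩ : A) ⟨a, ha⟩)

/-- The structure of a single line. -/
theorem line_structure (hp : p.Prime) (hsol : ∀ L : Subgroup G, Odd (Nat.card L) → Group.IsSolvable L)
    {A B : Subgroup G} (hA : Nat.card A = p) (hB : Nat.card B = p)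
    (hodd : Odd (Nat.card ↥(A ⊔ B)))
    (hcomm : ¬ B ≤ Subgroup.centralizer (A : Set G))
    (hgen : ∀ l ∈ A ⊔ B, cj l A ≠ A → A ⊔ cj l A = A ⊔ B) :
    ∃ l : ℕ, l.Prime ∧ l ≠ p ∧ IsPGroup l ↥(⁅A ⊔ B, A ⊔ B⁆) ∧ ⁅A ⊔ B, A ⊔ B⁆ ⊔ A = A ⊔ B ∧
      ⁅A ⊔ B, A ⊔ B⁆ ≠ ⊥ := by
  haveI : Fact p.Prime := ⟨hp⟩
  haveI hLs := hsol _ hodd
  set L := A ⊔ B with hL
  set L' := ⁅L, L⁆ with hL'
  have hAL : A ≤ L := le_sup_left
  have hBL : B ≤ L := le_sup_right
  have hL'L : L' ≤ L := Subgroup.commutator_le_self L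
  have hLn : L ≤ Subgroup.normalizer (L' : Set G) :=
    Subgroup.le_normalizer.trans (CoprimeAction.normalizer_le_normalizer_commutator L)
  obtain ⟨b, hbB, hb⟩ : ∃ b ∈ B, cj b A ≠ A := by
    by_contra hcon
    push Not at hcon
    have hBn : B ≤ Subgroup.normalizer (A : Set G) := fun b hb => cj_eq_iff.1 (hcon b hb)
    have hP : IsPGroup p ↥(A ⊔ B) := (IsPGroup.of_card (n := 1) (by rw [pow_one, hA])).to_sup_of_normal_left'
      (IsPGroup.of_card (n := 1) (by rw [pow_one, hB])) hBn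
    exact hcomm (le_sup_right.trans (le_centralizer_of_isPGroup_sup hp hA hP le_sup_left
      (sup_le Subgroup.le_normalizer hBn)))
  have hbL := hBL hbB
  have hAbA : A ⊔ cj b A = L := hgen b hbL hb
  have hsup : L' ⊔ A = L := by
    refine le_antisymm (sup_le hL'L hAL) ?_
    rw [← hAbA]
    refine sup_le le_sup_right fun x hx => ?_
    rw [mem_cj] at hx
    rw [show x = ⁅b, b⁻¹ * x * b⁆ * (b⁻¹ * x * b) by rw [commutatorElement_def]; group]
    exact Subgroup.mul_mem_sup (Subgroup.commutator_mem_commutator hbL (hAL hx)) hx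
  have hne : L ≠ ⊥ := fun e => hp.ne_one (by
    have : A = ⊥ := eq_bot_iff.2 (hAL.trans e.le)
    rw [this, Subgroup.card_bot] at hA
    exact hA.symm)
  have hlt : L' < L := CoprimeAction.commutator_lt_of_isSolvable L hne
  have hinf : A ⊓ L' = ⊥ := by
    rcases (Nat.dvd_prime hp).1 (hA ▸ Subgroup.card_dvd_of_le
      (inf_le_left : A ⊓ L' ≤ A)) with e | e
    · exact Subgroup.eq_bot_of_card_eq _ e
    · have hle : A ≤ L' := inf_eq_left.1 (Subgroup.eq_of_le_of_card_ge inf_le_left (by rw [e, hA]))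
      exact absurd (hsup.ge.trans (sup_le le_rfl hle)) hlt.not_ge
  have hL'1 : L' ≠ ⊥ := fun e => hcomm (by
    rw [e, bot_sup_eq] at hsup
    exact (hBL.trans hsup.ge).trans (le_centralizer_self_of_card_prime hp hA))
  -- a subgroup of `L'` normalized by `L` and not supplementing `A` is central
  have hsmall : ∀ V : Subgroup G, V ≤ L' → L ≤ Subgroup.normalizer (V : Set G) → V ⊔ A ≠ L →
      V ≤ Subgroup.centralizer (L : Set G) := by
    intro V hV hn hne'
    have hVA : V ≤ Subgroup.centralizer (A : Set G) := by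
      intro v hv
      have hfix : cj v A = A := by
        by_contra hvA
        refine hne' (le_antisymm (sup_le (hV.trans hL'L) hAL) ?_)
        rw [← hgen v (hL'L (hV hv)) hvA]
        exact sup_le le_sup_right (cj_le (Subgroup.le_normalizer (Subgroup.mem_sup_left hv)) le_sup_right)
      refine Subgroup.mem_centralizer_iff.2 fun a ha => ?_
      have hmem : ⁅v, a⁆ ∈ A ⊓ L' := ⟨A.mul_mem (CoprimeAction.conj_mem (cj_eq_iff.1 hfix) ha)
        (inv_mem ha), Subgroup.commutator_mem_commutator (hL'L (hV hv)) (hAL ha)⟩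
      rw [hinf, Subgroup.mem_bot, commutatorElement_eq_one_iff_mul_comm] at hmem
      exact hmem.symm
    rw [Subgroup.le_centralizer_iff, ← hAbA]
    refine sup_le (Subgroup.le_centralizer_iff.1 hVA) fun x hx => ?_
    rw [mem_cj] at hx
    refine Subgroup.mem_centralizer_iff.2 fun v hv => ?_
    have h1 := Subgroup.mem_centralizer_iff.1 (hVA (CoprimeAction.conj_mem' (hn hbL) hv)) _ hx
    calc v * x = b * (b⁻¹ * v * b * (b⁻¹ * x * b)) * b⁻¹ := by group
      _ = b * (b⁻¹ * x * b * (b⁻¹ * v * b)) * b⁻¹ := by rw [h1]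
      _ = x * v := by group
  have hL'' : ⁅L', L'⁆ ≤ Subgroup.centralizer (L : Set G) := by
    refine hsmall _ (Subgroup.commutator_le_self L')
      (hLn.trans (CoprimeAction.normalizer_le_normalizer_commutator L')) fun e => ?_
    haveI : Group.IsSolvable L' := CoprimeAction.isSolvable_of_le hL'L
    refine (CoprimeAction.commutator_lt_of_isSolvable L' hL'1).not_ge fun x hx => ?_
    have hx' := hL'L hx
    rw [← e, ← SetLike.mem_coe, Subgroup.coe_mul_of_right_le_normalizer_left _ A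
      (hAL.trans (hLn.trans (CoprimeAction.normalizer_le_normalizer_commutator L')))] at hx'
    obtain ⟨v, hv, a, ha, rfl⟩ := hx'
    have ha' : a ∈ A ⊓ L' := ⟨ha, (Subgroup.mul_mem_cancel_left L'
      (Subgroup.commutator_le_self L' hv)).1 hx⟩
    rw [hinf, Subgroup.mem_bot] at ha'
    simpa [ha'] using hv
  haveI hnil : Group.IsNilpotent L' :=
    Cores.isNilpotent_of_commutator_le_centralizer (hL''.trans (CoprimeAction.centralizer_mono hL'L))
  obtain ⟨l, hl, hle⟩ : ∃ l : ℕ, l.Prime ∧ qc l L' ⊔ A = L := by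
    by_contra hcon
    push Not at hcon
    have hall : L' ≤ Subgroup.centralizer (L : Set G) := by
      have h1 := Cores.fittingSubgroup_eq_top_iff.2 hnil
      rw [Cores.fittingSubgroup_eq_iSup_pCore] at h1
      have h2 := congrArg (Subgroup.map L'.subtype) h1
      rw [Subgroup.map_iSup, ← MonoidHom.range_eq_map, L'.range_subtype] at h2
      conv_lhs => rw [← h2]
      exact iSup_le fun l => hsmall _ (qc_le _ L')
        (hLn.trans (normalizer_le_normalizer_qc (l : ℕ) L'))
        (hcon l (Nat.prime_of_mem_primeFactors l.2))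
    refine hcomm (hBL.trans ?_)
    rw [← hsup]
    exact sup_le (hall.trans (CoprimeAction.centralizer_mono hAL)) (le_centralizer_self_of_card_prime hp hA)
  have hqn : L ≤ Subgroup.normalizer ((qc l L' : Subgroup G) : Set G) :=
    hLn.trans (normalizer_le_normalizer_qc l L')
  have hL'q : L' ≤ qc l L' := by
    intro x hx
    have hx' := hL'L hx
    rw [← hle, ← SetLike.mem_coe, Subgroup.coe_mul_of_right_le_normalizer_left _ A
      (hAL.trans hqn)] at hx'
    obtain ⟨v, hv, a, ha, rfl⟩ := hx'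
    have ha' : a ∈ A ⊓ L' := ⟨ha, (Subgroup.mul_mem_cancel_left L' (qc_le l L' hv)).1 hx⟩
    rw [hinf, Subgroup.mem_bot] at ha'
    simpa [ha'] using hv
  have hL'l : IsPGroup l L' := (isPGroup_qc l L').to_le hL'q
  refine ⟨l, hl, fun e => ?_, hL'l, hsup, hL'1⟩
  subst e
  haveI : Fact l.Prime := ⟨hl⟩
  have hLp : IsPGroup l ↥(L' ⊔ A) :=
    hL'l.to_sup_of_normal_left' (IsPGroup.of_card (n := 1) (by rw [pow_one, hA])) (hAL.trans hLn)
  rw [hsup] at hLp
  have h1 : L ≤ A := le_of_le_sup_commutator hLp hAL (by rw [sup_comm]; exact hsup.ge)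
  exact hcomm ((hBL.trans h1).trans (le_centralizer_self_of_card_prime hp hA))

/-- The hypotheses of the theorem give a setting. -/
theorem exists_setting (hG : ¬ IsMulCommutative G) (hp : p.Prime) (hp2 : p ≠ 2)
    (hDp : ∀ A ∈ D, Nat.card A = p) (hDinv : ∀ A ∈ D, ∀ g : G, cj g A ∈ D) (hDgen : sSup D = ⊤)
    {F : Type*} [Group F] [Finite F] (hF : Odd (Nat.card F))
    (hpair : ∀ A ∈ D, ∀ B ∈ D, A ≠ B → Nonempty (↥(A ⊔ B) ≃* F)) :
    ∃ q : ℕ, Setting p q D ∧ (AbLines q D ∨ Spec q D) ∧ ∃ A, A ∈ D := by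
  classical
  have hcard : ∀ A ∈ D, ∀ B ∈ D, A ≠ B → Nat.card ↥(A ⊔ B) = Nat.card F := fun A hA B hB hne => by
    obtain ⟨e⟩ := hpair A hA B hB hne
    exact Nat.card_congr e.toEquiv
  have hgen : ∀ A ∈ D, ∀ B ∈ D, A ≠ B → ∀ C ∈ D, ∀ E ∈ D, C ≤ A ⊔ B → E ≤ A ⊔ B → C ≠ E →
      C ⊔ E = A ⊔ B := fun A hA B hB hne C hC E hE hCL hEL hCE =>
    Subgroup.eq_of_le_of_card_ge (sup_le hCL hEL) (by rw [hcard A hA B hB hne, hcard C hC E hE hCE])
  have hnc : ∀ A ∈ D, ∀ B ∈ D, A ≠ B → ¬ B ≤ Subgroup.centralizer (A : Set G) := by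
    intro A hA B hB hne hc
    have hL : A ⊔ B ≤ Subgroup.centralizer ((A ⊔ B : Subgroup G) : Set G) := by
      have h1 : A ⊔ B ≤ Subgroup.centralizer (A : Set G) :=
        sup_le (le_centralizer_self_of_card_prime hp (hDp A hA)) hc
      have h2 : A ⊔ B ≤ Subgroup.centralizer (B : Set G) :=
        sup_le (Subgroup.le_centralizer_iff.1 hc) (le_centralizer_self_of_card_prime hp (hDp B hB))
      exact Subgroup.le_centralizer_iff.1 (sup_le (Subgroup.le_centralizer_iff.1 h1)
        (Subgroup.le_centralizer_iff.1 h2))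
    obtain ⟨e⟩ := hpair A hA B hB hne
    have hFc : ∀ x y : F, x * y = y * x := fun x y => by
      have := congrArg e (Subtype.ext (Subgroup.mem_centralizer_iff.1 (hL (e.symm y).2) _ (e.symm x).2) :
        e.symm x * e.symm y = e.symm y * e.symm x)
      simpa using this
    refine hG ⟨⟨fun x y => ?_⟩⟩
    have hall : (⊤ : Subgroup G) ≤ Subgroup.centralizer ((⊤ : Subgroup G) : Set G) := by
      conv_lhs => rw [← hDgen]
      refine sSup_le fun C hC => Subgroup.le_centralizer_iff.1 ?_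
      rw [← hDgen]
      refine sSup_le fun E hE => ?_
      rcases eq_or_ne C E with rfl | hCE
      · exact le_centralizer_self_of_card_prime hp (hDp C hC)
      obtain ⟨f⟩ := hpair C hC E hE hCE
      intro u hu
      refine Subgroup.mem_centralizer_iff.2 fun v hv => ?_
      exact congrArg Subtype.val (f.injective (by rw [map_mul, map_mul, hFc]) :
        (⟨v, Subgroup.mem_sup_left hv⟩ : ↥(C ⊔ E)) * ⟨u, Subgroup.mem_sup_right hu⟩ =
          ⟨u, Subgroup.mem_sup_right hu⟩ * ⟨v, Subgroup.mem_sup_left hv⟩)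
    exact (Subgroup.mem_centralizer_iff.1 (hall (Subgroup.mem_top x)) y (Subgroup.mem_top y)).symm
  obtain ⟨A₀, hA₀, B₀, hB₀, hne₀⟩ : ∃ A ∈ D, ∃ B ∈ D, A ≠ B := by
    by_contra hcon
    push Not at hcon
    refine hG ⟨⟨fun x y => ?_⟩⟩
    have hall : (⊤ : Subgroup G) ≤ Subgroup.centralizer ((⊤ : Subgroup G) : Set G) := by
      conv_lhs => rw [← hDgen]
      refine sSup_le fun C hC => Subgroup.le_centralizer_iff.1 ?_
      rw [← hDgen]
      refine sSup_le fun E hE => ?_
      rw [hcon E hE C hC]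
      exact le_centralizer_self_of_card_prime hp (hDp C hC)
    exact (Subgroup.mem_centralizer_iff.1 (hall (Subgroup.mem_top x)) y (Subgroup.mem_top y)).symm
  have hline : ∀ A ∈ D, ∀ B ∈ D, A ≠ B → ∃ l : ℕ, l.Prime ∧ l ≠ p ∧
      IsPGroup l ↥(⁅A ⊔ B, A ⊔ B⁆) ∧ ⁅A ⊔ B, A ⊔ B⁆ ⊔ A = A ⊔ B ∧ ⁅A ⊔ B, A ⊔ B⁆ ≠ ⊥ :=
    fun A hA B hB hne => line_structure hp (fun L hL => Cfsg.Agent.S0205.result hL) (hDp A hA)
      (hDp B hB) (hcard A hA B hB hne ▸ hF) (hnc A hA B hB hne) fun l hl hlA =>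
        hgen A hA B hB hne A hA _ (hDinv A hA l) le_sup_left
          (cj_le (Subgroup.le_normalizer hl) le_sup_left) (Ne.symm hlA)
  obtain ⟨q, hq, hqp, hQ₀, hs₀, hn₀⟩ := hline A₀ hA₀ B₀ hB₀ hne₀
  have hqF : q ∣ Nat.card F := by
    haveI : Fact q.Prime := ⟨hq⟩
    obtain ⟨k, hk⟩ := hQ₀.exists_card_eq
    rw [← hcard A₀ hA₀ B₀ hB₀ hne₀]
    refine (dvd_pow_self q (n := k) fun e => hn₀ ?_).trans
      (hk ▸ Subgroup.card_dvd_of_le (Subgroup.commutator_le_self _))
    rw [e, pow_zero] at hk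
    exact Subgroup.eq_bot_of_card_eq _ hk
  have hq2 : q ≠ 2 := by
    rintro rfl
    exact hF.not_two_dvd_nat hqF
  have hunif : ∀ A ∈ D, ∀ B ∈ D, A ≠ B → IsPGroup q ↥(⁅A ⊔ B, A ⊔ B⁆) ∧
      ⁅A ⊔ B, A ⊔ B⁆ ⊔ A = A ⊔ B := by
    intro A hA B hB hne
    obtain ⟨l, hl, -, hQ, hs, -⟩ := hline A hA B hB hne
    refine ⟨?_, hs⟩
    haveI : Fact l.Prime := ⟨hl⟩
    obtain ⟨k, hk⟩ := hQ.exists_card_eq
    haveI : (⁅A ⊔ B, A ⊔ B⁆.subgroupOf (A ⊔ B)).Normal :=
      (Subgroup.normal_subgroupOf_iff_le_normalizer (Subgroup.commutator_le_self _)).2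
        (Subgroup.le_normalizer.trans (CoprimeAction.normalizer_le_normalizer_commutator _))
    have hd : Nat.card ↥(A ⊔ B) ∣ p * l ^ k := by
      have h1 := Cores.card_sup_dvd (A.subgroupOf (A ⊔ B)) (⁅A ⊔ B, A ⊔ B⁆.subgroupOf (A ⊔ B))
      rwa [← Subgroup.subgroupOf_sup le_sup_left (Subgroup.commutator_le_self _), sup_comm A ⁅_, _⁆,
        hs, Subgroup.subgroupOf_self, Subgroup.card_top,
        Nat.card_congr (Subgroup.subgroupOfEquivOfLe (le_sup_left : A ≤ A ⊔ B)).toEquiv,
        Nat.card_congr (Subgroup.subgroupOfEquivOfLe (Subgroup.commutator_le_self (A ⊔ B))).toEquiv,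
        hDp A hA, hk] at h1
    have hql : q = l := by
      rcases (Nat.Prime.dvd_mul hq).1 ((hqF.trans (hcard A hA B hB hne).symm.dvd).trans hd) with h | h
      · exact absurd ((Nat.prime_dvd_prime_iff_eq hq hp).1 h) hqp
      · exact (Nat.prime_dvd_prime_iff_eq hq hl).1 (hq.dvd_of_dvd_pow h)
    exact hql ▸ hQ
  have h : Setting p q D := ⟨hp, hq, hqp, hp2, hq2, hDp, hDinv, fun A hA B hB hne =>
    ⟨_, (hunif A hA B hB hne).1,
      Subgroup.le_normalizer.trans (CoprimeAction.normalizer_le_normalizer_commutator _),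
      (hunif A hA B hB hne).2⟩, hgen⟩
  refine ⟨q, h, ?_, A₀, hA₀⟩
  -- the second derived subgroup of the lines is that of `F`
  have hder : ∀ A ∈ D, ∀ B ∈ D, A ≠ B →
      (⁅⁅A ⊔ B, A ⊔ B⁆, ⁅A ⊔ B, A ⊔ B⁆⁆ = ⊥ ↔ ⁅commutator F, commutator F⁆ = ⊥) := by
    intro A hA B hB hne
    obtain ⟨e⟩ := hpair A hA B hB hne
    set L := A ⊔ B
    have h1 : (commutator L).map e.toMonoidHom = commutator F := by
      rw [commutator_def, commutator_def, Subgroup.map_commutator,
        Subgroup.map_top_of_surjective _ e.surjective]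
    rw [← h1, ← Subgroup.map_subtype_commutator L, ← Subgroup.map_commutator,
      ← Subgroup.map_commutator, Subgroup.map_eq_bot_iff_of_injective _ L.subtype_injective,
      Subgroup.map_eq_bot_iff_of_injective _ e.injective]
  by_cases hFab : ⁅commutator F, commutator F⁆ = ⊥
  · left
    intro A hA B hB hne Q hQL hQq
    have hle : Q ≤ ⁅A ⊔ B, A ⊔ B⁆ := h.qgroup_le hA (hunif A hA B hB hne).1
      (le_sup_left.trans (Subgroup.le_normalizer.trans
        (CoprimeAction.normalizer_le_normalizer_commutator _)))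
      hQq (hQL.trans (hunif A hA B hB hne).2.ge)
    exact eq_bot_iff.2 ((Subgroup.commutator_mono hle hle).trans ((hder A hA B hB hne).2 hFab).le)
  · right
    intro A hA R hR hAR hRgen
    haveI : Fact q.Prime := ⟨hq⟩
    refine derived_le_centralizer hR hAR hRgen fun V hVR hVab hAV v hv => ?_
    have hfix : cj v A = A := by
      by_contra hne
      refine hFab ((hder A hA _ (hDinv A hA v) (Ne.symm hne)).1 ?_)
      have hLV : A ⊔ cj v A ≤ V ⊔ A :=
        sup_le le_sup_right (cj_le (Subgroup.le_normalizer (Subgroup.mem_sup_left hv)) le_sup_right)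
      have hle := h.qgroup_le hA (hR.to_le hVR) hAV (hunif A hA _ (hDinv A hA v) (Ne.symm hne)).1
        ((Subgroup.commutator_le_self _).trans hLV)
      exact eq_bot_iff.2 ((Subgroup.commutator_mono hle hle).trans hVab.le)
    refine Subgroup.mem_centralizer_iff.2 fun a ha => ?_
    have hmem : ⁅v, a⁆ ∈ A ⊓ R := by
      refine ⟨A.mul_mem (CoprimeAction.conj_mem (cj_eq_iff.1 hfix) ha) (inv_mem ha), ?_⟩
      rw [commutatorElement_def, mul_assoc v a, mul_assoc v]
      exact R.mul_mem (hVR hv) (CoprimeAction.conj_mem (hAR ha) (inv_mem (hVR hv)))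
    rw [h.inf_eq_bot hA hR, Subgroup.mem_bot, commutatorElement_eq_one_iff_mul_comm] at hmem
    exact hmem.symm

/-- The conclusion. -/
theorem frobenius_quotient {G : Type u} [Group G] [Finite G] {p q : ℕ} {D : Set (Subgroup G)}
    (h : Setting p q D) (hH : AbLines q D ∨ Spec q D) (htop : sSup D = ⊤) {A : Subgroup G}
    (hA : A ∈ D) (hG : ¬ IsMulCommutative G) :
    Odd (Nat.card (G ⧸ Subgroup.center G)) ∧
      ∃ H : Subgroup (G ⧸ Subgroup.center G), IsFrobeniusComplement H := by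
  haveI : Fact q.Prime := ⟨h.hq⟩
  haveI : Fact p.Prime := ⟨h.hp⟩
  haveI := h.isSolvable hH htop
  have hspan : span D (⊤ : Subgroup G) = ⊤ := by
    refine le_antisymm le_top ?_
    conv_lhs => rw [← htop]
    exact sSup_le fun B hB => le_span hB le_top
  set R := qc q (⊤ : Subgroup G) with hR
  have hRq : IsPGroup q R := isPGroup_qc q ⊤
  haveI hRn : R.Normal := Subgroup.normalizer_eq_top_iff.1 (top_le_iff.1 (le_normalizer_qc q ⊤))
  obtain ⟨hsup, hgen⟩ := h.struct (K := ⊤) hspan inferInstance hA le_top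
  have hAR : ∀ B : Subgroup G, B ≤ Subgroup.normalizer (R : Set G) := fun B => by
    rw [Subgroup.normalizer_eq_top]; exact le_top
  obtain ⟨a, hap, -, haA⟩ := h.zpowers_eq hA
  have hCA : Subgroup.centralizer (A : Set G) = Subgroup.centralizer ({a} : Set G) := by
    rw [← haA, Subgroup.zpowers_eq_closure, Subgroup.centralizer_closure]
  -- fixed points are central
  have hfix : R ⊓ Subgroup.centralizer (A : Set G) ≤ Subgroup.center G := by
    rcases hH with hab | hs
    · rw [hCA, fixed_eq_bot_of_commute h.hp h.hp2 h.hq h.hpq R a hRq hap (haA ▸ hsup) (haA ▸ hgen)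
        fun u hu => ?_]
      · exact bot_le
      have hRc : ∀ v : G, v ∈ R → a * v * a⁻¹ ∈ R := fun v hv => hRn.conj_mem v hv a
      by_cases hfx : cj u A = A
      · have hmem : ⁅a, u⁆ ∈ A ⊓ R := by
          refine ⟨?_, R.mul_mem (hRc u hu) (inv_mem hu)⟩
          rw [commutatorElement_def, mul_assoc a u, mul_assoc a]
          exact A.mul_mem (haA ▸ Subgroup.mem_zpowers a) (CoprimeAction.conj_mem (cj_eq_iff.1 hfx)
            (inv_mem (haA ▸ Subgroup.mem_zpowers a)))
        rw [h.inf_eq_bot hA hRq, Subgroup.mem_bot] at hmem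
        rw [hmem]
        exact Commute.one_left _
      · have hB := h.conj A hA u
        set Q := R ⊓ (A ⊔ cj u A)
        have hQab := hab A hA _ hB (Ne.symm hfx) Q inf_le_right (hRq.to_le inf_le_left)
        have haL : a ∈ A ⊔ cj u A := Subgroup.mem_sup_left (haA ▸ Subgroup.mem_zpowers a)
        have hv : ⁅a, u⁆ ∈ Q := ⟨R.mul_mem (hRc u hu) (inv_mem hu), by
          rw [commutatorElement_def, mul_assoc a u, mul_assoc a]
          exact Subgroup.mul_mem _ haL (Subgroup.mem_sup_right (conj_mem_cj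
            (inv_mem (haA ▸ Subgroup.mem_zpowers a))))⟩
        have hv' : a * ⁅a, u⁆ * a⁻¹ ∈ Q :=
          ⟨hRc _ hv.1, Subgroup.mul_mem _ (Subgroup.mul_mem _ haL hv.2) (inv_mem haL)⟩
        exact commutatorElement_eq_one_iff_mul_comm.1 (Subgroup.mem_bot.1
          (hQab.le (Subgroup.commutator_mem_commutator hv hv')))
    · obtain ⟨k, hk⟩ := hRq.exists_card_eq
      have h1 : R ⊓ Subgroup.centralizer (A : Set G) ≤ ⁅R, R⁆ := by
        rw [hCA]
        exact centralizer_inf_le_commutator hap (hAR A (haA ▸ Subgroup.mem_zpowers a))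
          (hk ▸ ((Nat.coprime_primes h.hq h.hp).2 h.hpq).pow_left k) (haA ▸ hgen.ge)
      refine h1.trans fun x hx => Subgroup.mem_center_iff.2 fun g => ?_
      have : (⊤ : Subgroup G) ≤ Subgroup.centralizer ({x} : Set G) := htop ▸ sSup_le fun B hB b hb =>
        Subgroup.mem_centralizer_singleton_iff.2 (Subgroup.mem_centralizer_iff.1
          (hs B hB R hRq (hAR B) (h.struct (K := ⊤) hspan inferInstance hB le_top).2 hx) b hb)
      exact Subgroup.mem_centralizer_singleton_iff.1 (this (Subgroup.mem_top g))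
  refine ⟨?_, ?_⟩
  · obtain ⟨k, hk⟩ := hRq.exists_card_eq
    have hd : Nat.card G ∣ q ^ k * p := by
      have h1 := Cores.card_sup_dvd A R
      rw [sup_comm, hsup, Subgroup.card_top, h.card A hA, hk, mul_comm] at h1
      exact h1
    exact ((h.hq.odd_of_ne_two h.hq2).pow.mul (h.hp.odd_of_ne_two h.hp2)).of_dvd_nat
      ((Subgroup.card_quotient_dvd_card _).trans hd)
  set Z := Subgroup.center G
  set π := QuotientGroup.mk' Z
  have hAc : A ≤ Subgroup.centralizer (A : Set G) := le_centralizer_self_of_card_prime h.hp (h.card A hA)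
  have hsupA : A ⊔ Z ≤ Subgroup.centralizer (A : Set G) :=
    sup_le hAc (Subgroup.center_le_centralizer _)
  refine ⟨A.map π, ?_, ?_, ?_⟩
  · intro e
    rw [Subgroup.map_eq_bot_iff, QuotientGroup.ker_mk'] at e
    have huniq : ∀ B ∈ D, B = A := fun B hB => by
      by_contra hne
      exact h.not_le_centralizer hA hB (Ne.symm hne) fun b _ =>
        Subgroup.mem_centralizer_iff.2 fun x hx => (Subgroup.mem_center_iff.1 (e hx) b).symm
    have hAtop : (⊤ : Subgroup G) ≤ A := htop ▸ sSup_le fun B hB => (huniq B hB).le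
    exact hG ⟨⟨fun x y => (Subgroup.mem_center_iff.1 (e (hAtop (Subgroup.mem_top y))) x)⟩⟩
  · intro e
    have h1 : (⊤ : Subgroup G) ≤ A ⊔ Z := by
      have := congrArg (Subgroup.comap π) e
      rw [Subgroup.comap_map_eq, QuotientGroup.ker_mk', Subgroup.comap_top] at this
      exact this.ge
    refine hG ⟨⟨fun x y => ?_⟩⟩
    have hx := h1 (Subgroup.mem_top x)
    have hy := h1 (Subgroup.mem_top y)
    rw [Subgroup.mem_sup_of_normal_right] at hx hy
    obtain ⟨a1, ha1, z1, hz1, rfl⟩ := hx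
    obtain ⟨a2, ha2, z2, hz2, rfl⟩ := hy
    have c1 : Commute a1 a2 := Subgroup.mem_centralizer_iff.1 (hAc ha2) a1 ha1
    have c2 : ∀ g : G, Commute g z1 := Subgroup.mem_center_iff.1 hz1
    have c3 : ∀ g : G, Commute g z2 := Subgroup.mem_center_iff.1 hz2
    exact ((c1.mul_right (c3 a1)).mul_left ((c2 a2).symm.mul_right (c3 z1))).eq
  · intro g hg
    obtain ⟨g, rfl⟩ := QuotientGroup.mk'_surjective Z g
    have hcardH : Nat.card (A.map π) = p := by
      rcases (Nat.dvd_prime h.hp).1 (h.card A hA ▸ Subgroup.card_map_dvd A π) with e | e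
      · exfalso
        refine hg ?_
        have := Subgroup.eq_bot_of_card_eq _ e
        rw [Subgroup.map_eq_bot_iff, QuotientGroup.ker_mk'] at this
        exfalso
        have huniq : ∀ B ∈ D, B = A := fun B hB => by
          by_contra hne
          exact h.not_le_centralizer hA hB (Ne.symm hne) fun b _ =>
            Subgroup.mem_centralizer_iff.2 fun x hx => (Subgroup.mem_center_iff.1 (this hx) b).symm
        have hAtop : (⊤ : Subgroup G) ≤ A := htop ▸ sSup_le fun B hB => (huniq B hB).le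
        exact hG ⟨⟨fun x y => (Subgroup.mem_center_iff.1 (this (hAtop (Subgroup.mem_top y))) x)⟩⟩
      · exact e
    by_contra hne
    have hle : A.map π ≤ MulAut.conj (π g) • A.map π := by
      refine inf_eq_left.1 (Subgroup.eq_of_le_of_card_ge inf_le_left ?_)
      rcases (Nat.dvd_prime h.hp).1 (hcardH ▸ Subgroup.card_dvd_of_le
        (inf_le_left : A.map π ⊓ (MulAut.conj (π g) • A.map π) ≤ A.map π)) with e | e
      · exact absurd (Subgroup.eq_bot_of_card_eq _ e) hne
      · rw [e, hcardH]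
    apply hg
    have hg' := Subgroup.mem_top g
    rw [← hsup, ← SetLike.mem_coe, Subgroup.coe_mul_of_right_le_normalizer_left R A (hAR A)] at hg'
    obtain ⟨r, hr, a', ha', rfl⟩ := hg'
    suffices hrZ : r ∈ Z by
      refine ⟨a', ha', ?_⟩
      show π a' = π (r * a')
      rw [map_mul, show π r = 1 from (QuotientGroup.eq_one_iff r).2 hrZ, one_mul]
    refine hfix ⟨hr, ?_⟩
    have hB := h.conj A hA (r * a')⁻¹
    have hBle : cj (r * a')⁻¹ A ≤ A ⊔ Z := by
      intro x hx
      rw [mem_cj, inv_inv] at hx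
      have h1 : π (r * a' * x * (r * a')⁻¹) ∈ MulAut.conj (π (r * a')) • A.map π :=
        hle (Subgroup.mem_map_of_mem π hx)
      rw [CoprimeAction.mem_conj_iff, ← map_inv, ← map_mul, ← map_mul,
        show (r * a')⁻¹ * (r * a' * x * (r * a')⁻¹) * (r * a') = x by group] at h1
      have h2 : x ∈ (A.map π).comap π := h1
      rwa [Subgroup.comap_map_eq, QuotientGroup.ker_mk'] at h2
    have heq : cj (r * a')⁻¹ A = A := by
      by_contra hne'
      exact h.not_le_centralizer hA hB (Ne.symm hne') (hBle.trans hsupA)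
    have hr' : cj r A = A := by
      have h1 : cj a' A = A := cj_eq_iff.2 (Subgroup.le_normalizer ha')
      have h2 : cj (r * a') A = A := by
        conv_lhs => rw [← heq]
        rw [cj_cj_inv]
      rwa [cj_mul, h1] at h2
    refine Subgroup.mem_centralizer_iff.2 fun x hx => ?_
    have hmem : ⁅r, x⁆ ∈ A ⊓ R := by
      refine ⟨A.mul_mem (CoprimeAction.conj_mem (cj_eq_iff.1 hr') hx) (inv_mem hx), ?_⟩
      rw [commutatorElement_def, mul_assoc r x, mul_assoc r]
      exact R.mul_mem hr (hRn.conj_mem _ (inv_mem hr) x)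
    rw [h.inf_eq_bot hA hRq, Subgroup.mem_bot, commutatorElement_eq_one_iff_mul_comm] at hmem
    exact hmem.symm

end CfsgLib.OddLines
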